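/-
Quasithin groups of even type: the properties of components used in the standard form proof.
-/
import Cfsg.Agent.CmpT.T9
set_option autoImplicit false
set_option linter.unusedSectionVars false

namespace CF.Q16
open Subgroup Cfsg CF.BG CF.Sig CF.CT CF.CmpT CF.PG CF.Bender CF.SM
open CF.ZD (iv_pi)
open scoped commutatorElement

universe u
variable {G : Type*} [Group G]

/-- strongly quasithin -/
def SQ (H : Subgroup G) : Prop := ∀ p : ℕ, p.Prime → p ≠ 2 → pRank p H ≤ 2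

/-- order of `L / Z(L)` -/
noncomputable abbrev nb (L : Subgroup G) : ℕ := (𝐂 L).relIndex L

/-- `L` is a component of the centralizer in `K` of an involution acting non-trivially -/
structure VP (K : Subgroup G) (θ : G) (L : Subgroup G) : Prop where
  iv : Iv θ
  nm : θ ∈ 𝐍 K
  nc : θ ∉ 𝐂 K
  cp : Comp L (K ⊓ 𝐂₁ θ)

/-- the generic components -/
structure GenK (K : Subgroup G) : Prop where
  n1 : ∀ {θ L U y}, VP K θ L → Syl 2 U K → y ∈ 𝐍 K → y ∈ 𝐍 U → U ≤ 𝐍 (zpowers y) → y ^ 4 = 1 →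
    y ^ 2 ∈ 𝐂 K
  n2 : ∀ {θ L U}, VP K θ L → Syl 2 U K → θ ∈ 𝐍 U → ¬ I2 (𝐂₁ θ) U
  n3 : ∀ {θ L w}, VP K θ L → PiElt {2} w → w ∈ 𝐍 K → w ∈ 𝐂₁ θ → w ∈ 𝐂 L → w ∈ 𝐂 K ∨ w * θ ∈ 𝐂 K
  n4 : ∀ {θ L a M}, VP K θ L → PiElt {2} a → a ∈ L → a ∉ 𝐂 L → ¬ Comp M (L ⊓ 𝐂₁ a)

/-- the subgroup generated by the elements of order `p` -/
def Ep (p : ℕ) (A : Subgroup G) : Subgroup G := closure {x | x ∈ A ∧ x ^ p = 1}

/-- the shape of the components inside an exceptional component -/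
def E3 (p : ℕ) (F : Prop) (L : Subgroup G) : Prop :=
  (p = 3 ∧ (nb L = 60 ∨ nb L = 168 ∨ nb L = 360 ∨
    F ∧ Nonempty (L ⧸ center L ≃* alternatingGroup (Fin 8)))) ∨ (p = 5 ∧ nb L ∣ 116480)

/-- centralizer of a 2-central involution acting on an exceptional component -/
structure Cen (p : ℕ) (F : Prop) (K : Subgroup G) (α : G) : Prop where
  nc : ∀ M, ¬ Comp M (K ⊓ 𝐂₁ α)
  dv : p ∣ ♯(K ⊓ 𝐂₁ α)
  nd : ¬ p ^ 2 ∣ ♯(K ⊓ 𝐂₁ α)
  c1 : ∀ β ∈ 𝐍 K, PiElt {2} β → (p = 5 ∨ β * β = 1) → β ∈ 𝐂₁ α → β ∈ 𝐂 (Ep p (K ⊓ 𝐂₁ α)) →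
    β ∈ 𝐂 K ∨ β * α ∈ 𝐂 K
  d3 : p = 3 → 16 ∣ nb (Ep p (K ⊓ 𝐂₁ α)) ∧ (F → 128 ∣ ♯(Ep p (K ⊓ 𝐂₁ α)))
  d5 : p = 5 → 3 ∣ ♯(Ep p (K ⊓ 𝐂₁ α))

/-- the exceptional components (`M12`, `J2`, `HS`, `Ru` modulo the centre) -/
structure ExcK (p : ℕ) (F : Prop) (K : Subgroup G) : Prop where
  p35 : p = 3 ∨ p = 5
  rk : 2 ≤ pRank p K
  big : 95040 ≤ nb K ∧ 3 ∣ nb K
  out : ∀ x ∈ 𝐍 K, x ^ p = 1 → x ∈ K ⊔ 𝐂 K
  e5 : ∃ a ∈ K, PiElt {2} a ∧ a ∉ 𝐂 K ∧ ∃ M, Comp M (K ⊓ 𝐂₁ a)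
  cen : ∀ {α U}, Iv α → α ∈ 𝐍 K → α ∉ 𝐂 K → Syl 2 U K → α ∈ 𝐂 U → Cen p F K α
  e3 : ∀ {θ L}, VP K θ L → E3 p F L
  f5 : p = 5 → ∀ v ∈ K, PiElt {2} v → v ∉ 𝐂 K → v * v ∈ 𝐂 K → ∀ B ≤ K,
    B ≤ 𝐂 (Ep p (K ⊓ 𝐂₁ v)) → (𝐂 K).relIndex B ≤ 4

/-- a four-group permuted by an element of order three -/
structure F4 (L : Subgroup G) (τ a b l : G) : Prop where
  ha : a ∈ L
  hb : b ∈ L
  hl : l ∈ L
  ia : Iv a
  ib : Iv b
  ne : a ≠ b
  ab : a * b = b * a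
  ta : a ∈ 𝐂₁ τ
  tb : b ∈ 𝐂₁ τ
  l3 : l ^ 3 = 1
  la : l * a * l⁻¹ = b
  lb : l * b * l⁻¹ = a * b

/-- the small components -/
structure Sm (p : ℕ) (F : Prop) (L : Subgroup G) : Prop where
  out : ∀ x ∈ 𝐍 L, x ^ p = 1 → x ∈ L ⊔ 𝐂 L
  dv : p ∣ ♯L
  d3 : p = 3 → ¬ 16 ∣ nb L ∨ F ∧ ¬ 128 ∣ ♯L
  d5 : p = 5 → ¬ 3 ∣ ♯L
  ty : 2 ≤ pRank p L ∨
    (p = 3 ∧ ∀ τ, Iv τ → τ ∈ 𝐍 L → τ ∉ 𝐂 L →
      (∃ x ∈ L, x ≠ 1 ∧ x ^ 3 = 1 ∧ x ∈ 𝐂₁ τ) ∨ ∃ a b l, F4 L τ a b l) ∨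
    (p = 5 ∧ ∀ τ, Iv τ → τ ∈ 𝐍 L → τ ∉ 𝐂 L →
      ∃ B ≤ L ⊓ 𝐂₁ τ, PiGrp {2} B ∧ 8 < (𝐂 L).relIndex B)

variable (G) in
/-- the hypotheses used by the local argument -/
structure Ctx : Prop where
  e1 : ∀ {t : G}, Iv t → 𝐎 {2}ᶜ (𝐂₁ t) = ⊥
  sq : ∀ {D : Subgroup G}, PiGrp {2} D → D ≠ ⊥ → SQ (𝐍 D)
  four : ∀ {t : G} {K}, Iv t → Comp K (𝐂₁ t) → Four K
  good : ∀ {t : G} {K}, Iv t → Comp K (𝐂₁ t) → GenK K ∨ ∃ p F, ExcK p F K
  sm : ∀ {t : G} {L p F}, Iv t → Comp L (𝐂₁ t) → E3 p F L → Sm p F L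

variable [Finite G]
variable {A B D E H J K L M N P Q R S T U W X Y : Subgroup G}
  {a b c d e g h k l r s t u v w x y z : G} {p : ℕ} {F : Prop}

theorem iv_of (h : orderOf t = 2) : Iv t := ⟨ne_of h, by rw [← pow_two, sq_of h]⟩

theorem _root_.CF.Bender.Iv.pe (h : Iv t) : PiElt {2} t := piGrp_zpowers.1 (iv_pi h)

theorem _root_.CF.Bender.Iv.pow2 (h : Iv t) : t ^ 2 = 1 := by rw [pow_two, h.sq]

theorem cjc (h : Comp K H) (hx : x ∈ H) (n : x ∉ 𝐍 K) : cj x K ≤ 𝐂 K :=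
  (h.cj_of_norm (le_norm_self H hx)).cent_of_ne h fun e => n (cj_eq_self.1 e)

theorem ex_iv (k : PiElt {2} x) (n : x ≠ 1) : ∃ e ∈ zpowers x, Iv e := by
  obtain ⟨s, hs, o⟩ := exists_inv (K := zpowers x) fun q =>
    n ((k.zpowers.eq_bot q).le (mem_zpowers x))
  exact ⟨s, hs, iv_of o⟩

theorem Cyc.iv_eq (c : Cyc Y) (ha : a ∈ Y) (hb : b ∈ Y) (ia : Iv a) (ib : Iv b) : a = b := by
  have e := c.eq_of_card (zpowers_le.2 ha) (zpowers_le.2 hb) (ia.card.trans ib.card.symm)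
  exact (mem_zp2 ib.pow2 (e ▸ mem_zpowers a)).resolve_left ia.ne

theorem not_four_cyc (c : Cyc Y) : ¬ Four Y := fun ⟨_, ha, _, hb, ia, ib, n, _⟩ =>
  n (Cyc.iv_eq c ha hb ia ib)

/-- a Sylow subgroup of a perfect group is not cyclic modulo the centre -/
theorem no_cyc (pf : ⁅D, D⁆ = D) (f : Four D) (hU : Syl 2 U D) (c : Cyc (qt (𝐂 D) U)) : False := by
  have n : U ≤ 𝐍 (𝐂 D) := hU.le.trans ((le_norm_self D).trans (norm_le_norm_cent D))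
  obtain ⟨u, hu, l⟩ := (cyc_qt_iff n).1 c
  have nu : zpowers u ≤ 𝐍 (𝐂 D) := zpowers_le.2 (n hu)
  have ab : Abel U := by
    have : U ≤ (𝐂 D ⊓ U) ⊔ zpowers u := by
      rw [← sup_inf_right (zpowers_le.2 hu) (.inr nu)]; exact le_inf l le_rfl
    refine this.trans (sup_le (inf_le_left.trans (cent_anti hU.le)) (cent_symm (this.trans
      (sup_le (inf_le_left.trans (cent_anti (zpowers_le.2 (hU.le hu)))) (abel_zpowers u)))))
  refine not_four_cyc ((cyc_zpowers u).mono fun x hx => ?_) (f.syl hU)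
  obtain ⟨a, ha, b, hb, rfl⟩ := (mem_sup_norm' nu).1 (l hx)
  have : a ∈ U := by simpa using mul_mem hx (inv_mem (zpowers_le.2 hu hb))
  rwa [zt_abel pf hU ab this ha, one_mul]

theorem no_i2 (pf : ⁅D, D⁆ = D) (f : Four D) (hU : Syl 2 U D) (i : I2 (𝐂 D) U) : False := by
  have n : U ≤ 𝐍 (𝐂 D) := hU.le.trans ((le_norm_self D).trans (norm_le_norm_cent D))
  refine no_cyc pf f hU ((cyc_qt_iff n).2 ?_)
  by_cases q : U ≤ 𝐂 D
  · exact ⟨1, one_mem _, q.trans le_sup_left⟩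
  obtain ⟨u, hu, nu⟩ := SetLike.not_le_iff_exists.1 q
  refine ⟨u, hu, fun x hx => by_contra fun m => m ?_⟩
  have := mul_mem (mem_sup_left (i.mul_inv hx hu (fun j => m (mem_sup_left j)) nu))
    (mem_sup_right (S := 𝐂 D) (mem_zpowers u))
  simpa using this

/-- a normal cyclic subgroup of a Sylow subgroup normalizes the components -/
theorem nc_norm (h : Comp D H) (f : Four D) (hQ : Syl 2 Q H) (hy : y ∈ Q) (n : Q ≤ 𝐍 (zpowers y)) :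
    y ∈ 𝐍 D := by_contra fun m => by
  have c := cjc h (hQ.le hy) m
  refine no_cyc h.perfect f (h.syl_inf hQ) (((cyc_zpowers y).qt (𝐂 D)).mono fun x hx => ?_)
  obtain ⟨u, hu, nu, rfl⟩ := mem_qt.1 hx
  have a : y * u⁻¹ * y⁻¹ ∈ 𝐂 D := c (conj_mem_cj.2 (inv_mem hu.2))
  have b : u * y * u⁻¹ * y⁻¹ ∈ zpowers y :=
    mul_mem (conj_mem_of_norm (n hu.1) (mem_zpowers y)) (inv_mem (mem_zpowers y))
  have e : u * y * u⁻¹ * y⁻¹ = u * (y * u⁻¹ * y⁻¹) := by group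
  have := qe_mem_qt b (e ▸ mul_mem nu (le_norm_self _ a))
  rwa [e, qe_mul nu (le_norm_self _ a), qe_of_mem a, mul_one] at this

theorem card_le_of_comm (ht : ∀ τ ∈ T, τ * t * τ⁻¹ * t⁻¹ ∈ Y) : ♯T ≤ ♯(T ⊓ 𝐂₁ t) * ♯Y := by
  rw [← card_inf_mul_relIndex (𝐂₁ t) T, inf_comm]
  refine Nat.mul_le_mul_left _ ?_
  let f : T ⧸ (𝐂₁ t).subgroupOf T → Y := fun q => Quotient.liftOn' q
    (fun τ => ⟨_, ht τ.1 τ.2⟩) fun a b e => Subtype.ext (by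
      have : ((a : G)⁻¹ * b) * t = t * ((a : G)⁻¹ * b) := 
        mem_cent1.1 (mem_subgroupOf.1 (QuotientGroup.leftRel_apply.1 e))
      have q : (b : G) * t * (b : G)⁻¹ = a * t * (a : G)⁻¹ := by
        rw [show (b : G) * t = a * ((a : G)⁻¹ * b * t) by group, this]; group
      simp only [q])
  refine Nat.card_le_card_of_injective f fun a b => Quotient.inductionOn₂' a b fun a b e => ?_
  have q : (a : G) * t * (a : G)⁻¹ * t⁻¹ = b * t * (b : G)⁻¹ * t⁻¹ := congrArg Subtype.val e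
  refine Quotient.sound' (QuotientGroup.leftRel_apply.2 (mem_cent1.2 ?_))
  have q := mul_right_cancel q
  show (a : G)⁻¹ * b * t = t * ((a : G)⁻¹ * b)
  rw [show (a : G)⁻¹ * b * t = (a : G)⁻¹ * (b * t * (b : G)⁻¹) * b by group, ← q]; group

/-- an element centralizing a Sylow subgroup of a component has small order -/
theorem zi (h : Comp D H) (f : Four D) (hU : Syl 2 U D) (n : y ∈ 𝐍 D) (c : y ∈ 𝐂 U)
    (k : PiElt {2} y) (i : zpowers y ⊓ 𝐂 D = ⊥) (l : (𝐂 D).relIndex U ≤ orderOf y) : False := by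
  have z := (center_normal D).norm
  have ny := norm_center D n
  have nU := hU.le.trans z
  have ns := comp_ns h
  have hS := hU.qt z
  obtain ⟨m, hm⟩ := PiNat.exists_pow k (orderOf_pos _).ne'
  have cU : ♯(qt (𝐙 D) U) ≤ 2 ^ m := by
    rw [card_qt nU, ← hm, ← inf_relIndex_right, inf_comm, ← inf_assoc, inf_eq_left.2 hU.le, inf_comm,
      inf_relIndex_right]
    exact l
  have nc : ¬ Cyc (qt (𝐙 D) U) := fun q => by
    obtain ⟨u, hu, l⟩ := (cyc_qt_iff nU).1 q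
    exact no_cyc h.perfect f hU ((cyc_qt_iff (hU.le.trans ((le_norm_self D).trans
      (norm_le_norm_cent D)))).2 ⟨u, hu, l.trans (sup_le_sup_right inf_le_right _)⟩)
  obtain _ | m := m
  · exact nc (card_eq_one'.1 (le_antisymm cU (card_pos' _)) ▸ cyc_bot)
  set y' := qe (𝐙 D) y with hy'
  set U' := qt (𝐙 D) U
  set D' := qt (𝐙 D) D
  have pw : ∀ u ∈ U', u ^ 2 ^ m = 1 := fun u hu => by_contra fun q => by
    obtain ⟨j, hj⟩ := PiNat.exists_pow (hS.pi.elt hu) (orderOf_pos _).ne'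
    have : m + 1 ≤ j := by_contra fun r => q (orderOf_dvd_iff_pow_eq_one.1
      (hj ▸ pow_dvd_pow 2 (by omega)))
    refine nc (eq_of_card_le (zpowers_le.2 hu) ?_ ▸ cyc_zpowers u)
    rw [Nat.card_zpowers, hj]
    exact cU.trans (Nat.pow_le_pow_right (by norm_num) this)
  have y1 : y' ^ 2 ^ (m + 1) = 1 := by rw [← qe_pow ny, ← hm, pow_orderOf_eq_one, qe_one]
  have cy : zpowers y' ≤ 𝐂 U' := qt_zpowers ny ▸ qt_cent _ (zpowers_le.2 c)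
  have nD : zpowers y' ≤ 𝐍 D' := qt_zpowers ny ▸ qt_norm _ (zpowers_le.2 n)
  have ky : PiGrp {2} (zpowers y') := (k.qe ny).zpowers
  have hS' : Syl 2 (U' ⊔ zpowers y') (D' ⊔ zpowers y') := by
    obtain ⟨P, hP, l⟩ := exists_syl_le (sup_le_sup_right hS.le _) (hS.pi.sup ky (.inr (norm_of_cent cy)))
    have e := hS.eq_of_le (le_inf (le_sup_left.trans l) hS.le) inf_le_right hP.pi.inf_left
    refine (le_antisymm l ?_) ▸ hP
    rw [e, inf_comm P, ← sup_inf_right (le_sup_right.trans l) (.inr nD)]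
    exact le_inf hP.le le_rfl
  set s := y' ^ 2 ^ m with hs
  have sq : s * s = 1 := by rw [← pow_add, ← two_mul, ← pow_succ', y1]
  have cS : y' ∈ 𝐂 (U' ⊔ zpowers y') :=
    zpowers_le.1 (le_cent_sup cy (abel_zpowers _))
  have all : ∀ a ∈ U' ⊔ zpowers y', a ^ 2 ^ m = 1 ∨ a ^ 2 ^ m = s := fun a ha => by
    obtain ⟨u, hu, b, ⟨j, rfl⟩, rfl⟩ := (mem_sup_norm' (norm_of_cent cy)).1 ha
    rw [Commute.mul_pow (mem_cent.1 (cy (zpow_mem (mem_zpowers _) j)) u hu), pw u hu, one_mul]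
    refine mem_zp2 (by rw [pow_two, sq]) ⟨j, ?_⟩
    simp only [hs, ← zpow_natCast, ← zpow_mul, mul_comm]
  have key := CF.Ab2.zstar hS' (mem_sup_right (pow_mem (mem_zpowers _) (2 ^ m))) fun g hg m' => by
    have cw : cj g (U' ⊔ zpowers y') ≤ 𝐂₁ (g * s * g⁻¹) :=
      cj_cent1 g s ▸ cj_mono g (le_cent1_iff.2 (pow_mem cS _))
    have hT := (hS'.cj_of_mem hg).of_le (le_inf (hS'.cj_of_mem hg).le cw) inf_le_left
    obtain ⟨c, hc, l⟩ := hT.syl_cj_le (K := zpowers y') (le_inf le_sup_right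
      (zpowers_le.2 (mem_cent1.2 (mem_cent.1 cS _ m').symm))) ky
    have := all _ (mem_cj.1 (l (conj_mem_cj.2 (mem_zpowers y'))))
    rw [show g⁻¹ * (c * y' * c⁻¹) * g = (g⁻¹ * c) * y' * (g⁻¹ * c)⁻¹ by group, conj_pow, ← hs] at this
    rcases this with q | q
    · rw [← hs, conj_eq_one_iff.1 q]; simp
    · have e := mem_cent1.1 hc.2
      calc g * s * g⁻¹ = c⁻¹ * (c * (g * s * g⁻¹)) := by group
        _ = c⁻¹ * g * s * (c⁻¹ * g)⁻¹ := by rw [e]; group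
        _ = s := by conv_lhs => rw [← q]
                    group
  have sD : s ∈ 𝐂 D' := mem_cent.2 fun g hg => by
    have a : ⁅s, g⁆ ∈ D' := commutatorElement_def s g ▸
      mul_mem (conj_mem_of_norm (nD (pow_mem (mem_zpowers _) _)) hg) (inv_mem hg)
    have b := (inf_O_normal (normalIn_sup_left nD) {2}ᶜ).le ⟨a, key g (mem_sup_left hg)⟩
    have o : 𝐎 {2}ᶜ D' = ⊥ := ns.O
    rw [o, mem_bot, commutatorElement_eq_one_iff_mul_comm] at b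
    exact b.symm
  have := i.le ⟨pow_mem (mem_zpowers y) (2 ^ m),
    cent1_of_qe h.perfect (pow_mem n _) (by rwa [qe_pow ny])⟩
  have := Nat.le_of_dvd (by positivity) (hm ▸ orderOf_dvd_of_pow_eq_one (mem_bot.1 this))
  have := Nat.pow_lt_pow_right (a := 2) (by norm_num) (Nat.lt_succ_self m)
  omega

end CF.Q16
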