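/-
Quasithin groups of even type: rank lemmas and pump-ups.
-/
import Cfsg.Agent.Known.Q16.Def
import Cfsg.Agent.Chev.LTQ
set_option autoImplicit false
set_option linter.unusedSectionVars false

namespace CF.Q16
open Subgroup Cfsg CF.BG CF.Sig CF.CT CF.CmpT CF.PG CF.Bender CF.SM
open CF.ZD (iv_pi)
open scoped commutatorElement

variable {G : Type*} [Group G] [Finite G]
variable {A B D E H J K L M N P Q R S T U W X Y : Subgroup G}
  {a b d e g h k l r s t u v w x y z : G} {p : ℕ} {F : Prop}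

theorem nb_eq (L : Subgroup G) : nb L = Nat.card (L ⧸ center L) := by
  rw [nb, relIndex, ← index_eq_card]
  congr 1
  ext x
  simp only [mem_subgroupOf, mem_cent, mem_center_iff, Subtype.forall, Subtype.ext_iff, coe_mul]

theorem nb_cj (g : G) (L : Subgroup G) : nb (cj g L) = nb L := by rw [nb, ← cj_cent, relIndex_cj]

theorem nb_dvd (L : Subgroup G) : nb L ∣ ♯L := relIndex_dvd_card _ _

theorem nb_dvd_nb (l : E ≤ M) : nb E ∣ nb M :=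
  (relIndex_dvd_left E (cent_anti l)).trans
    (relIndex_dvd_of_norm l ((le_norm_self M).trans (norm_le_norm_cent M)))

theorem SQ.mono (h : SQ H) (l : K ≤ H) : SQ K := fun p a b => (pRank_mono p l).trans (h p a b)

theorem one_of_two (hp : p.Prime) (h2 : p ≠ 2) (k : PiGrp {2} Y) (hx : x ∈ Y) (e : x ^ p = 1) :
    x = 1 := (piElt_of_pow_eq_one hp e).eq_one ((k.elt hx).of_single' (by simpa using h2.symm))

theorem r3 (q : SQ H) (hp : p.Prime) (h2 : p ≠ 2) (hE : Elem p 2 E H) (hx : x ∈ H) (e : x ^ p = 1)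
    (c : x ∈ 𝐂 E) : x ∈ E := by_contra fun n => by
  have := (hE.sup_one (elem_zpowers' hp hx e fun j => n (j ▸ one_mem _)) (zpowers_le.2 c)
    fun j => n (zpowers_le.1 j)).le_pRank.trans (q p hp h2)
  omega

theorem r3c (q : SQ H) (hp : p.Prime) (h2 : p ≠ 2) (l : K ≤ H) (r : 2 ≤ pRank p K)
    (k : PiGrp {2} (𝐙 K)) (hx : x ∈ H) (e : x ^ p = 1) (c : x ∈ 𝐂 K) : x = 1 := by
  obtain ⟨E, hE⟩ := exists_elem r
  exact one_of_two hp h2 k ⟨hE.le (r3 q hp h2 (hE.mono l) hx e (cent_anti hE.le c)), c⟩ e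

theorem two_elem (hp : p.Prime) (hx : x ∈ H) (hy : y ∈ H) (x1 : x ≠ 1) (ex : x ^ p = 1)
    (ey : y ^ p = 1) (c : y ∈ 𝐂₁ x) (n : y ∉ zpowers x) : Elem p 2 (zpowers x ⊔ zpowers y) H :=
  elem_two hp (orderOf_eq_of_pow hp ex x1) hx ey hy c n

theorem ex_ord (hp : p.Prime) (d : p ∣ ♯K) : ∃ x ∈ K, x ≠ 1 ∧ x ^ p = 1 := by
  obtain ⟨x, hx, o⟩ := exists_mem_orderOf_eq hp d
  exact ⟨x, hx, ne_one_of hp o, pow_of o⟩

theorem ex_odd (ns : ¬ Sol L) : ∃ p : ℕ, p.Prime ∧ p ≠ 2 ∧ p ∣ ♯L := by_contra fun n =>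
  ns (PiGrp.sol (p := 2) fun q a b => by_contra fun m => n ⟨q, a, by simpa using m, b⟩)

theorem i2_norm (q : SQ H) (h : Comp L H) (k : PiGrp {2} (𝐙 L)) : I2 (𝐍 L) H :=
  fun a ha b hb na nb => by_contra fun n => by
    obtain ⟨p, hp, h2, d⟩ := ex_odd h.not_sol
    obtain ⟨x, hx, x1, e⟩ := ex_ord hp d
    have c1 := cjc h (inv_mem ha) fun j => na (by simpa using inv_mem j)
    have c2 := cjc h hb nb
    have c3 : cj a⁻¹ L ≤ 𝐂 (cj b L) := (h.cj_of_norm (le_norm_self H (inv_mem ha))).cent_of_ne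
      (h.cj_of_norm (le_norm_self H hb)) fun j => n (cj_eq_self.1 (by rw [← cj_cj, ← j]; simp))
    have m1 : a⁻¹ * x * a⁻¹⁻¹ ∈ cj a⁻¹ L := conj_mem_cj.2 hx
    have m2 : b * x * b⁻¹ ∈ cj b L := conj_mem_cj.2 hx
    have hE := two_elem hp (h.le hx) (mul_mem (mul_mem (inv_mem ha) (h.le hx)) (inv_mem (inv_mem ha)))
      x1 e (by rw [conj_pow, e]; simp) (cent_le_cent1 hx (c1 m1)) fun j =>
        x1 (conj_eq_one_iff.1 (one_of_two hp h2 k ⟨zpowers_le.2 hx j, c1 m1⟩ (by rw [conj_pow, e]; simp)))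
    have l : zpowers x ⊔ zpowers (a⁻¹ * x * a⁻¹⁻¹) ≤ 𝐂 (cj b L) :=
      sup_le (zpowers_le.2 (cent_symm c2 hx)) (zpowers_le.2 (c3 m1))
    have := l (r3 q hp h2 hE (mul_mem (mul_mem hb (h.le hx)) (inv_mem hb)) (by rw [conj_pow, e]; simp)
      (cent_symm l m2))
    rw [← cj_cent, conj_mem_cj] at this
    exact x1 (one_of_two hp h2 k ⟨hx, this⟩ e)

theorem i2_odd (i : I2 X S) (hp : p.Prime) (h2 : p ≠ 2) (hx : x ∈ S) (e : x ^ p = 1) : x ∈ X :=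
  mem_of_pow_pow (a := 2) (pow_two x ▸ i.sq hx) (e ▸ one_mem X)
    ((Nat.coprime_primes p2 hp).2 h2.symm)

/-- the pump-up of `L` in the centralizer of `t` -/
structure PS (t z : G) (L D : Subgroup G) : Prop where
  cD : Comp D (𝐂₁ t)
  nc : ¬ L ≤ 𝐂 D
  cs : VP D z L ∨ (z ∉ 𝐍 D ∧ ∃ ν : D →* G, Dg 2 z D ν ∧ ν.range = L)

theorem VP.le (h : VP K t L) : L ≤ K := h.cp.le.trans inf_le_left

theorem PS.dvd (h : PS t z L D) : ♯L ∣ ♯D := by
  rcases h.cs with v | ⟨-, ν, -, rfl⟩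
  exacts [card_dvd v.le, card_range_dvd ν]

theorem ExcK.pr (e : ExcK p F K) : p.Prime ∧ p ≠ 2 := by
  rcases e.p35 with rfl | rfl <;> norm_num

theorem ExcK.dv (e : ExcK p F K) : p ∣ ♯K := dvd_of_pRank_pos (by have := e.rk; omega)

theorem E3.not_big (h : E3 p F L) (b : 95040 ≤ nb L ∧ 3 ∣ nb L) : False := by
  rcases h with ⟨-, q | q | q | ⟨-, ⟨q⟩⟩⟩ | ⟨-, q⟩
  · omega
  · omega
  · omega
  · have := Nat.card_congr q.toEquiv
    rw [← nb_eq, nat_card_alternatingGroup] at this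
    simp [Nat.factorial] at this
    omega
  · have := b.2.trans q
    omega

theorem E3.cj (h : E3 p F L) (g : G) : E3 p F (cj g L) := by
  unfold E3
  rw [nb_cj]
  refine h.imp_left fun q => q.imp_right fun q => q.imp_right fun q => q.imp_right fun q =>
    q.imp_right fun q => q.imp_right fun ⟨q⟩ => ?_
  obtain ⟨e⟩ := CF.Chev.quot_center_congr (L.equivMapOfInjective _ (conj_inj g)).symm
  exact ⟨e.trans q⟩

/-- elements of order `p` normalizing an exceptional component -/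
theorem ExcK.nk (e : ExcK p F K) (q : SQ H) (l : K ≤ H) (k : PiGrp {2} (𝐙 K)) (hx : x ∈ H)
    (n : x ∈ 𝐍 K) (ex : x ^ p = 1) : x ∈ K := by
  obtain ⟨hp, h2⟩ := e.pr
  obtain ⟨a, ha, b, hb, rfl⟩ := (mem_sup_norm' (cent_le_norm K)).1 (e.out x n ex)
  have cm : Commute a b := mem_cent.1 hb a ha
  have bp : b ^ p ∈ K := by
    rw [cm.mul_pow] at ex
    rw [eq_inv_of_mul_eq_one_right ex]; exact inv_mem (pow_mem ha _)
  obtain ⟨j, hj⟩ := k.card_pow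
  have := r3c q hp h2 l e.rk k (x := b ^ 2 ^ j) (pow_mem (by simpa using mul_mem (inv_mem (l ha)) hx) _)
    (by rw [← pow_mul, mul_comm, pow_mul, ← hj]
        exact orderOf_dvd_iff_pow_eq_one.1 (orderOf_dvd_card' ⟨bp, pow_mem hb _⟩)) (pow_mem hb _)
  exact mul_mem ha (mem_of_pow_pow bp (this ▸ one_mem K)
    (((Nat.coprime_primes hp p2).2 h2).pow_right _))

namespace Ctx
variable (c : Ctx G)
include c

theorem sq1 (i : Iv t) : SQ (𝐂₁ t) :=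
  (c.sq (iv_pi i) (by simpa using i.ne)).mono (cent_zpowers t ▸ cent_le_norm _)

theorem z2 (i : Iv t) (h : Comp K (𝐂₁ t)) : PiGrp {2} (𝐙 K) :=
  (O_pi _ _).le (h.center_le_O (c.e1 i))

theorem bal (i : Iv t) (j : Iv z) (e : z ∈ 𝐂₁ t) (h : Comp L (𝐂₁ t ⊓ 𝐂₁ z)) :
    PComp 2 L (Lay (𝐂₁ t) ⊓ 𝐂₁ z) :=
  PLay_eq_Lay p2 (c.e1 i) ▸ PComp.lbal j.orderOf e (Comp.pc2 h)

theorem i2 (i : Iv t) (h : Comp L (𝐂₁ t)) : I2 (𝐍 L) (𝐂₁ t) := i2_norm (c.sq1 i) h (c.z2 i h)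

theorem exists_ps (i : Iv t) (j : Iv z) (e : z ∈ 𝐂₁ t) (h : Comp L (𝐂₁ t ⊓ 𝐂₁ z))
    (n : ¬ Comp L (𝐂₁ t)) : ∃ D, PS t z L D := by
  have b := c.bal i j e h
  obtain ⟨D, hD, nc⟩ := exists_comp_nc (b.le.trans inf_le_left) h.not_sol
  refine ⟨D, hD, nc, (pump p2 (le_norm_self _ e) (j.pow2 ▸ one_mem _) b hD nc).imp_left fun ⟨m, l⟩ =>
    ⟨j, m, fun q => n ?_, h.of_le (le_inf l (h.le.trans inf_le_right)) (inf_le_inf_right _ hD.le)⟩⟩
  rwa [h.eq_of_le (hD.of_le (le_inf hD.le (le_cent1_iff.2 q)) inf_le_left) l]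

theorem eq_of_rk (i : Iv t) (h : Comp K (𝐂₁ t)) (e : ExcK p F K) (k : Comp M (𝐂₁ t)) (d : p ∣ ♯M) :
    M = K := by_contra fun n => by
  obtain ⟨x, hx, x1, ex⟩ := ex_ord e.pr.1 d
  exact x1 (r3c (c.sq1 i) e.pr.1 e.pr.2 h.le e.rk (c.z2 i h) (k.le hx) ex (k.cent_of_ne h n hx))

theorem exc_norm (i : Iv t) (h : Comp K (𝐂₁ t)) (e : ExcK p F K) : 𝐂₁ t ≤ 𝐍 K := fun _ hg =>
  cj_eq_self.1 (c.eq_of_rk i h e (h.cj_of_norm (le_norm_self _ hg)) (by rw [card_cj]; exact e.dv))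

theorem nk (i : Iv t) (h : Comp K (𝐂₁ t)) (e : ExcK p F K) (hx : x ∈ 𝐂₁ t) (ex : x ^ p = 1) :
    x ∈ K := e.nk (c.sq1 i) h.le (c.z2 i h) hx (c.exc_norm i h e hx) ex

/-- exceptional components are terminal -/
theorem term (i : Iv t) (h : Comp K (𝐂₁ t)) (e : ExcK p F K) (j : Iv y) (a : y ∈ 𝐂₁ t)
    (b : y ∈ 𝐂 K) : Comp K (𝐂₁ y) := by_contra fun n => by
  obtain ⟨hp, h2⟩ := e.pr
  have l := le_cent1_iff.2 b
  obtain ⟨D, hD, -, v | ⟨nD, ν, g, r⟩⟩ := c.exists_ps j i (mem_cent1_comm.1 a)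
    (h.of_le (le_inf l h.le) inf_le_right) n
  · rcases c.good j hD with k | ⟨_, _, k⟩
    · obtain ⟨x, hx, px, nx, M, hM⟩ := e.e5
      exact k.n4 v px hx nx hM
    · exact (k.e3 v).not_big e.big
  obtain ⟨E, hE⟩ := exists_elem e.rk
  have d : p ∣ ♯D := e.dv.trans (r ▸ card_range_dvd ν)
  obtain ⟨P, hP, nP⟩ := exists_syl_norm hE.pi (hE.le.trans (r ▸ g.norm))
  obtain ⟨x, ⟨xP, -, xc⟩, o⟩ := exists_center hp (hP.pi.sup hE.pi (.inr nP)) (normalIn_sup_left nP)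
    (hP.ne_bot hp rfl d)
  have xE := r3 (c.sq1 j) hp h2 (hE.mono l) (hD.le (hP.le xP)) (pow_of o) (cent_anti le_sup_right xc)
  refine ne_one_of hp o (one_of_two hp h2 (c.z2 j hD) ⟨hP.le xP, ?_⟩ (pow_of o))
  refine cjc hD (mem_cent1_comm.1 a) nD ?_
  rw [← conj_fix (mem_cent1.1 (h.le (hE.le xE))).symm]
  exact conj_mem_cj.2 (hP.le xP)

end Ctx
end CF.Q16
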