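/-
Quasithin groups of even type: the maximal counterexample to terminality.
-/
import Cfsg.Agent.Known.Q16.Gen
set_option autoImplicit false
set_option linter.unusedSectionVars false

namespace CF.Q16
open Subgroup Cfsg CF.BG CF.Sig CF.CT CF.CmpT CF.PG CF.Bender CF.SM
open CF.ZD (iv_pi)
open scoped commutatorElement

universe u
variable {G : Type u} [Group G] [Finite G]
variable {A B D E H J K L M N P Q R S T U W Y : Subgroup G}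
  {a b d e g h k l r s t u v w x y z : G} {p : ℕ} {F : Prop}

/-- involutions with a proper pump-up -/
structure Bad (z : G) (L : Subgroup G) (t : G) : Prop where
  it : Iv t
  tz : t ∈ 𝐂₁ z
  tL : t ∈ 𝐂 L
  nc : ¬ Comp L (𝐂₁ t)

theorem Bad.conj (b : Bad z L t) (hg : g ∈ 𝐍 L ⊓ 𝐂₁ z) : Bad z L (g * t * g⁻¹) :=
  ⟨b.it.conj g, mul_mem (mul_mem hg.2 b.tz) (inv_mem hg.2),
    conj_mem_of_norm (norm_le_norm_cent L hg.1) b.tL, fun q => b.nc (by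
      have := q.cj g⁻¹
      rwa [cj_of_norm (inv_mem hg.1), ← cj_cent1, cj_inv_cj] at this)⟩

theorem Ctx.syl0 (c : Ctx G) (hT : Syl 2 T ⊤) (cz : z ∈ 𝐂 T) (iz : Iv z) (hL : Comp L (𝐂₁ z)) :
    Syl 2 (T ⊓ 𝐍 L) (𝐍 L ⊓ 𝐂₁ z) := by
  have l := le_cent1_iff.2 cz
  have := (hT.of_le l le_top).inf_normal ⟨inf_le_right, (c.i2 iz hL).inf.norm inf_le_right⟩
  rwa [inf_comm (𝐍 L), ← inf_assoc, inf_eq_left.2 l, inf_comm (𝐂₁ z)] at this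

/-- the maximal configuration -/
structure MX (T : Subgroup G) (t z : G) (L D : Subgroup G) : Prop extends BP t z L D where
  hT : Syl 2 T ⊤
  zT : z ∈ T
  cz : z ∈ 𝐂 T
  nL : ¬ Comp L (𝐂₁ t)
  m1 : ∀ u, Bad z L u → ♯(PJ u L) ≤ ♯(PJ t L)
  m2 : ∀ u, Bad z L u → ♯(PJ u L) = ♯(PJ t L) → ♯(T ⊓ 𝐍 L ⊓ 𝐂₁ u) ≤ ♯(T ⊓ 𝐍 L ⊓ 𝐂₁ t)

namespace MX
variable (X : MX T t z L D)
include X

theorem bad : Bad z L t := ⟨X.it, mem_cent1_comm.1 X.tz, X.tL, X.nL⟩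
theorem Tz : T ≤ 𝐂₁ z := le_cent1_iff.2 X.cz
theorem pi : PiGrp {2} (T ⊓ 𝐍 L ⊓ 𝐂₁ t) := X.hT.pi.inf_left.inf_left

theorem syl : Syl 2 (T ⊓ 𝐍 L ⊓ 𝐂₁ t) (𝐍 L ⊓ 𝐂₁ z ⊓ 𝐂₁ t) := by
  have s := X.c.syl0 X.hT X.cz X.iz X.hL
  obtain ⟨P, hP, l⟩ := exists_syl_le (inf_le_inf_right (𝐂₁ t) s.le) X.pi
  obtain ⟨g, hg, m⟩ := s.syl_cj_le (hP.le.trans inf_le_left) hP.pi
  have := X.m2 _ (X.bad.conj hg) (by rw [← card_cj g (PJ t L), cj_PJ, cj_of_norm hg.1])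
  refine eq_of_card_le l (le_trans ?_ this) ▸ hP
  rw [← card_cj g]
  exact card_le (le_inf m (cj_cent1 g t ▸ cj_mono g (hP.le.trans inf_le_right)))

theorem mem (a : w ∈ 𝐂 L) (b : w ∈ 𝐂₁ z) (c : w ∈ 𝐂₁ t) (k : PiElt {2} w)
    (n : w ∈ 𝐂 (T ⊓ 𝐍 L ⊓ 𝐂₁ t)) : w ∈ T ⊓ 𝐍 L ⊓ 𝐂₁ t :=
  X.syl.mem_of_norm ⟨⟨cent_le_norm _ a, b⟩, c⟩ (cent_le_norm _ n) k

theorem tR : t ∈ T ⊓ 𝐍 L ⊓ 𝐂₁ t :=
  X.mem X.tL X.bad.tz (self_mem_cent1 t) X.it.pe (le_cent1_iff.1 inf_le_right)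

theorem zR : z ∈ T ⊓ 𝐍 L ⊓ 𝐂₁ t := ⟨⟨X.zT, cent_le_norm _ X.zL⟩, X.tz⟩

theorem stepA (i : Iv u) (a : u ∈ 𝐂₁ z) (b : u ∈ 𝐂₁ t) (c : u ∈ 𝐂 (PJ t L)) :
    Bad z L u ∧ PJ u L = PJ t L := by
  have l := X.mono i b c
  have bd : Bad z L u := ⟨i, a, cent_anti X.leJ c, fun q =>
    X.ne (le_antisymm (l.trans (PJ_comp q).le) X.leJ)⟩
  exact ⟨bd, (eq_of_card_le l (X.m1 u bd)).symm⟩

theorem fin' (c : Cyc Y) (hQ : Syl 2 Q (𝐂₁ t)) (r : T ⊓ 𝐍 L ⊓ 𝐂₁ t ≤ Q) (n : Y ⊴ Q)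
    (l : ♯Q ≤ ♯(T ⊓ 𝐍 L ⊓ 𝐂₁ t) * ♯Y) (q : ∀ s ∈ Y, Iv s → s ∉ 𝐂 (PJ t L)) : False :=
  X.fin hQ (r X.zR) c n (l.trans (Nat.mul_le_mul_right _
    (card_le (le_inf (inf_le_left.trans (inf_le_left.trans X.Tz)) r)))) q

theorem stepB : ¬ T ⊓ 𝐍 L ≤ 𝐂₁ t := fun q => by
  obtain ⟨Q, hQ, r⟩ := exists_syl_le inf_le_right X.pi
  refine X.j4 hQ (r X.zR) ((i2_of_card inf_le_right ?_).mono inf_le_left le_rfl)
  have a := ((X.c.i2 X.iz X.hL).mono le_rfl X.Tz).card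
  have b := X.hT.card_le le_top hQ.pi
  have c := card_le (le_inf (inf_le_right.trans X.Tz) ((le_inf (inf_comm T _).ge
    ((inf_comm T _).ge.trans q)).trans r) : 𝐍 L ⊓ T ≤ 𝐂₁ z ⊓ Q)
  omega

theorem stepC : ∀ x ∈ T ⊓ 𝐍 L ⊓ 𝐂₁ t, x ∈ 𝐂 (PJ t L) → x = 1 ∨ x = t := by
  obtain ⟨g, hg, ng⟩ := SetLike.exists_of_lt (Nil.lt_inf_norm X.hT.pi.inf_left.nil
    (lt_of_le_of_ne (inf_le_left : T ⊓ 𝐍 L ⊓ 𝐂₁ t ≤ _) fun e => X.stepB (e.ge.trans inf_le_right)))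
  set R := T ⊓ 𝐍 L ⊓ 𝐂₁ t with hR
  have Rz : R ≤ 𝐂₁ z := inf_le_left.trans (inf_le_left.trans X.Tz)
  have nJ : R ≤ 𝐍 (PJ t L) := fun x hx => norm_PJ hx.2 hx.1.2
  have key : ∀ x ∈ R ⊓ 𝐂 (PJ t L), g * x * g⁻¹ ∈ 𝐂 (PJ t L) → x = 1 := fun x hx c => by_contra fun n => by
    obtain ⟨u, hu, i⟩ := ex_iv (X.pi.elt hx.1) n
    have m := zpowers_le.2 hx hu
    have m' : g * u * g⁻¹ ∈ R ⊓ 𝐂 (PJ t L) := ⟨conj_mem_of_norm hg.2 m.1,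
      zpowers_le.2 c (cj_zpowers g x ▸ conj_mem_cj.2 hu)⟩
    have e := (X.stepA (i.conj g) (Rz m'.1) m'.1.2 m'.2).2
    rw [← cj_of_norm hg.1.2, ← cj_PJ, (X.stepA i (Rz m.1) m.1.2 m.2).2, cj_of_norm hg.1.2] at e
    have l : R ⊔ zpowers g ≤ T ⊓ 𝐍 L := sup_le inf_le_left (zpowers_le.2 hg.1)
    obtain ⟨v, hv, iv, cv⟩ := exists_fix0 (A := R ⊓ 𝐂 (PJ t L))
      (not_pi_of_mem p2 X.it.orderOf ⟨X.tR, X.tJ⟩) (X.hT.pi.inf_left.le l)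
      (sup_le (norm_inf_cent (le_norm_self _) nJ)
        (norm_inf_cent (zpowers_le.2 hg.2) (zpowers_le.2 (cj_eq_self.1 e))))
    obtain ⟨a, b⟩ := X.stepA iv (Rz hv.1) hv.1.2 hv.2
    have := eq_of_card_le (le_sup_left : R ≤ R ⊔ zpowers g)
      ((card_le (le_inf l (le_cent1_iff.2 cv))).trans (X.m2 v a (by rw [b])))
    exact ng (this ▸ mem_sup_right (mem_zpowers g))
  have k2 : ∀ x ∈ R ⊓ 𝐂 (PJ t L), x ≠ 1 → g * x * g⁻¹ * z ∈ 𝐂 (PJ t L) := fun x hx n => by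
    have m := conj_mem_of_norm hg.2 hx.1
    exact (X.j3 (X.pi.elt m) m.2 (Rz m) (conj_mem_of_norm (norm_le_norm_cent L hg.1.2)
      (cent_anti X.leJ hx.2))).resolve_left fun q => n (key x hx q)
  intro x hx c
  refine or_iff_not_imp_left.2 fun n => mul_inv_eq_one.1 (key _
    (mul_mem (show x ∈ R ⊓ _ from ⟨hx, c⟩) (inv_mem ⟨X.tR, X.tJ⟩)) ?_)
  have := mul_mem (k2 x ⟨hx, c⟩ n) (inv_mem (k2 t ⟨X.tR, X.tJ⟩ X.it.ne))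
  rwa [show g * x * g⁻¹ * z * (g * t * g⁻¹ * z)⁻¹ = g * (x * t⁻¹) * g⁻¹ by group] at this

theorem tz_ne : t ≠ z := fun e => X.zJ (e ▸ X.tJ)

theorem small : ∀ x ∈ T ⊓ 𝐂 L, x ∈ 𝐂₁ t → x ∈ zpowers z ∨ t * x ∈ zpowers z := fun x hx c => by
  have m : x ∈ T ⊓ 𝐍 L ⊓ 𝐂₁ t := ⟨⟨hx.1, cent_le_norm _ hx.2⟩, c⟩
  rcases X.j3 (X.pi.elt m) c (X.Tz hx.1) hx.2 with q | q
  · rcases X.stepC x m q with rfl | rfl
    exacts [.inl (one_mem _), .inr (X.it.sq ▸ one_mem _)]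
  · rcases X.stepC _ (mul_mem m X.zR) q with e | e
    · exact .inl (eq_inv_of_mul_eq_one_left e ▸ inv_mem (mem_zpowers z))
    · refine .inr ?_
      rw [eq_mul_inv_of_mul_eq e, ← mul_assoc, X.it.sq, one_mul]
      exact inv_mem (mem_zpowers z)

theorem false : False := by
  have tS : t ∈ T ⊓ 𝐂 L := ⟨X.tR.1.1, X.tL⟩
  obtain ⟨a, ha, i, za, ta, na⟩ := ex_cyc X.hT.pi.inf_left X.iz X.it X.tz_ne ⟨X.zT, X.zL⟩
    (cent_anti inf_le_left X.cz) tS X.small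
  have uq : ∀ K, Comp K (𝐂₁ z) → K = L := fun K hK => by_contra fun n => by
    have hR := hK.syl_inf (X.hT.of_le X.Tz le_top)
    have f := X.c.four X.iz hK
    have i' := i.mono le_rfl (inf_le_inf_left T (hK.cent_of_ne X.hL n))
    have u := fun x (hx : x ∈ zpowers a) ix => Cyc.iv_eq (cyc_zpowers a) hx za ix X.iz
    refine not_cent_of_uniq (Comp.noTwo hK) hR f i'
      (fun x a y b _ _ c d => (u x a c).trans (u y b d).symm) ?_ X.iz (le_cent1_iff.1 hK.le)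
    obtain ⟨x, hx, y, hy, ix, iy, ne, c⟩ := f.syl hR
    rcases i'.three hx hy with q | q | q
    exacts [u x q ix ▸ hx.2, u y q iy ▸ hy.2, u _ q (iv_mul ix iy ne c) ▸ mul_mem hx.2 hy.2]
  have nL : T ≤ 𝐍 L := fun g hg =>
    cj_eq_self.1 (uq _ (X.hL.cj_of_norm (le_norm_self _ (X.Tz hg))))
  have nS : T ≤ 𝐍 (T ⊓ 𝐂 L) := norm_inf_cent (le_norm_self T) nL
  have nT : T ≤ 𝐍 (zpowers a) := (le_inf nS X.Tz).trans na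
  have c1 := card_le_of_comm (T := T) fun τ hτ => i.mul_inv (conj_mem_of_norm (nS hτ) tS) tS
    (fun q => ta (by simpa [mul_assoc] using conj_mem_of_norm' (nT hτ) q)) ta
  obtain ⟨Q, hQ, r⟩ := exists_syl_le inf_le_right X.pi
  obtain ⟨h, -, l⟩ := X.hT.syl_le_cj le_top hQ.pi
  have n1 : Q ≤ 𝐍 (cj h (zpowers a)) := l.trans (cj_norm_iff.2 nT)
  have cz : h * z * h⁻¹ ∈ 𝐂 (cj h T) := cj_cent h T ▸ conj_mem_cj.2 X.cz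
  refine X.fin' ((cyc_cj.2 (cyc_zpowers a)).mono inf_le_right) hQ r (normalIn_inf_left n1) ?_
    fun s hs is q => ?_
  · have e := card_sup_mul_card_inf (.inl n1)
    have b := card_le (sup_le l (cj_mono h (zpowers_le.2 ha.1)))
    rw [card_cj] at e b
    rw [inf_eq_left.2 nL]
    refine Nat.le_of_mul_le_mul_right ?_ (card_pos' (zpowers a))
    rw [← e, mul_right_comm]
    exact Nat.mul_le_mul_right _ (b.trans c1)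
  have e := Cyc.iv_eq (cyc_cj.2 (cyc_zpowers a)) hs.2 (conj_mem_cj.2 za) is (X.iz.conj h)
  have cQ : s ∈ 𝐂 Q := cent_anti l (e ▸ cz)
  obtain rfl := (X.stepC s (X.mem (cent_anti X.leJ q) (cent_le_cent1 (r X.zR) cQ) (hQ.le hs.1) is.pe
    (cent_anti r cQ)) q).resolve_left is.ne
  have k : ∀ K, Comp K (𝐂₁ s) → K = cj h L := fun K hK => by
    rw [e, ← cj_cent1] at hK
    rw [← uq _ (cj_inv_cj h (𝐂₁ z) ▸ hK.cj h⁻¹), cj_cj_inv]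
  refine X.ne (eq_of_card_le X.leJ ?_).symm
  rw [X.eq, k _ X.cD', k _ X.cD, sup_idem, card_cj]

end MX

theorem Ctx.loc (c : Ctx G) (hT : Syl 2 T ⊤) (zT : z ∈ T) (cz : z ∈ 𝐂 T) (iz : Iv z)
    (hL : Comp L (𝐂₁ z)) : ¬ Bad z L t := fun b => by
  obtain ⟨t, ht, m⟩ := Set.exists_max_image {t | Bad z L t} (fun u => ♯(PJ u L)) (Set.toFinite _) ⟨t, b⟩
  obtain ⟨t, ⟨b, e⟩, m'⟩ := Set.exists_max_image {u | Bad z L u ∧ ♯(PJ u L) = ♯(PJ t L)}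
    (fun u => ♯(T ⊓ 𝐍 L ⊓ 𝐂₁ u)) (Set.toFinite _) ⟨t, ht, rfl⟩
  have tz := mem_cent1_comm.1 b.tz
  obtain ⟨D, hD⟩ := c.exists_ps b.it iz tz
    (hL.of_le (le_inf (le_cent1_iff.2 b.tL) hL.le) inf_le_right) b.nc
  exact MX.false ⟨⟨hD, c, b.it, iz, tz, b.tL, hL, fun v => (c.good b.it hD.cD).resolve_right
    fun ⟨_, _, k⟩ => c.exc hT cz b.it hD.cD v hL k⟩, hT, zT, cz, b.nc, fun u a => e ▸ m u a,
    fun u a f => m' u ⟨a, f.trans e⟩⟩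

theorem Ctx.terminal (c : Ctx G) (hT : Syl 2 T ⊤) (zT : z ∈ T) (cz : z ∈ 𝐂 T) (iz : Iv z)
    (hL : Comp L (𝐂₁ z)) (i : Iv y) (cy : y ∈ 𝐂 L) : Comp L (𝐂₁ y) := by
  have s := c.syl0 hT cz iz hL
  have zL := le_cent1_iff.1 hL.le
  obtain ⟨P, hP, l⟩ := exists_syl_le inf_le_right s.pi
  obtain ⟨w, ⟨wP, -, wc⟩, o⟩ := exists_center p2 hP.pi (normalIn_inf_cent hP.le)
    (ne_bot_of_mem ⟨l ⟨zT, cent_le_norm _ zL⟩, zL⟩ iz.ne)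
  have wz := cent_le_cent1 (l ⟨zT, cent_le_norm _ zL⟩) wc
  have hw : Comp L (𝐂₁ w) := by_contra fun n => c.loc hT zT cz iz hL ⟨iv_of o, wz, wP.2, n⟩
  obtain ⟨g, hg, m⟩ := hP.syl_cj_le (zpowers_le.2 (cent_le_norm _ cy)) (iv_pi i)
  have m := m (conj_mem_cj.2 (mem_zpowers y))
  have k : Comp L (𝐂₁ (g * y * g⁻¹)) := by_contra fun n => by
    have cg := conj_mem_of_norm (norm_le_norm_cent L hg) cy
    by_cases q : P ≤ T ⊓ 𝐍 L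
    · exact c.loc hT zT cz iz hL ⟨i.conj g, le_cent1_iff.2 cz (q m).1, cg, n⟩
    refine c.loc (hT.of_card_le le_top hP.pi ?_) wP.1 wc (iv_of o) hw
      ⟨i.conj g, le_cent1_iff.2 wc m, cg, n⟩
    have a := ((c.i2 iz hL).mono le_rfl (le_cent1_iff.2 cz)).card
    have b := card_mul_relIndex l
    have : 2 ≤ (T ⊓ 𝐍 L).relIndex P := by
      have := relIndex_ne_zero' (T ⊓ 𝐍 L) P
      have := mt relIndex_eq_one.1 q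
      omega
    rw [inf_comm] at a
    nlinarith
  have := k.cj g⁻¹
  rwa [cj_of_norm (inv_mem hg), ← cj_cent1, cj_inv_cj] at this

theorem Ctx.std [IsSimpleGroup G] (c : Ctx G) (hT : Syl 2 T ⊤) (zT : z ∈ T) (cz : z ∈ 𝐂 T) (iz : Iv z)
    (hL : Comp L (𝐂₁ z)) : IsStandardSubgroup L :=
  std_of iz.orderOf (le_cent1_iff.1 hL.le) (fun _ o => c.terminal hT zT cz iz hL (iv_of o))
    fun g q => (TH.false ⟨hL.of_le le_rfl hL.le, c.terminal hT zT cz iz hL, c.four iz hL, g, q⟩).elim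

end CF.Q16
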