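/-
Quasithin groups of even type: transfer from a model of the automorphism group.
-/
import Cfsg.Agent.Known.Q16.Loc
import Cfsg.Agent.KG.Act
set_option autoImplicit false
set_option linter.unusedSectionVars false

namespace CF.Q16
open Subgroup Cfsg CF.BG CF.Sig CF.CT CF.CmpT CF.PG CF.Bender CF.SM
open scoped commutatorElement

variable {G H : Type*} [Group G] [Group H] {K : Subgroup G} (φ : 𝐍 K →* H)

open scoped _root_.Classical in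
/-- total extension -/
noncomputable def fa (g : G) : H := if h : g ∈ 𝐍 K then φ ⟨g, h⟩ else 1
/-- image -/
def ia (S : Subgroup G) : Subgroup H := (S.subgroupOf (𝐍 K)).map φ
/-- preimage -/
def pa (Y : Subgroup H) : Subgroup G := (Y.comap φ).map (𝐍 K).subtype

variable {φ} {X Y Y' : Subgroup H} {A B L M S U : Subgroup G} {a b g x y θ : G} {p : ℕ} {F : Prop}

theorem fa_eq (h : g ∈ 𝐍 K) : fa φ g = φ ⟨g, h⟩ := dif_pos h
theorem fa_mul (ha : a ∈ 𝐍 K) (hb : b ∈ 𝐍 K) : fa φ (a * b) = fa φ a * fa φ b := by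
  rw [fa_eq ha, fa_eq hb, fa_eq (mul_mem ha hb), ← map_mul]; rfl
theorem fa_inv (ha : a ∈ 𝐍 K) : fa φ a⁻¹ = (fa φ a)⁻¹ := by
  rw [fa_eq ha, fa_eq (inv_mem ha), ← map_inv]; rfl
theorem fa_pow (ha : a ∈ 𝐍 K) (n : ℕ) : fa φ (a ^ n) = fa φ a ^ n := by
  rw [fa_eq ha, fa_eq (pow_mem ha n), ← map_pow]; rfl
theorem fa_one : fa φ 1 = 1 := by rw [fa_eq (one_mem _)]; exact map_one φ
theorem fa_conj (ha : a ∈ 𝐍 K) (hb : b ∈ 𝐍 K) : fa φ (a * b * a⁻¹) = fa φ a * fa φ b * (fa φ a)⁻¹ := by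
  rw [fa_mul (mul_mem ha hb) (inv_mem ha), fa_mul ha hb, fa_inv ha]
theorem fa_comm (ha : a ∈ 𝐍 K) (hb : b ∈ 𝐍 K) : fa φ ⁅a, b⁆ = ⁅fa φ a, fa φ b⁆ := by
  rw [commutatorElement_def, commutatorElement_def, fa_mul (mul_mem (mul_mem ha hb) (inv_mem ha))
    (inv_mem hb), fa_conj ha hb, fa_inv hb]
theorem mem_ia {h : H} : h ∈ ia φ S ↔ ∃ g ∈ S, g ∈ 𝐍 K ∧ fa φ g = h :=
  ⟨fun ⟨g, a, e⟩ => ⟨g, a, g.2, (fa_eq g.2).trans e⟩, fun ⟨g, a, b, e⟩ => ⟨⟨g, b⟩, a, (fa_eq b).symm.trans e⟩⟩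
theorem fa_mem (a : g ∈ S) (b : g ∈ 𝐍 K) : fa φ g ∈ ia φ S := mem_ia.2 ⟨g, a, b, rfl⟩
theorem mem_pa : g ∈ pa φ Y ↔ g ∈ 𝐍 K ∧ fa φ g ∈ Y :=
  ⟨fun ⟨g, a, e⟩ => e ▸ ⟨g.2, (fa_eq (φ := φ) g.2).symm ▸ a⟩, fun ⟨a, b⟩ =>
    ⟨⟨g, a⟩, (by rwa [fa_eq a] at b : φ _ ∈ Y), rfl⟩⟩
theorem ia_mono (h : A ≤ B) : ia φ A ≤ ia φ B := map_mono (comap_mono h)
theorem ia_inf : ia φ (B ⊓ pa φ Y) = ia φ B ⊓ Y := le_antisymm (fun _ h => by
    obtain ⟨g, a, b, rfl⟩ := mem_ia.1 h; exact ⟨fa_mem a.1 b, (mem_pa.1 a.2).2⟩) fun _ h => by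
  obtain ⟨g, a, b, rfl⟩ := mem_ia.1 h.1; exact fa_mem ⟨a, mem_pa.2 ⟨b, h.2⟩⟩ b
theorem fa_c1 (ha : a ∈ 𝐍 K) (hb : b ∈ 𝐍 K) (c : a ∈ 𝐂₁ b) : fa φ a ∈ 𝐂₁ (fa φ b) :=
  mem_cent1.2 (by rw [← fa_mul ha hb, mem_cent1.1 c, fa_mul hb ha])
theorem fa_cent (ha : a ∈ 𝐍 K) (c : a ∈ 𝐂 S) : fa φ a ∈ 𝐂 (ia φ S) := le_cent1_iff.1 fun _ h => by
  obtain ⟨g, s, b, rfl⟩ := mem_ia.1 h; exact fa_c1 b ha (le_cent1_iff.2 c s)
theorem ia_norm (n : A ≤ 𝐍 S) : ia φ A ≤ 𝐍 (ia φ S) := le_norm_iff.2 fun _ h _ k => by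
  obtain ⟨g, s, b, rfl⟩ := mem_ia.1 h
  obtain ⟨u, s', b', rfl⟩ := mem_ia.1 k
  rw [← fa_conj b b']
  exact fa_mem (conj_mem_of_norm (n s) s') (mul_mem (mul_mem b b') (inv_mem b))
theorem fa_norm (ha : a ∈ 𝐍 K) (n : a ∈ 𝐍 S) : fa φ a ∈ 𝐍 (ia φ S) :=
  ia_norm (zpowers_le.2 n) (fa_mem (mem_zpowers a) ha)
theorem ia_zp (ha : a ∈ 𝐍 K) : ia φ (zpowers a) = zpowers (fa φ a) := by
  rw [fa_eq ha, ← MonoidHom.map_zpowers, ia]
  congr 1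
  exact map_injective (𝐍 K).subtype_injective (by
    rw [map_subgroupOf (zpowers_le.2 ha), MonoidHom.map_zpowers]; rfl)
theorem fa_pi {π : Set ℕ} (ha : a ∈ 𝐍 K) (k : PiElt π a) : PiElt π (fa φ a) :=
  fa_eq (φ := φ) ha ▸ PiElt.map (x := (⟨a, ha⟩ : 𝐍 K)) (by rwa [PiElt, ← orderOf_coe]) φ
theorem rel_ia (n : S ≤ 𝐍 K) : Y.relIndex (ia φ S) = (pa φ Y).relIndex S := by
  rw [ia, ← relIndex_comap, ← relIndex_subgroupOf n, pa, subgroupOf, subgroupOf,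
    comap_map_eq_self_of_injective (𝐍 K).subtype_injective]
theorem card_ia (n : S ≤ 𝐍 K) : ♯(ia φ S) ∣ ♯S :=
  (card_map_dvd _ φ).trans (Nat.card_congr (subgroupOfEquivOfLe n).toEquiv).dvd
theorem subN_pa (h : SubN Y Y') : SubN (pa φ Y) (pa φ Y') := by
  induction h with
  | refl => exact .refl
  | step _ hn ih => exact .step ih ⟨map_mono (comap_mono hn.le), le_norm_iff.2 fun a ha b hb => by
      rw [mem_pa] at ha hb ⊢
      exact ⟨mul_mem (mul_mem ha.1 hb.1) (inv_mem ha.1), fa_conj (φ := φ) ha.1 hb.1 ▸ hn.conj_mem ha.2 hb.2⟩⟩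

theorem mem_ctr (y : S) : y ∈ center S ↔ y.1 ∈ 𝐂 S := by
  simp only [mem_cent, mem_center_iff, Subtype.forall, Subtype.ext_iff, coe_mul]

variable [Finite G] [Finite H]

theorem nb_ia_dvd (n : S ≤ 𝐍 K) : nb (ia φ S) ∣ nb S := by
  rw [nb, rel_ia n, nb, ← inf_relIndex_right (𝐂 S)]
  exact relIndex_dvd_left _ fun g h => mem_pa.2 ⟨n h.2, fa_cent (n h.2) h.1⟩

theorem comp_ia (h : Comp L M) (n : M ≤ 𝐍 K) (c : ia φ L ≠ ⊥) : Comp (ia φ L) (ia φ M) :=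
  (h.subgroupOf (h.le.trans n)).map φ c

variable (K X φ) in
/-- the action of `N(K)` on `K / Z(K)` -/
structure Act : Prop where
  pf : ⁅K, K⁆ = K
  z2 : PiGrp {2} (𝐙 K)
  ker : ∀ g : 𝐍 K, φ g = 1 ↔ g.1 ∈ 𝐂 K
  im : ia φ K = X

namespace Act
variable (h : Act K φ X)
include h

omit h in
theorem nk (a : g ∈ K) : g ∈ 𝐍 K := le_norm_self K a
theorem one (n : g ∈ 𝐍 K) : fa φ g = 1 ↔ g ∈ 𝐂 K := by rw [fa_eq n, h.ker]
theorem mem (a : g ∈ K) : fa φ g ∈ X := h.im ▸ fa_mem a (nk a)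
theorem ex {v : H} (a : v ∈ X) : ∃ g ∈ K, fa φ g = v := by
  obtain ⟨g, a, -, e⟩ := mem_ia.1 (h.im.ge a); exact ⟨g, a, e⟩
theorem norm (n : g ∈ 𝐍 K) : fa φ g ∈ 𝐍 X := h.im ▸ fa_norm n n
theorem comm (ha : a ∈ 𝐍 K) (hb : b ∈ 𝐍 K) (c : fa φ a ∈ 𝐂₁ (fa φ b)) : ⁅a, b⁆ ∈ 𝐂 K :=
  (h.one (commutatorElement_def a b ▸ mul_mem (mul_mem (mul_mem ha hb) (inv_mem ha)) (inv_mem hb))).1
    (by rw [fa_comm ha hb, commutatorElement_eq_one_iff_mul_comm, mem_cent1.1 c])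
theorem cent' (pf : ⁅L, L⁆ = L) (l : L ≤ K) (n : g ∈ 𝐍 K) (m : g ∈ 𝐍 L) (c : fa φ g ∈ 𝐂 (ia φ L)) :
    g ∈ 𝐂 L := cent1_of_comm pf m fun _ a =>
  cent_anti l (h.comm n (nk (l a)) (cent_le_cent1 (fa_mem a (nk (l a))) c))
theorem cent (n : g ∈ 𝐍 K) : fa φ g ∈ 𝐂 X ↔ g ∈ 𝐂 K :=
  ⟨fun c => h.cent' h.pf le_rfl n n (h.im ▸ c), fun c => (h.one n).2 c ▸ one_mem _⟩
theorem syl (s : Syl p U K) : Syl p (ia φ U) X := h.im ▸ (hall_subgroupOf s (le_norm_self K)).map φ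
theorem iv (i : Iv θ) (n : θ ∈ 𝐍 K) (c : θ ∉ 𝐂 K) : Iv (fa φ θ) :=
  ⟨fun e => c ((h.one n).1 e), by rw [← fa_mul n n, i.sq, fa_one]⟩
theorem ne_bot (n : L ≤ 𝐍 K) (c : ¬ L ≤ 𝐂 K) : ia φ L ≠ ⊥ := fun e =>
  c fun _ a => (h.one (n a)).1 (e.le (fa_mem a (n a)))
theorem fix (l : B ≤ K) (n : a ∈ 𝐍 K) : B ⊓ 𝐂₁ a ⊴ B ⊓ pa φ (𝐂₁ (fa φ a)) :=
  ⟨fun _ c => ⟨c.1, mem_pa.2 ⟨nk (l c.1), fa_c1 (nk (l c.1)) n c.2⟩⟩, le_norm_iff.2 fun b hb c hc =>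
    mem_inf.2 ⟨mul_mem (mul_mem hb.1 hc.1) (inv_mem hb.1), mem_cent1.2 (by
      have z := h.comm (inv_mem (nk (l hb.1))) n (fa_inv (φ := φ) (nk (l hb.1)) ▸ inv_mem (mem_pa.1 hb.2).2)
      have e := mem_cent.1 z c (l hc.1)
      calc b * c * b⁻¹ * a = b * (c * ⁅b⁻¹, a⁆) * a * b⁻¹ := by rw [commutatorElement_def]; group
        _ = b * ⁅b⁻¹, a⁆ * (c * a) * b⁻¹ := by rw [e]; group
        _ = _ := by rw [mem_cent1.1 hc.2, commutatorElement_def]; group)⟩⟩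
theorem comp (l : B ≤ K) (n : a ∈ 𝐍 K) (c : Comp M (B ⊓ 𝐂₁ a)) :
    Comp (ia φ M) (ia φ B ⊓ 𝐂₁ (fa φ a)) := by
  have m := c.le.trans (inf_le_left.trans l)
  exact ia_inf (φ := φ) ▸ comp_ia (c.trans (h.fix l n).subN) (inf_le_left.trans (l.trans (le_norm_self K)))
    (h.ne_bot (m.trans (le_norm_self K)) fun q => c.not_abel (q.trans (cent_anti m)))
theorem vp (v : VP K θ L) : VP X (fa φ θ) (ia φ L) :=
  ⟨h.iv v.iv v.nm v.nc, h.norm v.nm, fun c => v.nc ((h.cent v.nm).1 c), h.im ▸ h.comp le_rfl v.nm v.cp⟩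
theorem nb_eq (pf : ⁅L, L⁆ = L) (l : L ≤ K) : nb (ia φ L) = nb L := by
  rw [nb, rel_ia (l.trans (le_norm_self K))]
  exact rel_congr (le_antisymm (fun _ a => ⟨h.cent' pf l (nk (l a.2)) (le_norm_self L a.2) (mem_pa.1 a.1).2, a.2⟩)
    fun _ a => ⟨mem_pa.2 ⟨nk (l a.2), fa_cent (nk (l a.2)) a.1⟩, a.2⟩)

theorem gen (k : GenK X) : GenK K where
  n1 v s a b c d := (h.cent (pow_mem a 2)).1 (fa_pow (φ := φ) a 2 ▸ k.n1 (h.vp v) (h.syl s) (h.norm a)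
    (fa_norm a b) (ia_zp (φ := φ) a ▸ ia_norm c) (by rw [← fa_pow a, d, fa_one]))
  n2 v s a i := k.n2 (h.vp v) (h.syl s) (fa_norm v.nm a) fun _ hx _ hy nx ny => by
    obtain ⟨x, u, n, rfl⟩ := mem_ia.1 hx
    obtain ⟨y, w, m, rfl⟩ := mem_ia.1 hy
    exact fa_mul (φ := φ) n m ▸ fa_c1 (mul_mem n m) v.nm
      (i x u y w (fun q => nx (fa_c1 n v.nm q)) fun q => ny (fa_c1 m v.nm q))
  n3 v a b c d := (k.n3 (h.vp v) (fa_pi b a) (h.norm b) (fa_c1 b v.nm c) (fa_cent b d)).imp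
    (h.cent b).1 fun q => (h.cent (mul_mem b v.nm)).1 (fa_mul (φ := φ) b v.nm ▸ q)
  n4 v a b c d := k.n4 (h.vp v) (fa_pi (nk (v.le b)) a) (fa_mem b (nk (v.le b)))
    (fun q => c (h.cent' v.cp.perfect v.le (nk (v.le b)) (le_norm_self _ b) q))
    (h.comp v.le (nk (v.le b)) d)

theorem pw : ∃ j, ∀ x ∈ K, x ∈ 𝐂 K → x ^ 2 ^ j = 1 := by
  obtain ⟨j, hj⟩ := h.z2.card_pow
  exact ⟨j, fun x a b => orderOf_dvd_iff_pow_eq_one.1 (hj ▸ orderOf_dvd_card' ⟨a, b⟩)⟩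

theorem lift (hp : p.Prime) (h2 : p ≠ 2) (n : a ∈ 𝐍 K) {v : H} (hv : v ∈ X ⊓ 𝐂₁ (fa φ a))
    (e : v ^ p = 1) : ∃ m ∈ K ⊓ 𝐂₁ a, m ^ p = 1 ∧ v ∈ zpowers (fa φ m) := by
  obtain ⟨k, hk, rfl⟩ := h.ex hv.1
  obtain ⟨j, hj⟩ := h.pw
  refine ⟨k ^ 2 ^ j, ⟨pow_mem hk _, mem_cent1.2 ?_⟩, ?_, ?_⟩
  · have z := h.comm n (nk hk) (mem_cent1_comm.1 hv.2)
    have q := Commute.mul_pow (mem_cent.1 z k hk).symm (2 ^ j)
    rw [hj _ (commutatorElement_def a k ▸ mul_mem (conj_mem_of_norm n hk) (inv_mem hk)) z, one_mul,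
      commutatorElement_def, inv_mul_cancel_right, conj_pow] at q
    conv_lhs => rw [← q]
    group
  · rw [← pow_mul, mul_comm, pow_mul]
    exact hj _ (pow_mem hk p) ((h.one (nk (pow_mem hk p))).1 (fa_pow (φ := φ) (nk hk) p ▸ e))
  · exact mem_of_pow_pow (a := 2 ^ j) (by rw [fa_pow (nk hk)]; exact mem_zpowers _) (e ▸ one_mem _)
      (((Nat.coprime_primes p2 hp).2 h2.symm).pow_left _)

theorem ep (hp : p.Prime) (h2 : p ≠ 2) (n : a ∈ 𝐍 K) :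
    ia φ (Ep p (K ⊓ 𝐂₁ a)) = Ep p (X ⊓ 𝐂₁ (fa φ a)) := le_antisymm
  ((ia_mono (A := Ep p (K ⊓ 𝐂₁ a)) (B := K ⊓ pa φ (Ep p (X ⊓ 𝐂₁ (fa φ a)))) (Ep_le.2 fun x m e => ⟨m.1, mem_pa.2 ⟨nk m.1,
    mem_Ep ⟨h.mem m.1, fa_c1 (nk m.1) n m.2⟩ (by rw [← fa_pow (nk m.1), e, fa_one])⟩⟩)).trans
      (ia_inf.le.trans inf_le_right))
  (Ep_le.2 fun _ m e => by
    obtain ⟨m, a, b, c⟩ := h.lift hp h2 n m e
    exact zpowers_le.2 (fa_mem (mem_Ep a b) (nk a.1)) c)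

omit h in
theorem ep_le : Ep p (K ⊓ A) ≤ 𝐍 K := Ep_le.2 fun _ a _ => nk a.1

theorem iso (l : L ≤ K) (pf : ⁅L, L⁆ = L) :
    Nonempty (L ⧸ center L ≃* (ia φ L) ⧸ center (ia φ L)) := by
  let f : L →* ia φ L := (φ.subgroupMap _).comp (subgroupOfEquivOfLe (l.trans (le_norm_self K))).symm
  have e : ∀ x : L, (f x : H) = fa φ x := fun x => (fa_eq (nk (l x.2))).symm
  refine iso_of_ker_eq (QuotientGroup.mk'_surjective _) (g := (QuotientGroup.mk' _).comp f)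
    ((QuotientGroup.mk'_surjective _).comp ((φ.subgroupMap_surjective _).comp (MulEquiv.surjective _))) ?_
  ext x
  rw [QuotientGroup.ker_mk', ← MonoidHom.comap_ker, QuotientGroup.ker_mk', mem_comap, mem_ctr, mem_ctr, e]
  exact ⟨fa_cent (nk (l x.2)), h.cent' pf l (nk (l x.2)) (le_norm_self L x.2)⟩

theorem rank (h2 : p ≠ 2) : pRank p X = pRank p K := by
  have z := (center_normal K).norm
  rw [← pRank_qt z (h.z2.of_single' (by simpa using h2.symm))]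
  let f : K →* X := ((φ.comp (inclusion (le_norm_self K))).codRestrict X fun x =>
    (fa_eq (φ := φ) (nk x.2)) ▸ h.mem x.2)
  refine pRank_congr p (iso_of_ker_eq (f := f) (fun y => ?_) (qtHom_surj z) ?_)
  · obtain ⟨g, a, e⟩ := h.ex y.2
    exact ⟨⟨g, a⟩, Subtype.ext ((fa_eq (nk a)).symm.trans e)⟩
  · ext x
    rw [qtHom_ker, MonoidHom.mem_ker, Subtype.ext_iff, mem_subgroupOf]
    exact (h.ker _).trans ⟨fun q => ⟨x.2, q⟩, fun q => q.2⟩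

theorem pi {v : H} (a : g ∈ K) (e : fa φ g = v) (k : PiElt {2} v) : PiElt {2} g := by
  obtain ⟨j, hj⟩ := h.pw
  obtain ⟨i, hi⟩ := PiNat.exists_pow k (orderOf_pos _).ne'
  refine (piNat_pow_self p2 (i + j)).dvd (orderOf_dvd_of_pow_eq_one ?_)
  rw [pow_add, pow_mul]
  exact hj _ (pow_mem a _) ((h.one (nk (pow_mem a _))).1 (by
    rw [fa_pow (nk a), e, ← hi, pow_orderOf_eq_one]))

theorem lift_comp (n : a ∈ 𝐍 K) (c : Comp Y (X ⊓ 𝐂₁ (fa φ a))) : ∃ M, Comp M (K ⊓ 𝐂₁ a) := by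
  have f := h.fix le_rfl n
  have s : SubN (K ⊓ pa φ Y) (K ⊓ pa φ (𝐂₁ (fa φ a))) := by
    have := subN_inf (subN_pa (φ := φ) c.subN) K
    rw [inf_comm, inf_comm _ K] at this
    convert this using 1
    exact le_antisymm (fun _ q => ⟨q.1, mem_pa.2 ⟨nk q.1, h.mem q.1, (mem_pa.1 q.2).2⟩⟩)
      fun _ q => ⟨q.1, mem_pa.2 ⟨nk q.1, (mem_pa.1 q.2).2.2⟩⟩
  set B := K ⊓ pa φ Y with hB
  have nB : B ≤ 𝐍 K := inf_le_left.trans (le_norm_self K)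
  have iB : ia φ B = Y := by rw [hB, ia_inf, h.im, inf_eq_right.2 (c.le.trans inf_le_left)]
  have l : ⁅B, B⁆ ≤ K ⊓ 𝐂₁ a := le_inf ((der_le B).trans inf_le_left) (le_cent1_iff.2 (zpowers_le.1 (by
    have c1 : ⁅zpowers a, B⁆ ≤ 𝐂 B := (comm_zp_le (N := 𝐂 K) (L := B) (norm_le_norm_cent K n) fun u hu =>
      h.comm n (nk hu.1) (mem_cent1_comm.1 (c.le (mem_pa.1 hu.2).2).2)).trans (cent_anti inf_le_left)
    have := three_subgroup (A := B) (B := B) (C := zpowers a) (N := ⊥) (by simp) (by simp) (by simp)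
      (by rw [commutator_comm B (zpowers a)]; exact (comm_eq_bot.2 c1).le) (comm_eq_bot.2 c1).le
    exact comm_eq_bot'.1 (le_bot_iff.1 this))))
  have c1 : ⁅𝐅 (K ⊓ 𝐂₁ a), B⁆ ≤ 𝐂 B := commutator_le.2 fun x hx y hy => by
    have m := F_le _ hx
    refine cent_anti inf_le_left (h.comm (nk m.1) (nk hy.1) (mem_cent1_comm.1 (cent_le_cent1
      (fa_mem hx (nk m.1)) (c.cent_of_subN_sol ?_ ?_ (mem_pa.1 hy.2).2))))
    · rw [← h.im, ← ia_inf]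
      exact subN_map (subN_subgroupOf ((F_normal _).subN.trans f.subN) _) φ
    · exact ((F_nil _).sol.subgroupOf _).map φ
  obtain ⟨M, hM, -⟩ := exists_comp_le (subN_of_le ((der_normal B).subN.trans s) l f.le) (by
    have := three_subgroup (A := B) (B := B) (C := 𝐅 (K ⊓ 𝐂₁ a)) (N := ⊥) (by simp) (by simp) (by simp)
      (by rw [commutator_comm B]; exact (comm_eq_bot.2 c1).le) (comm_eq_bot.2 c1).le
    exact comm_eq_bot.1 (le_bot_iff.1 this)) fun q => c.not_sol (by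
      have := ((((F_nil _).sol.mono q).subgroupOf (𝐍 K)).map φ)
      rwa [subgroupOf_comm nB nB, map_commutator, ← ia, iB, c.perfect] at this)
  exact ⟨M, hM⟩

theorem exc (k : ExcK p F X) : ExcK p F K where
  p35 := k.p35
  rk := h.rank k.pr.2 ▸ k.rk
  big := h.nb_eq h.pf le_rfl ▸ h.im.symm ▸ k.big
  out x n e := by
    obtain ⟨_, a, b, c, q⟩ := (mem_sup_norm' (cent_le_norm X)).1
      (k.out _ (h.norm n) (by rw [← fa_pow n, e, fa_one]))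
    obtain ⟨a, ha, rfl⟩ := h.ex a
    have := (h.cent (mul_mem (inv_mem (nk ha)) n)).1 (by
      rwa [fa_mul (inv_mem (nk ha)) n, fa_inv (nk ha), ← q, inv_mul_cancel_left])
    simpa using mul_mem (mem_sup_left ha) (mem_sup_right (S := K) this)
  e5 := by
    obtain ⟨_, m, b, c, M, d⟩ := k.e5
    obtain ⟨a, ha, rfl⟩ := h.ex m
    exact ⟨a, ha, h.pi ha rfl b, fun q => c ((h.cent (nk ha)).2 q), h.lift_comp (nk ha) d⟩
  cen {α U} i n c s u := by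
    obtain ⟨hp, h2⟩ := k.pr
    have r := k.cen (h.iv i n c) (h.norm n) (fun q => c ((h.cent n).1 q)) (h.syl s) (fa_cent n u)
    refine ⟨fun M q => r.nc _ (h.im ▸ h.comp le_rfl n q), ?_, fun q => r.nd ?_,
      fun β a b d e f => ?_, fun q => ?_, fun q => ?_⟩
    · obtain ⟨x, hx, x1, e⟩ := ex_ord hp r.dv
      obtain ⟨m, a, b, c⟩ := h.lift hp h2 n hx e
      exact orderOf_eq_of_pow hp b (fun q => x1 (by simpa [q, fa_one] using c)) ▸ orderOf_dvd_card' a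
    · have l : K ⊓ 𝐂₁ α ≤ 𝐍 K := inf_le_left.trans (le_norm_self K)
      refine .trans ?_ (card_dvd ((ia_mono (h.fix le_rfl n).le).trans (h.im ▸ ia_inf.le)))
      rw [← relIndex_bot_left, rel_ia l]
      rw [← card_inf_mul_relIndex (pa φ ⊥)] at q
      refine (Nat.Coprime.pow_left 2 ?_).dvd_of_dvd_mul_left q
      obtain ⟨j, hj⟩ := (h.z2.le (H := pa φ ⊥ ⊓ (K ⊓ 𝐂₁ α)) fun _ a =>
        ⟨a.2.1, (h.one (l a.2)).1 (mem_pa.1 a.1).2⟩).card_pow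
      exact hj ▸ ((Nat.coprime_primes hp p2).2 h2).pow_right _
    · exact (r.c1 _ (h.norm a) (fa_pi a b) (d.imp_right fun q => by rw [← fa_mul a a, q, fa_one])
        (fa_c1 a n e) (h.ep hp h2 n ▸ fa_cent a f)).imp (h.cent a).1
          fun q => (h.cent (mul_mem a n)).1 (fa_mul (φ := φ) a n ▸ q)
    · have := r.d3 q
      rw [← h.ep hp h2 n] at this
      exact ⟨this.1.trans (nb_ia_dvd ep_le), fun f => (this.2 f).trans (card_ia ep_le)⟩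
    · exact (h.ep hp h2 n ▸ r.d5 q :).trans (card_ia ep_le)
  e3 v := by
    have := k.e3 (h.vp v)
    unfold E3 at this ⊢
    rw [h.nb_eq v.cp.perfect v.le] at this
    obtain ⟨e⟩ := h.iso v.le v.cp.perfect
    exact this.imp_left fun q => q.imp_right fun q => q.imp_right fun q => q.imp_right fun q =>
      q.imp_right fun q => q.imp_right fun ⟨q⟩ => ⟨e.trans q⟩
  f5 q v a b c d B l e := by
    have := k.f5 q _ (h.mem a) (fa_pi (nk a) b) (fun q => c ((h.cent (nk a)).1 q))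
      (fa_mul (φ := φ) (nk a) (nk a) ▸ (h.cent (nk (mul_mem a a))).2 d) _ (h.im ▸ ia_mono l) (by
        rw [← h.ep k.pr.1 k.pr.2 (nk a)]
        intro _ m
        obtain ⟨g, u, w, rfl⟩ := mem_ia.1 m
        exact fa_cent w (e u))
    rw [rel_ia (l.trans (le_norm_self K))] at this
    exact (rel_le fun _ m => (h.cent (nk (l m.2))).1 (mem_pa.1 m.1).2).trans this

end Act
end CF.Q16
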