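/-
Quasithin groups of even type: abstract criteria for generic components.
-/
import Cfsg.Agent.Known.Q16.Tr
import Cfsg.Agent.Chev.ParX
set_option autoImplicit false
set_option linter.unusedSectionVars false

namespace CF.Q16
open Subgroup Cfsg CF.BG CF.Sig CF.CT CF.CmpT CF.PG CF.Bender CF.SM
open CF.ZD (iv_pi)
open CF.Loc (LocChar IsCharP IsSyl)
open scoped commutatorElement

section
variable {H : Type*} [Group H] [Finite H] {X U L M : Subgroup H} {a e g s v w x y θ : H}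

theorem gen_of_nc (h : ∀ θ L, ¬ VP X θ L) : GenK X :=
  ⟨fun v => (h _ _ v).elim, fun v => (h _ _ v).elim, fun v => (h _ _ v).elim, fun v => (h _ _ v).elim⟩

/-- a normal subgroup of local characteristic two -/
structure LC (X : Subgroup H) : Prop where
  nm : ∀ g, g ∈ 𝐍 X
  ch : ∀ a ∈ X, PiElt {2} a → a ≠ 1 → PLay 2 (X ⊓ 𝐂₁ a) = ⊥

theorem LC.kf (h : LC X) (ha : a ∈ X) (k : PiElt {2} a) (n : a ≠ 1) (i : Iv θ) (c : θ ∈ 𝐂₁ a) :
    ¬ Comp M (X ⊓ 𝐂₁ a ⊓ 𝐂₁ θ) := fun q => by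
  have m : zpowers θ ≤ 𝐍 (X ⊓ 𝐂₁ a) := zpowers_le.2 (zpowers_le.1 (norm_inf (zpowers_le.2 (h.nm θ))
    (norm_of_le (zpowers_le.2 c))))
  have z := normalIn_sup_left m
  have b := PComp.lbal i.orderOf (mem_sup_right (mem_zpowers θ))
    (Comp.pc2 (q.trans (by simpa [inf_assoc] using subN_inf z.subN (𝐂₁ θ))))
  have : PLay 2 (X ⊓ 𝐂₁ a ⊔ zpowers θ) ≤ ⊥ := PLay_le_iff.2 fun K hK => by
    refine (hK.of_le p2 (perf_le hK.perfect (i2_sup (by rw [i.sq]; exact one_mem _) (zpowers_le.1 m))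
      hK.le) le_sup_left).le_PLay.trans (h.ch a ha k n).le
  exact b.ne_bot (le_bot_iff.1 (b.le.trans (inf_le_left.trans this)))

theorem LC.out (h : LC X) (v : VP X θ L) : θ ∉ X := fun q =>
  h.kf q v.iv.pe v.iv.ne v.iv (self_mem_cent1 θ) (by rw [inf_assoc, inf_idem]; exact v.cp)

theorem LC.gen_odd (h : LC X) (o : ∀ θ, Iv θ → θ ∈ X) : GenK X :=
  gen_of_nc fun θ _ v => h.out v (o θ v.iv)

/-- the action of 2-elements on a Sylow subgroup -/
structure LA (X U : Subgroup H) : Prop where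
  a : ∀ y, PiElt {2} y → y ∈ 𝐍 U → I2 (𝐂₁ y) U → y ∈ X
  b : ∀ y ∈ U, y ^ 4 = 1 → y ^ 2 ∈ 𝐂 U → (∀ u ∈ U, u * y * u⁻¹ = y ∨ u * y * u⁻¹ = y * y ^ 2) →
    I2 (𝐂₁ y) U → y ^ 2 = 1
  c : ∀ w, PiElt {2} w → w ∈ 𝐍 U → (∀ e ∈ U, e ∈ 𝐂 U → e * e = 1 → e ∈ 𝐂₁ w) → w ^ 2 ∈ X
  d : ∀ θ w, Iv θ → Iv w → w ∈ 𝐂₁ θ → θ ∈ 𝐍 U → w ∈ 𝐍 U → θ ∉ X → w ∉ X → θ * w ∉ X →
    ∃ e ∈ U, e ∈ 𝐂₁ θ ∧ e ∉ 𝐂₁ w

theorem LA.cj (h : LA X U) (n : ∀ g, g ∈ 𝐍 X) (g : H) : LA X (cj g U) := by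
  have m : ∀ {x}, g * x * g⁻¹ ∈ X ↔ x ∈ X := (mem_norm.1 (n g) _).symm
  have s : ∀ x : H, ∃ y, x = g * y * g⁻¹ := fun x => ⟨g⁻¹ * x * g, by group⟩
  have i : ∀ {y}, I2 (𝐂₁ (g * y * g⁻¹)) (BG.cj g U) → I2 (𝐂₁ y) U := fun q => by
    simpa [← cj_cent1] using q.cj g⁻¹
  have iv : ∀ {y}, Iv (g * y * g⁻¹) → Iv y := fun q => by simpa [mul_assoc] using q.conj' g
  refine ⟨fun y a b c => ?_, fun y a b c d e => ?_, fun y a b c => ?_, fun θ w a b c d e f k l => ?_⟩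
  · obtain ⟨y, rfl⟩ := s y
    exact m.2 (h.a y (piElt_conj_iff.1 a) (by rwa [← cj_norm, conj_mem_cj] at b) (i c))
  · obtain ⟨y, rfl⟩ := s y
    rw [conj_pow] at b c d ⊢
    rw [h.b y (conj_mem_cj.1 a) (conj_eq_one_iff.1 b) (by rwa [← cj_cent, conj_mem_cj] at c)
      (fun u hu => (d _ (conj_mem_cj.2 hu)).imp (fun q => ?_) fun q => ?_) (i e)]
    · simp
    all_goals refine (MulAut.conj g).injective ?_
    all_goals simp only [MulAut.conj_apply]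
    · rw [← q]; group
    · rw [← @conj_mul _ _ y, ← q]; group
  · obtain ⟨y, rfl⟩ := s y
    rw [conj_pow, m]
    refine h.c y (piElt_conj_iff.1 a) (by rwa [← cj_norm, conj_mem_cj] at b) fun e u v w => ?_
    have := c _ (conj_mem_cj.2 u) (cj_cent g U ▸ conj_mem_cj.2 v) (by rw [conj_mul, w]; simp)
    rwa [← cj_cent1, conj_mem_cj] at this
  · obtain ⟨θ, rfl⟩ := s θ
    obtain ⟨w, rfl⟩ := s w
    rw [conj_mul, m] at l
    rw [← cj_norm, conj_mem_cj] at d e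
    rw [← cj_cent1, conj_mem_cj] at c
    obtain ⟨x, u, v, z⟩ := h.d θ w (iv a) (iv b) c d e (mt m.2 f) (mt m.2 k) l
    exact ⟨_, conj_mem_cj.2 u, cj_cent1 g θ ▸ conj_mem_cj.2 v, by rwa [← cj_cent1, conj_mem_cj]⟩

theorem LC.w1 (h : LC X) (v : VP X θ L) (hx : x ∈ X) (k : PiElt {2} x) (a : x ∈ 𝐂₁ θ) (b : x ∈ 𝐂 L) :
    x = 1 := by_contra fun n => h.kf hx k n v.iv (mem_cent1_comm.1 a) (v.cp.of_le
      (le_inf (le_inf v.le (le_cent1_iff.2 b)) (v.cp.le.trans inf_le_right))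
      (inf_le_inf_right _ inf_le_left))

theorem LC.pp (h : LC X) (v : VP X θ L) (s : Syl 2 U X) (n : w ∈ 𝐍 U) (a : w ∈ 𝐂₁ θ) (b : w ∈ 𝐂 L)
    (he : e ∈ U) (c : e ∈ 𝐂₁ θ) : e ∈ 𝐂₁ w := by
  have m : e ∈ 𝐍 L := by_contra fun m => by
    obtain ⟨x, hx, o⟩ := exists_inv (Comp.not_odd (v.cp.cj e))
    have l := cj_le_of_mem (⟨s.le he, c⟩ : e ∈ X ⊓ 𝐂₁ θ) v.cp.le hx
    exact ne_of o (h.w1 v l.1 (iv_of o).pe l.2 (cjc v.cp ⟨s.le he, c⟩ m hx))
  have u : e * (w * e⁻¹ * w⁻¹) ∈ U := mul_mem he (conj_mem_of_norm n (inv_mem he))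
  have := h.w1 v (s.le u) (s.pi.elt u) (mul_mem c (mul_mem (mul_mem a (inv_mem c)) (inv_mem a)))
    (by rw [show e * (w * e⁻¹ * w⁻¹) = e * w * e⁻¹ * w⁻¹ by group]
        exact mul_mem (conj_mem_of_norm (norm_le_norm_cent L m) b) (inv_mem b))
  rw [mem_cent1, ← mul_inv_eq_one, ← this]; group

theorem cent_sq (n : x ∈ 𝐍 U) (x4 : x * x * (x * x) = 1)
    (h : ∀ e ∈ U, e ∈ 𝐂₁ (x * x) → e ∈ 𝐂₁ x) (he : e ∈ U) (c : e ∈ 𝐂 U) (q : e * e = 1) : e ∈ 𝐂₁ x := by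
  let P := fun e => e ∈ U ∧ e ∈ 𝐂 U ∧ e * e = 1
  have d : ∀ e, P e → P (e * (x * e * x⁻¹)) := fun e ⟨a, b, c⟩ =>
    ⟨mul_mem a (conj_mem_of_norm n a), mul_mem b (conj_mem_of_norm (norm_le_norm_cent U n) b), by
      rw [mul_assoc, ← mul_assoc (x * e * x⁻¹), mem_cent.1 b _ (conj_mem_of_norm n a), mul_assoc e,
        conj_mul, ← mul_assoc, c]; simp⟩
  have dd : ∀ e, P e → e * (x * e * x⁻¹) * (x * (e * (x * e * x⁻¹)) * x⁻¹) =
      e * (x * x * e * (x * x)⁻¹) := fun e ⟨_, _, c⟩ => by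
    rw [show e * (x * e * x⁻¹) * (x * (e * (x * e * x⁻¹)) * x⁻¹) =
      e * (x * (e * e) * x⁻¹) * (x * x * e * (x * x)⁻¹) by group, c]; simp
  have k : ∀ e, P e → e * (x * x * e * (x * x)⁻¹) = 1 → e * (x * e * x⁻¹) = 1 := fun e ⟨a, _, c⟩ q => by
    have := h e a (mem_cent1.2 (by
      have := (eq_inv_of_mul_eq_one_right q).trans (inv_eq_of_mul_eq_one_right c)
      conv_lhs => rw [← this]
      group))
    rw [← mem_cent1.1 this, mul_inv_cancel_right, c]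
  have p0 : P e := ⟨he, c, q⟩
  have p2 := d _ (d _ p0)
  have e2 := k _ p2 (by
    rw [dd e p0, show e * (x * x * e * (x * x)⁻¹) * (x * x * (e * (x * x * e * (x * x)⁻¹)) * (x * x)⁻¹) =
      e * (x * x * (e * e) * (x * x)⁻¹) * ((x * x * (x * x)) * e * (x * x * (x * x))⁻¹) by
        simp only [mul_assoc, mul_inv_rev, inv_mul_cancel_left], q, x4]
    simpa using q)
  have e1 := k _ (d _ p0) (by rwa [← dd _ (d _ p0)])
  have e0 := k _ p0 (by rwa [← dd _ p0])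
  have := (eq_inv_of_mul_eq_one_right e0).trans (inv_eq_of_mul_eq_one_right q)
  refine mem_cent1.2 ?_
  conv_lhs => rw [← this]
  group

theorem LC.gen (h : LC X) (s0 : Syl 2 U X) (l : LA X U) : GenK X := by
  have l : ∀ {U}, Syl 2 U X → LA X U := fun s => by
    obtain ⟨g, -, rfl⟩ := s0.syl_conj s; exact l.cj h.nm g
  refine ⟨fun {θ L U y} v s _ b c d => ?_, fun v s a i => h.out v ((l s).a _ v.iv.pe a i),
    fun {θ L w} v k _ a b => ?_, fun v k a b q => h.kf (v.le a) k (fun e => b (e ▸ one_mem _)) v.iv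
      (mem_cent1_comm.1 (v.cp.le a).2) (q.trans (by
        simpa [inf_right_comm] using subN_inf v.cp.subN (𝐂₁ _)))⟩
  · suffices y ^ 2 = 1 from this ▸ one_mem _
    by_contra n
    have i : Iv (y ^ 2) := ⟨n, by rw [← pow_add, d]⟩
    have m := pow_mem (mem_zpowers y) 2
    have f : ∀ u ∈ U, u * y ^ 2 * u⁻¹ = y ^ 2 := fun u hu =>
      Cyc.iv_eq (cyc_zpowers y) (conj_mem_of_norm (c hu) m) m (i.conj u) i
    have cz : y ^ 2 ∈ 𝐂 U := mem_cent.2 fun u hu => mul_inv_eq_iff_eq_mul.1 (f u hu)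
    have z : ∀ u ∈ U, u * y * u⁻¹ = y ∨ u * y * u⁻¹ = y * y ^ 2 := fun u hu =>
      zp4 i (pow_two y).symm (conj_mem_of_norm (c hu) (mem_zpowers y)) (by rw [conj_mul, ← pow_two, f u hu])
    have j : I2 (𝐂₁ y) U := fun u hu t ht nu nt => mem_cent1.2 (mul_inv_eq_iff_eq_mul.1 (by
      have a := (z u hu).resolve_left fun q => nu (mem_cent1.2 (mul_inv_eq_iff_eq_mul.1 q))
      have b := (z t ht).resolve_left fun q => nt (mem_cent1.2 (mul_inv_eq_iff_eq_mul.1 q))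
      rw [show u * t * y * (u * t)⁻¹ = u * (t * y * t⁻¹) * u⁻¹ by group, b, ← conj_mul, a, f u hu,
        mul_assoc, i.sq, mul_one]))
    have k : PiElt {2} y := (piNat_pow_self p2 2).dvd (orderOf_dvd_of_pow_eq_one d)
    exact n ((l s).b y (s.mem_of_norm ((l s).a y k b j) b k) d cz z j)
  by_contra n
  obtain ⟨x, hx, nx, sx⟩ := exists_sq_mem k (K := zpowers θ) fun q => n ((mem_zp2 v.iv.pow2 q).imp
    (fun e => by rw [e]; exact one_mem _) fun e => by rw [e, v.iv.sq]; exact one_mem _)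
  have kx := k.of_mem_zpowers hx
  have a' := zpowers_le.2 a hx
  have b' := zpowers_le.2 b hx
  obtain ⟨U, s, nU⟩ := exists_syl_norm (pi_two kx v.iv.pe (mem_cent1.1 a')) fun g _ => h.nm g
  have nx' := nU (mem_sup_left (mem_zpowers x))
  rcases mem_zp2 v.iv.pow2 sx with q | q
  · have i : Iv x := ⟨fun e => nx (e ▸ one_mem _), pow_two x ▸ q⟩
    have j := iv_mul v.iv i (fun e => nx (e ▸ mem_zpowers _)) (mem_cent1.1 a').symm
    obtain ⟨e, u, c, d⟩ := (l s).d θ x v.iv i a' (nU (mem_sup_right (mem_zpowers θ))) nx' (h.out v)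
      (fun m => i.ne (h.w1 v m kx a' b')) fun m => j.ne (h.w1 v m j.pe (mul_mem (self_mem_cent1 θ) a')
        (mul_mem (le_cent1_iff.1 (v.cp.le.trans inf_le_right)) b'))
    exact d (h.pp v s nx' a' b' u c)
  · rw [pow_two] at q
    refine h.out v (q ▸ pow_two x ▸ (l s).c x kx nx' fun e u c d =>
      cent_sq nx' (by rw [q, v.iv.sq]) (fun e u c => h.pp v s nx' a' b' u (q ▸ c)) u c d)

end

section
variable {X : Type*} [Group X] [Finite X] {U : Subgroup X}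

theorem conj_inj' (z : center X = ⊥) : Function.Injective (MulAut.conj : X →* MulAut X) :=
  (injective_iff_map_eq_one _).2 fun x e => z.le (mem_center_iff.2 fun g => by
    have := DFunLike.congr_fun e g
    simp only [MulAut.conj_apply, MulAut.one_apply] at this
    conv_lhs => rw [← this]
    group)

theorem aut_conj (y : MulAut X) (u : X) : y * MulAut.conj u * y⁻¹ = MulAut.conj (y u) := by
  ext x; simp

theorem conj_c1 (z : center X = ⊥) {y : MulAut X} {u : X} : MulAut.conj u ∈ 𝐂₁ y ↔ y u = u := by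
  rw [mem_cent1, eq_comm, ← mul_inv_eq_iff_eq_mul, aut_conj, (conj_inj' z).eq_iff]

theorem charP_of {L : Subgroup X} (h : IsCharP 2 L) : Sig.CharP 2 L := by
  have : Fact (Nat.Prime 2) := ⟨p2⟩
  have e : pCoreOf 2 L = 𝐎 {2} L := le_antisymm (le_O ⟨CF.Loc.pCoreOf_le _ _,
    CF.Loc.le_normalizer_pCoreOf _ _⟩ (piGrp_of_isPGroup p2 (CF.Loc.isPGroup_pCoreOf _ _)))
    (CF.Loc.le_pCoreOf (O_pi _ _).isPGroup (O_le _ _) (O_normal _ _).norm)
  rwa [CF.Loc.IsCharP, e] at h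

theorem lc_of {H : Type*} [Group H] [Finite H] {f : X →* H} (i : Function.Injective f)
    (n : f.range.Normal) (h : LocChar 2 X) : LC f.range :=
  ⟨fun g => (normalIn_top.2 n).norm trivial, by
    rintro _ ⟨a, rfl⟩ k n
    rw [MonoidHom.range_eq_map, ← map_inf_cent1 i, top_inf_eq, ← map_PLay p2 _ i, map_eq_bot_iff_of_injective _ i]
    have k : PiElt {2} a := by rwa [PiElt, orderOf_injective _ i] at k
    exact ((charP_of (h _ k.zpowers.isPGroup (by simpa using fun e => n (by simp [e])))).subN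
      (cent_zpowers a ▸ (⟨cent_le_norm _, norm_le_norm_cent _⟩ : _ ⊴ _).subN)).PLay p2⟩

variable (U) in
/-- the criterion in terms of automorphisms -/
structure TA : Prop where
  z : center X = ⊥
  loc : LocChar 2 X
  syl : Syl 2 U ⊤
  a : ∀ y : MulAut X, PiElt {2} y → (∀ g, g ∈ U ↔ y g ∈ U) →
    (∀ a ∈ U, ∀ b ∈ U, y a = a ∨ y b = b ∨ y (a * b) = a * b) → y ∈ Inn X
  b : ∀ y ∈ U, y ^ 2 ∈ 𝐂 U → (∀ u ∈ U, u * y * u⁻¹ = y ∨ u * y * u⁻¹ = y * y ^ 2) →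
    I2 (𝐂₁ y) U → y ^ 2 = 1
  c : ∀ w : MulAut X, PiElt {2} w → (∀ g, g ∈ U ↔ w g ∈ U) →
    (∀ e ∈ U, e ∈ 𝐂 U → e * e = 1 → w e = e) → w ^ 2 ∈ Inn X
  d : ∀ θ w : MulAut X, θ * θ = 1 → w * w = 1 → w * θ = θ * w → (∀ g, g ∈ U ↔ θ g ∈ U) →
    (∀ g, g ∈ U ↔ w g ∈ U) → θ ∉ Inn X → w ∉ Inn X → θ * w ∉ Inn X → ∃ e ∈ U, θ e = e ∧ w e ≠ e

theorem TA.gen (h : TA U) : GenK (Inn X) := by
  have i := conj_inj' h.z
  have n : ∀ {y : MulAut X}, y ∈ 𝐍 (U.map MulAut.conj) → ∀ g, g ∈ U ↔ y g ∈ U := fun q g => by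
    rw [← mem_map_iff_mem i, mem_norm.1 q, aut_conj, mem_map_iff_mem i]
  refine (lc_of i (innNormal X) h.loc).gen (U := U.map MulAut.conj)
    (by rw [Inn, MonoidHom.range_eq_map]; exact h.syl.map _) ⟨fun y a b c => h.a y a (n b) fun u hu v hv => ?_, ?_,
      fun y a b c => h.c y a (n b) fun e u v w => (conj_c1 h.z).1 (c _ (mem_map_of_mem _ u)
        (map_cent (zpowers_le.2 v) _ (mem_map_of_mem _ (mem_zpowers e))) (by rw [← map_mul, w, map_one])),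
      fun θ w a b c d e f k l => ?_⟩
  · simpa only [← map_mul, conj_c1 h.z] using c.three (mem_map_of_mem _ hu) (mem_map_of_mem _ hv)
  · rintro _ ⟨y, a, rfl⟩ - c d e
    rw [← map_pow, h.b y a (zpowers_le.1 ((map_cent_iff i).1 (by
      rw [MonoidHom.map_zpowers, zpowers_le, map_pow]; exact c))) (fun u hu => ?_) fun u hu v hv p q => ?_,
      map_one]
    · simpa only [← map_mul, ← map_inv, ← map_pow, i.eq_iff] using d _ (mem_map_of_mem _ hu)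
    · have k : ∀ u, MulAut.conj u ∈ 𝐂₁ (MulAut.conj y) ↔ u ∈ 𝐂₁ y := fun u => by
        simp only [mem_cent1, ← map_mul, i.eq_iff]
      rw [← k] at p q ⊢
      exact map_mul MulAut.conj u v ▸ e _ (mem_map_of_mem _ hu) _ (mem_map_of_mem _ hv) p q
  · obtain ⟨x, u, v, z⟩ := h.d θ w a.sq b.sq (mem_cent1.1 c) (n d) (n e) f k l
    exact ⟨_, mem_map_of_mem _ u, (conj_c1 h.z).2 v, mt (conj_c1 h.z).1 z⟩

variable {G : Type*} [Group G] [Finite G] {K : Subgroup G}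

theorem exists_act' (pf : ⁅K, K⁆ = K) (k : PiGrp {2} (𝐙 K)) (e : K ⧸ center K ≃* X) :
    ∃ φ, Act K φ (Inn X) := by
  obtain ⟨φ, a, b⟩ := CF.KG.exists_act pf (le_refl (𝐍 K))
  have q : ∀ g : K, fa ((MulAut.congr e).toMonoidHom.comp φ) g = MulAut.conj (e g) := fun g => by
    rw [fa_eq (le_norm_self K g.2)]
    ext x
    obtain ⟨x, rfl⟩ := e.surjective x
    obtain ⟨x, rfl⟩ := QuotientGroup.mk_surjective x
    simp [b ⟨g, le_norm_self K g.2⟩ x (g * x * g⁻¹) rfl]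
  refine ⟨(MulAut.congr e).toMonoidHom.comp φ, pf, k, fun g => ?_, le_antisymm (fun _ m => ?_) ?_⟩
  · rw [← mem_subgroupOf, ← a, MonoidHom.mem_ker]
    exact map_eq_one_iff (MulAut.congr e) (MulAut.congr e).injective
  · obtain ⟨g, u, -, rfl⟩ := mem_ia.1 m
    exact ⟨_, (q ⟨g, u⟩).symm⟩
  · rintro _ ⟨x, rfl⟩
    obtain ⟨x, rfl⟩ := e.surjective x
    obtain ⟨x, rfl⟩ := QuotientGroup.mk_surjective x
    exact q x ▸ fa_mem x.2 (le_norm_self K x.2)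

/-- a model of the automorphism group -/
theorem exists_act {H : Type*} [Group H] [Finite H] {Y : Subgroup H} [n : Y.Normal] (c : 𝐂 Y = ⊥)
    (o : Nat.card H = ♯Y * Nat.card (Out Y)) (pf : ⁅K, K⁆ = K) (k : PiGrp {2} (𝐙 K))
    (e : K ⧸ center K ≃* Y) : ∃ φ, Act K φ Y := by
  obtain ⟨φ, a⟩ := exists_act' pf k e
  have i : Function.Injective (MulAut.conjNormal : H →* MulAut Y) :=
    (injective_iff_map_eq_one _).2 fun x e => c.le (mem_cent.2 fun g m => by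
      have := congrArg Subtype.val (DFunLike.congr_fun e ⟨g, m⟩)
      simp only [MulAut.conjNormal_apply, MulAut.one_apply] at this
      conv_lhs => rw [← this]
      group)
  have z : center Y = ⊥ := eq_bot_iff.2 fun x m => Subtype.ext (c.le ((mem_ctr x).1 m))
  let f := MulEquiv.ofBijective _ ((Nat.bijective_iff_injective_and_card _).2 ⟨i, by
    rw [o, card_eq_card_quotient_mul_card_subgroup (Inn Y), mul_comm,
      Nat.card_congr (MonoidHom.ofInjective (conj_inj' z)).toEquiv]⟩)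
  refine ⟨f.symm.toMonoidHom.comp φ, pf, k, fun g => by simpa using a.ker g, ?_⟩
  rw [ia, ← map_map, ← ia, a.im]
  ext x
  simp only [mem_map, MulEquiv.coe_toMonoidHom, MulEquiv.symm_apply_eq, exists_eq_right]
  refine ⟨fun ⟨y, e⟩ => ?_, fun m => ⟨⟨x, m⟩, by ext; simp [f]⟩⟩
  rw [← i (a₁ := y) (a₂ := x) (.trans (by ext; simp) e)]
  exact y.2

end
end CF.Q16
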