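/-
Quasithin groups of even type: automorphisms of groups of Lie type in characteristic two.
-/
import Cfsg.Agent.Known.Q16.Lie1
set_option autoImplicit false
set_option linter.unusedSectionVars false

namespace CF.Q16
open Subgroup Cfsg CF.BG CF.Chev CF.BN CF.Chev.StRep CF.KG
open CF.CT (p2)

section
variable {K : Type*} [Field K] [Finite K] [CharP K 2] {υ : RingAut K} {e : Kˣ}

theorem odd_units : (Nat.card Kˣ).Coprime 2 := (Nat.Coprime.symm ((Nat.Prime.coprime_iff_not_dvd p2).2 fun d => by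
  have : Fact (Nat.Prime 2) := ⟨p2⟩
  obtain ⟨u, o⟩ := exists_prime_orderOf_dvd_card' 2 d
  have := pow_orderOf_eq_one u
  rw [o, Units.ext_iff, Units.val_pow_eq_pow_val, Units.val_one, sq_eq_one_iff, CharTwo.neg_eq, or_self] at this
  rw [Units.val_eq_one.1 this] at o
  simp at o))

omit [Finite K] [CharP K 2] in
theorem eq_one_of_sl (h : ∀ t, e * υ t = t) : υ = 1 := by
  have := h 1
  rw [map_one, mul_one] at this
  exact RingEquiv.ext fun t => by simpa [this] using h t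

theorem eq_one_of_three (c : 4 < Nat.card K)
    (h : ∀ t s, e * υ t = t ∨ e * υ s = s ∨ e * υ (t + s) = t + s) : υ = 1 := by
  by_contra n
  have two : ∀ {e : Kˣ} {w}, (∀ t s, e * υ t = t ∨ e * υ s = s ∨ e * υ (t + s) = t + s) → e * υ w ≠ w →
      ∀ t, e * υ t = t ∨ e * υ (t + w) = t + w := fun h q t => (h t _).imp_right fun k => k.resolve_left q
  have cd : ∀ a b c d : K, ¬ ∀ t, t = a ∨ t = b ∨ t = c ∨ t = d := fun a b c d q => by
    have := (Set.ncard_le_ncard (s := Set.univ) (t := {a, b, c, d}) fun x _ => q x).trans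
      ((Set.ncard_insert_le _ _).trans (Nat.succ_le_succ ((Set.ncard_insert_le _ _).trans
        (Nat.succ_le_succ ((Set.ncard_insert_le _ _).trans (Nat.succ_le_succ (Set.ncard_singleton d).le))))))
    rw [Set.ncard_univ] at this
    omega
  obtain ⟨w, q⟩ := not_forall.1 (mt eq_one_of_sl n : ¬ ∀ t, e * υ t = t)
  obtain ⟨z, z0, hz⟩ : ∃ z ≠ 0, e * υ z = z := by_contra fun m => cd 0 w 0 0 fun t =>
    (two h q t).imp (fun k => by_contra fun j => m ⟨t, j, k⟩) fun k => .inl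
      (CharTwo.add_eq_zero.1 (by_contra fun j => m ⟨_, j, k⟩))
  have k : ∀ t, e * υ (z * t) = z * t ↔ υ t = t := fun t => by
    rw [map_mul, ← mul_assoc, hz, mul_right_inj' z0]
  have h' : ∀ t s, (1 : Kˣ) * υ t = t ∨ (1 : Kˣ) * υ s = s ∨ (1 : Kˣ) * υ (t + s) = t + s := fun t s => by
    simpa only [← mul_add, k, Units.val_one, one_mul] using h (z * t) (z * s)
  obtain ⟨w, q⟩ := not_forall.1 (mt eq_one_of_sl n : ¬ ∀ t, (1 : Kˣ) * υ t = t)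
  have h2 := two h' q
  simp only [Units.val_one, one_mul] at h2 q
  have f : ∀ l, υ l = l → l = 0 ∨ l = 1 := fun l j => (h2 (l * w)).imp
    (fun k => by_contra fun l0 => q (mul_left_cancel₀ l0 (by rwa [map_mul, j] at k))) fun k => by_contra fun l1 =>
      q (mul_left_cancel₀ (mt CharTwo.add_eq_zero.1 l1) (by
        rw [map_add, map_mul, j] at k; linear_combination k))
  refine cd 0 1 w (w + 1) fun t => (h2 t).elim (fun k => (f t k).imp_right .inl) fun k => .inr (.inr ?_)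
  exact (f _ k).imp CharTwo.add_eq_zero.1 fun j => by rw [← j, add_comm t, CharTwo.add_cancel_left]

omit [CharP K 2] in
theorem eq_of_sq {τ : RingAut K} (a : υ ^ 2 = 1) (b : τ ^ 2 = 1) (c : υ ≠ 1) (d : τ ≠ 1) : υ = τ := by
  have := CF.Known.isCyclic_ringAut (F := K)
  exact CF.Q16.Cyc.iv_eq (Y := ⊤) inferInstance trivial trivial ⟨c, pow_two υ ▸ a⟩ ⟨d, pow_two τ ▸ b⟩
end

variable {B ι : Type} [Fintype B] [DecidableEq B] [Fintype ι] [DecidableEq ι]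
  {C : ChevBasis B ι} {K : Type*} [Field K] {G : Type*} [Group G] {ρ : StRep C K G}
  {T : Tw ρ} {G1 : Subgroup G} {ω : ι → ℝ} {y w : MulAut G1} {θ η : MulAut G} {π π' : Equiv.Perm B}
  {a a' : B → Kˣ} {f f' : B → K ≃+* K} {P : Equiv.Perm B → Prop} {υ : RingAut K} {i j : B} {r s c δ : ι}

variable (ρ) in
/-- `y` is induced by `θ` up to an element of the Borel subgroup -/
structure Rp (y : MulAut G1) (θ : MulAut G) : Prop where
  st : θ ∈ ρ.Stab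
  ex : ∃ x : G1, x.1 ∈ ρ.Bo ∧ ∀ g : G1, (y g).1 = x * θ g * x.1⁻¹

theorem rp_one : Rp ρ (1 : MulAut G1) 1 := ⟨one_mem _, 1, one_mem _, by simp⟩

theorem Rp.inn (h : Rp ρ y 1) : y ∈ Inn G1 := by
  obtain ⟨x, -, e⟩ := h.ex
  exact ⟨x, MulEquiv.ext fun g => Subtype.ext (e g).symm⟩

theorem Rp.mul (A : ρ.IsAdj) (h : Rp ρ y θ) (k : Rp ρ w η) : Rp ρ (y * w) (θ * η) := by
  obtain ⟨x, a, e⟩ := h.ex
  obtain ⟨x', b, e'⟩ := k.ex
  refine ⟨mul_mem h.st k.st, y x' * x, ?_, fun g => ?_⟩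
  · simpa [e] using mul_mem a (Stab.mem_Bo A.faithful A.gp h.st b)
  · simp [e, e', mul_assoc]

theorem Rp.pow (A : ρ.IsAdj) (h : Rp ρ y θ) (n : ℕ) : Rp ρ (y ^ n) (θ ^ n) := by
  induction n with
  | zero => exact rp_one
  | succ n ih => rw [pow_succ, pow_succ]; exact ih.mul A h

theorem std_pow (A : ρ.IsAdj) (s : ρ.Std θ 1 a fun _ => υ) (n : ℕ) :
    ∃ a, ρ.Std (θ ^ n) 1 a fun _ => (υ ^ n : RingAut K) := by
  induction n with
  | zero => exact ⟨_, by simpa using A.std_fieldAut 1⟩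
  | succ n ih => rw [pow_succ', pow_succ']; exact ⟨_, s.mul ih.choose_spec⟩

theorem std_eq (A : ρ.IsAdj) (s : ρ.Std θ 1 a fun _ => υ) : θ = A.diagAut (charOf a) * A.fieldAut υ :=
  s.ext A.gp (by simpa [charOf_simple] using A.std_mul (charOf a) υ)

theorem Rp.key [Finite K] [CharP K 2] [Finite G] (A : ρ.IsAdj) (h : Rp ρ y θ) (s : ρ.Std θ 1 a fun _ => υ)
    {m : ℕ} (o : m.Coprime 2) (e : υ ^ m = 1) (k : PiElt {2} y) : y ∈ Inn G1 := by
  obtain ⟨b, s⟩ := std_pow A s m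
  obtain ⟨j, hj⟩ := PiNat.exists_pow k (orderOf_pos _).ne'
  have := h.pow A (m * Nat.card Kˣ)
  rw [pow_mul θ, std_eq A s, e, map_one, mul_one, ← map_pow,
    show charOf b ^ Nat.card Kˣ = 1 from MonoidHom.ext fun v => by simp, map_one] at this
  exact CF.CT.mem_of_pow_pow this.inn (by rw [← hj, pow_orderOf_eq_one]; exact one_mem _)
    ((o.mul_left odd_units).pow_right j)

theorem mem_Ui (hρ : ρ.Faithful) {u : G} (e : Kˣ) : u ∈ ρ.U (C.nbl (C.simple i)) ↔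
    u ∈ ρ.Up ∧ ρ.n (C.simple i) e * u * (ρ.n (C.simple i) e)⁻¹ ∈ ρ.Up := by
  have n := C.refl_simple i ▸ acts_n (ρ := ρ) (C.simple i) e
  rw [C.lo_simple]
  refine ⟨fun h => ⟨ρ.Ui_le_Up i h, ρ.Ui_le_Up i (n.conj_Ui h)⟩, fun ⟨h, k⟩ => ?_⟩
  obtain ⟨a, ha, t, rfl⟩ := exists_Ui_mul_x i h
  rw [← conj_mul, mul_mem_cancel_left (ρ.Ui_le_Up i (n.conj_Ui ha)), ρ.nrel] at k
  by_cases q : t = 0
  · simpa [q] using ha
  · exact absurd ((x_mem_Bo_iff hρ (by simp [q])).1 (ρ.Up_le_Bo k)) (C.not_pos_neg_simple i)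

theorem Rp.bo (h : Rp ρ y θ) (hr : C.Pos r) :
    ∃ e : Kˣ, ∀ t (g : G1), Ld ρ r t (θ g) → Ld ρ r (e * t) (y g) := by
  obtain ⟨x, a, q⟩ := h.ex
  obtain ⟨e, l⟩ := ld_Bo hr a
  exact ⟨e, fun t g m => q g ▸ l t _ m⟩

theorem Rp.ld (hρ : ρ.Faithful) (h : Rp ρ y θ) (s : ρ.Std θ π a f) (i : B) :
    ∃ e : Kˣ, ∀ t (g : G1), Ld ρ (C.simple i) t g → Ld ρ (C.simple (π i)) (e * f i t) (y g) := by
  obtain ⟨e, l⟩ := h.bo (C.pos_simple (π i))
  refine ⟨e * a i, fun t g m => ?_⟩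
  rw [Units.val_mul, mul_assoc]
  refine l _ g ?_
  rw [Ld, ← s.pos, ← map_inv, ← map_mul, mem_Ui hρ, ← Pre.n s hρ i 1, ← map_inv, ← map_mul, ← map_mul,
    h.st.1, h.st.1]
  exact (mem_Ui hρ 1).1 m

theorem Rp.ld1 (A : ρ.IsAdj) (h : Rp ρ y θ) (s : ρ.Std θ 1 a fun _ => υ) (hr : C.Pos r) :
    ∃ e : Kˣ, ∀ t (g : G1), Ld ρ r t g → Ld ρ r (e * υ t) (y g) := by
  obtain ⟨e, l⟩ := h.bo hr
  have q : ∀ r t, θ (ρ.x r t) = ρ.x r ((charOf a).ev (C.vec r) * υ t) := fun r t => by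
    rw [std_eq A s, MulAut.mul_apply, A.fieldAut_x, A.diagAut_x]
  refine ⟨e * (charOf a).ev (C.vec r), fun t g m => ?_⟩
  rw [Units.val_mul, mul_assoc]
  refine l _ g ?_
  rw [Ld, ← q, ← map_inv, ← map_mul]
  exact ρ.U_induction (p := fun v => θ v ∈ ρ.U (C.nbl r)) (by simp)
    (fun _ _ _ _ a b => by rw [map_mul, q]; exact mul_mem b (ρ.x_mem_U a _)) m

variable (T G1 ω P) in
/-- a model -/
structure LM : Prop where
  lt : LT 2 T G1 ω
  adj : ρ.IsAdj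
  ext : ∀ ψ ∈ StabT ρ G1, ∃ θ ∈ ρ.Stab, (∃ π a f, ρ.Std θ π a f ∧ P π) ∧ ∀ g : G1, (ψ g).1 = θ g

theorem ld_crd {t : K} (h : Crd ρ G1 i t) : ∃ g : G1, Ld ρ (C.simple i) t g := by
  obtain ⟨b, a, m⟩ := h
  exact ⟨⟨_, m⟩, by simpa [Ld, C.lo_simple] using a⟩

namespace LM
variable (M : LM T G1 ω P)
include M

theorem z : center G1 = ⊥ := eq_bot_iff.2 fun _ h => Subtype.ext (M.adj.center.le (M.lt.lt0.mem_center_iff.1 h))

theorem rp (h : ∀ g, g ∈ ρ.Up.subgroupOf G1 ↔ y g ∈ ρ.Up.subgroupOf G1) :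
    ∃ θ π a f, Rp ρ y θ ∧ ρ.Std θ π a f ∧ P π := by
  have := M.lt.finite
  obtain ⟨x, m⟩ := exists_conj_mul_mem_stabT M.lt y
  obtain ⟨θ, st, ⟨π, a, f, s, p⟩, e⟩ := M.ext _ m
  refine ⟨θ, π, a, f, ⟨st, x⁻¹, inv_mem_iff.2 (M.lt.form.mem_Bo_of_conj fun g u => ?_), fun g => ?_⟩, s, p⟩
  · obtain ⟨g, rfl⟩ := y.surjective g
    exact (m.1 g).2 ((h g).2 u)
  · simp [← e, mul_assoc]

theorem sf (s : ρ.Std θ 1 a f) (i : B) : ρ.Std θ 1 a fun _ => f i :=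
  funext (fun j => s.f_eq M.adj.faithful M.lt.conn (fun _ _ => rfl) i j) ▸ s

theorem key (h : Rp ρ y θ) (s : ρ.Std θ 1 a fun _ => υ) (e : υ ^ 3 = 1) (k : PiElt {2} y) : y ∈ Inn G1 :=
  have := M.lt.finite; have := M.lt.fin; have := M.lt.char
  h.key M.adj s (by norm_num) e k

theorem key1 (h : Rp ρ y θ) (s : ρ.Std θ 1 a f) (e : f i = .refl K) (k : PiElt {2} y) : y ∈ Inn G1 :=
  M.key h (M.sf s i) (by rw [e]; exact one_pow 3) k

theorem ta (ha : ∀ y θ π a f, PiElt {2} y → Rp ρ y θ → ρ.Std θ π a f → P π → (∀ a b : G1, a.1 ∈ ρ.Up →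
      b.1 ∈ ρ.Up → y a = a ∨ y b = b ∨ y (a * b) = a * b) → y ∈ Inn G1)
    (hb : ∀ y z, y ∈ ρ.Up ⊓ G1 → z ∈ ρ.Up ⊓ G1 → HB (ρ.Up ⊓ G1) y z → y ^ 2 = 1)
    (hc : ∀ y θ π a f, PiElt {2} y → Rp ρ y θ → ρ.Std θ π a f → P π → (∀ e : G1, e.1 ∈ ρ.Up →
      (∀ u ∈ ρ.Up, Commute e.1 u) → e.1 ^ 2 = 1 → y e = e) → y ^ 2 ∈ Inn G1)
    (hd : ∀ y θ π a f w η π' a' f', y * y = 1 → w * w = 1 → w * y = y * w → Rp ρ y θ → ρ.Std θ π a f → P π →
      Rp ρ w η → ρ.Std η π' a' f' → P π' → y ∉ Inn G1 → w ∉ Inn G1 → y * w ∉ Inn G1 →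
      ∃ e : G1, e.1 ∈ ρ.Up ∧ y e = e ∧ w e ≠ e) :
    have := M.lt.finite; TA (ρ.Up.subgroupOf G1) := by
  have := M.lt.finite
  refine ⟨M.z, M.lt.locChar M.adj.center, ?_, fun y k u h => ?_, fun y u c h _ => Subtype.ext
    (hb y (y ^ 2)⁻¹.1 ⟨u, y.2⟩ ⟨(inv_mem (pow_mem u 2) :), (y ^ 2)⁻¹.2⟩ ⟨fun v m => ?_, fun v m => ?_⟩),
    fun y k u h => ?_, fun y w a b c u v d e f => ?_⟩
  · have := syl_sylow_top M.lt.isSyl.toSylow
    rwa [CF.Loc.IsSyl.coe_toSylow, inf_subgroupOf_right] at this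
  · obtain ⟨θ, π, a, f, r, s, p⟩ := M.rp u
    exact ha y θ π a f k r s p fun a b c d => h a c b d
  · have := congrArg Subtype.val (mem_cent.1 (inv_mem c) ⟨v, m.2⟩ m.1)
    rw [cm, mul_assoc, mul_assoc, show v * _ = _ from this]
    simp
  · refine (h ⟨v, m.2⟩⁻¹ (inv_mem m.1)).imp (fun q => ?_) fun q => ?_
    all_goals
      have := congrArg (fun g : G1 => g.1⁻¹ * y) q
      simpa [cm, mul_assoc, pow_two] using this
  · obtain ⟨θ, π, a, f, r, s, p⟩ := M.rp u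
    exact hc y θ π a f k r s p fun e b c d => h e b (mem_cent.2 fun g m => Subtype.ext (c g m).eq.symm)
      (Subtype.ext ((pow_two e.1).symm.trans d))
  · obtain ⟨θ, π, a', f', r, s, p⟩ := M.rp u
    obtain ⟨θ', π', a'', f'', r', s', p'⟩ := M.rp v
    exact hd y θ π a' f' w θ' π' a'' f'' a b c r s p r' s' p' d e f

end LM
end CF.Q16
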