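/-
Quasithin groups of even type: the untwisted groups of Lie type.
-/
import Cfsg.Agent.Known.Q16.Lie3
set_option autoImplicit false
set_option linter.unusedSectionVars false

namespace CF.Q16
open Subgroup Cfsg CF.BG CF.Chev CF.BN CF.Chev.StRep CF.KG
open CF.CT (p2)
open scoped commutatorElement

universe u

/-- components with central quotient `X` are generic or exceptional -/
def Gd (X : Type*) [Group X] : Prop := ∀ (G : Type u) [Group G] [Finite G] (K : Subgroup G), ⁅K, K⁆ = K →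
  PiGrp {2} (𝐙 K) → Nonempty (K ⧸ center K ≃* X) → GenK K ∨ ∃ p F, ExcK p F K

section
variable {X Y : Type*} [Group X] [Group Y]
theorem Gd.congr (h : Gd.{u} Y) (e : X ≃* Y) : Gd.{u} X := fun G _ _ K a b ⟨f⟩ => h G K a b ⟨f.trans e⟩

theorem gd_inn [Finite X] (h : GenK (Inn X)) : Gd.{u} X := fun _ _ _ _ a b ⟨f⟩ =>
  .inl ((exists_act' a b f).choose_spec.gen h)

theorem d_cyc [Finite X] (c : IsCyclic (Out X)) {y w : MulAut X} (a : y * y = 1) (b : w * w = 1) (n : y ∉ Inn X)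
    (m : w ∉ Inn X) : y * w ∈ Inn X := by
  have k : ∀ {y : MulAut X}, y * y = 1 → y ∉ Inn X → CF.Bender.Iv (y : Out X) := fun a n =>
    ⟨mt (QuotientGroup.eq_one_iff _).1 n, congrArg _ a⟩
  have e := Cyc.iv_eq (Y := ⊤) inferInstance trivial trivial (k a n) (k b m)
  refine (QuotientGroup.eq_one_iff _).1 ?_
  rw [QuotientGroup.mk_mul, e]
  exact (k b m).sq
end

variable {B ι : Type} [Fintype B] [DecidableEq B] [Fintype ι] [DecidableEq ι]
  {C : ChevBasis B ι} {K : Type} [Field K] {G : Type} [Group G] {ρ : StRep C K G}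
  {P : Equiv.Perm B → Prop} {r s c δ : ι} [Finite K] [CharP K 2]

theorem lm_triv [Nonempty B] (A : ρ.IsAdj) (hC : C.Conn) (h : ∀ θ π a f, ρ.Std θ π a f → P π) :
    LM (trivTw A.faithful A.gp) ⊤ 1 P := ⟨lt_triv _ _ hC A.r3, A, fun ψ m => by
  have s : MulAut.congr topEquiv ψ ∈ ρ.Stab := ⟨fun g => m.1 ⟨g, trivial⟩, fun g => m.2 ⟨g, trivial⟩⟩
  obtain ⟨π, a, f, q⟩ := Stab.exists_std A.faithful A.gp s
  exact ⟨_, s, ⟨π, a, f, q, h _ π a f q⟩, fun _ => rfl⟩⟩

theorem crd_top (i : B) (t : K) : Crd ρ ⊤ i t := ⟨1, one_mem _, trivial⟩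

variable (C) in
/-- a commutator step in characteristic two -/
abbrev St (r c : ι) : Prop := C.Pos r ∧ ∃ s, C.Pos s ∧ C.vec c = C.vec s + C.vec r ∧ C.N r s % 2 = 1

theorem St.step (h : St C r c) : Step C K r c := h.imp_right fun ⟨s, a, b, n⟩ => ⟨s, a, b, fun e => by
  have := (CharP.intCast_eq_zero_iff K 2 _).1 e
  omega⟩

theorem st_of (l : C.SameLen) (h : C.Pos r ∧ ∃ s, C.Pos s ∧ C.vec c = C.vec s + C.vec r) : St C r c :=
  h.imp_right fun ⟨s, a, b⟩ => ⟨s, a, b, by have := C.N_long (fun z => (l z r).le) b; omega⟩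

theorem hb_triv (hρ : ρ.Faithful) {k : ℤ} (k0 : 0 < k) (e : ∀ r, C.Pos r → hgt C r < k →
    ∃ c, St C r c ∧ ((∃ l : K, l ≠ 0 ∧ l ≠ 1) ∨ ∃ d, St C c d))
    (h : ∀ r s, k ≤ hgt C r → k ≤ hgt C s → ∀ t u, Commute (ρ.x r t) (ρ.x s u)) (y z : G)
    (a : y ∈ ρ.Up ⊓ ⊤) (_ : z ∈ ρ.Up ⊓ ⊤) (b : HB (ρ.Up ⊓ ⊤) y z) : y ^ 2 = 1 :=
  sq_fl k0 h ((inf_top_eq ρ.Up ▸ b :).fl hρ a.1 fun r p q => (e r p q).imp fun _ m =>
    ⟨m.1.step, m.2.imp_right (.imp fun _ => St.step)⟩)

theorem ex_ne (h : 2 < Nat.card K) : ∃ l : K, l ≠ 0 ∧ l ≠ 1 := by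
  have := Fintype.ofFinite K
  exact Suz.exists_ne_zero_ne_one (Nat.card_eq_fintype_card (α := K) ▸ h)

theorem h6_top (υ : RingAut K) (h : ∀ t, ρ.x δ t ∈ (⊤ : Subgroup G) → υ t = t) : υ ^ 6 = 1 := by
  rw [show υ = 1 from RingEquiv.ext fun t => h t trivial, one_pow]

/-- coordinates of the roots of type `A` -/
def vA (n : ℕ) (r : RtA n) (i : Fin n) : ℤ := (if r.1.1.val ≤ i then 1 else 0) - if r.1.2.val ≤ i then 1 else 0

theorem vecA (n : ℕ) : (cbA n).vec = vA n := funext fun r => funext fun i => by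
  have := (eucA n).L_dot ((cbA n).vec r) fun k => if k.val ≤ i then 1 else 0
  rw [show (eucA n).L ((cbA n).vec r) = _ from (eucA n).L_rs_vec r, Finset.sum_eq_single i] at this
  · simpa [eucA_ev, eucA_simple, wtA, vA] using this.symm
  · intro j _ n
    have : j.val ≠ i := fun e => n (Fin.ext e)
    simp only [eucA_ev, eucA_simple, wtA, sub_dotProduct, single_dotProduct, Fin.val_castSucc, Fin.val_succ]
    split_ifs <;> omega
  · simp

theorem adjA (n : ℕ) (h : 1 ≤ n) : (slRep n K).quot.IsAdj := adj_quot (faithful_slRep n K h) (slRep_Gp n K)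

/-- the highest root of type `A` -/
def tA (n : ℕ) : RtA (n + 1) := ⟨(0, Fin.last _), by simp [Fin.ext_iff]⟩

theorem gd_A1 (h : 4 < Nat.card K) : Gd.{u} (Matrix.ProjectiveSpecialLinearGroup (Fin 2) K) := by
  have A := adjA (K := K) 1 le_rfl
  have M := lm_triv (P := (· = 1)) A connA fun _ _ _ _ _ => Subsingleton.elim _ _
  have := M.lt.finite
  exact (gd_inn (M.ta (fun y θ π a f k r s p => M.a1 (crd_top 0) h k r (p ▸ s))
    (hb_triv A.faithful one_pos (fun r a b => absurd (pos_iff_hgt.1 a) (by omega)) (comm_hgt one_pos (by simp only [RootSys.Pos, RootSys.Top, hgt, RootSys.ht_apply, vecA, cbA_simple, cbA_car, Pi.le_def]; decide +kernel +revert)))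
    (fun y θ π a f k r s p => M.c1 (δ := tA 0) (by simp only [RootSys.Pos, RootSys.Top, hgt, RootSys.ht_apply, vecA, cbA_simple, cbA_car, Pi.le_def]; decide +kernel +revert) trivial h6_top k r (p ▸ s))
    fun _ _ _ _ _ _ _ _ _ _ a b c r s p r' s' p' n n' m =>
      absurd (M.d1 (crd_top 0) a b c r (p ▸ s) r' (p' ▸ s') n n') m).gen).congr topEquiv.symm

theorem r2A : R2 (cbA 2) K 0 1 (tA 1) := ⟨by decide, by decide, by simp only [RootSys.Pos, RootSys.Top, hgt, RootSys.ht_apply, vecA, cbA_simple, cbA_car, Pi.le_def]; decide +kernel +revert, by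
  rw [cbA_simple, cbA_simple]; exact (congrArg _ (cbA_N _ _ (by decide))).trans Int.cast_one⟩

theorem fl_top (h : C.Top δ) {k : ℤ} (e : ∀ r, k ≤ hgt C r → r = δ) {v : G} (hv : v ∈ Fl ρ k) :
    ∃ t, v = ρ.x δ t := by
  obtain ⟨t, rfl⟩ := ρ.mem_X.1 (ρ.U_singleton δ ▸ ρ.U_mono e hv)
  exact ⟨t, rfl⟩

theorem gd_A2 (h : 2 < Nat.card K) : Gd.{u} (Matrix.ProjectiveSpecialLinearGroup (Fin 3) K) := by
  have A := adjA (K := K) 2 (by omega)
  have M := lm_triv (P := fun π => ∀ i j, (cbA 2).car (π i) (π j) = (cbA 2).car i j) A connA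
    fun _ π _ _ s => by clear s; revert π; simp only [RootSys.Pos, RootSys.Top, hgt, RootSys.ht_apply, vecA, cbA_simple, cbA_car, Pi.le_def]; decide +kernel +revert
  have := M.lt.finite
  have t : (cbA 2).Top (tA 1) := by simp only [RootSys.Pos, RootSys.Top, hgt, RootSys.ht_apply, vecA, cbA_simple, cbA_car, Pi.le_def]; decide +kernel +revert
  have c := comm_hgt (ρ := (slRep 2 K).quot) two_pos (by simp only [RootSys.Pos, RootSys.Top, hgt, RootSys.ht_apply, vecA, cbA_simple, cbA_car, Pi.le_def]; decide +kernel +revert)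
  have s : ∀ {θ π a f}, (slRep 2 K).quot.Std θ π a f → (∀ i j, (cbA 2).car (π i) (π j) = (cbA 2).car i j) →
      (slRep 2 K).quot.Std θ π a fun _ => f 0 := fun s p =>
    funext (fun j => s.f_eq M.fa connA p 0 j) ▸ s
  exact (gd_inn (M.ta (fun y θ π a f k r s _ => M.a2 (ex_ne h) k r s)
    (hb_triv A.faithful two_pos (fun r a b => ⟨tA 1, st_of sameLen_cbA (by revert r; simp only [RootSys.Pos, RootSys.Top, hgt, RootSys.ht_apply, vecA, cbA_simple, cbA_car, Pi.le_def]; decide +kernel +revert), .inl (ex_ne h)⟩) c)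
    (fun y θ π a f k r s p => r2A.c2 M (fun v hv => ⟨fun u a => by
      obtain ⟨t', rfl⟩ := fl_top t (by simp only [RootSys.Pos, RootSys.Top, hgt, RootSys.ht_apply, vecA, cbA_simple, cbA_car, Pi.le_def]; decide +kernel +revert) hv
      exact commute_top t a t', sq_fl two_pos c hv⟩) k r s)
    fun _ _ _ _ _ _ _ _ _ _ a b c r q p r' q' p' =>
      r2A.d4 M t a b c r (s q p) r' (s q' p')).gen).congr topEquiv.symm

theorem aut_two (h : Nat.card K = 2) (f : K ≃+* K) : f = .refl K := RingEquiv.ext fun t => by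
  obtain rfl | rfl : t = 0 ∨ t = 1 := by
    by_contra! q
    have := (Set.ncard_le_ncard (Set.subset_univ {t, 0, 1})).trans_eq ((Set.ncard_univ K).trans h)
    rw [Set.ncard_eq_three.2 ⟨t, 0, 1, q.1, q.2, zero_ne_one, rfl⟩] at this
    omega
  all_goals simp

theorem gd_A34 {n : ℕ} (hn : n = 1 ∨ n = 2) (h : Nat.card K = 2) :
    Gd.{u} (Matrix.ProjectiveSpecialLinearGroup (Fin (n + 3)) K) := by
  have A := adjA (K := K) (n + 2) (by omega)
  have M := lm_triv (P := fun π => π = 1 ∨ π = Fin.revPerm) A connA fun _ π _ _ s => by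
    have := s.car_eq_zero_iff A.faithful
    clear s
    revert π
    rcases hn with rfl | rfl <;> (simp only [RootSys.Pos, RootSys.Top, hgt, RootSys.ht_apply, vecA, cbA_simple, cbA_car, Pi.le_def]; decide +kernel +revert)
  have := M.lt.finite
  have e : (cbA (n + 2)).vec ⟨((Fin.last n).castSucc.castSucc, Fin.last _), (Fin.castSucc_lt_last _).ne⟩ = (cbA (n + 2)).vec
      ((cbA (n + 2)).simple (Fin.revPerm 0)) + (cbA (n + 2)).vec ((cbA (n + 2)).simple (Fin.revPerm 1)) := by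
    rcases hn with rfl | rfl <;> (simp only [RootSys.Pos, RootSys.Top, hgt, RootSys.ht_apply, vecA, cbA_simple, cbA_car, Pi.le_def]; decide +kernel +revert)
  have i : ∀ {y θ π a f}, PiElt {2} y → Rp _ y θ → (slRep (n + 2) K).quot.Std θ π a f → π = 1 → y ∈ Inn _ :=
    fun k r s p => M.key1 r (p ▸ s) (i := 0) (aut_two h _) k
  have v : (Fin.revPerm * Fin.revPerm : Equiv.Perm (Fin (n + 2))) = 1 := Equiv.ext Fin.rev_rev
  refine (gd_inn (M.ta (fun y θ π a f k r s p q => p.elim (i k r s) fun p => (M.a3 (i := 0) (j := 1) r s ?_ ?_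
      (p ▸ e) (by rw [cast_eq_one_of_two ((cbA _).N_long (fun z => (sameLen_cbA z _).le) (p ▸ e))]; simp) q).elim)
    (hb_triv A.faithful (k := n + 1) (by omega) (fun r a b => ?_) (comm_hgt (by omega) ?_))
    (fun y θ π a f k r s p _ => M.c3 r s k (by rcases p with rfl | rfl; exacts [rfl, v]) fun _ => aut_two h _)
    fun _ _ _ _ _ _ _ _ _ _ a b c r q p r' q' p' n n' m => absurd (i (pe2 (sq_mul a b c)) (r.mul A r') (q.mul q')
      (by rw [p.resolve_left (mt (i (pe2 a) r q) n), p'.resolve_left (mt (i (pe2 b) r' q') n'), v])) m).gen).congr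
    topEquiv.symm
  iterate 2 rcases hn with rfl | rfl <;> rw [p] <;> decide
  · obtain ⟨c, a, d, b⟩ : ∃ c, ((cbA _).Pos r ∧ ∃ s, (cbA _).Pos s ∧ (cbA _).vec c = (cbA _).vec s + (cbA _).vec r) ∧
        ∃ d, (cbA _).Pos c ∧ ∃ s, (cbA _).Pos s ∧ (cbA _).vec d = (cbA _).vec s + (cbA _).vec c := by
      revert r
      rcases hn with rfl | rfl <;> (simp only [RootSys.Pos, RootSys.Top, hgt, RootSys.ht_apply, vecA, cbA_simple, cbA_car, Pi.le_def]; decide +kernel +revert)
    exact ⟨c, st_of sameLen_cbA a, .inr ⟨d, st_of sameLen_cbA b⟩⟩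
  · rcases hn with rfl | rfl <;> (simp only [RootSys.Pos, RootSys.Top, hgt, RootSys.ht_apply, vecA, cbA_simple, cbA_car, Pi.le_def]; decide +kernel +revert)

theorem gd_G2 (h : 2 < Nat.card K) : Gd.{u} (Lie.chevG2.group K) := by
  let ρ : StRep cG2 K (Lie.chevG2.group K) := linkG2.gpRep K
  have A : ρ.IsAdj := linkG2.isAdj K
  have M := lm_triv (P := (· = 1)) A goodG2.conn fun _ π _ _ s => by_contra fun n => by
    obtain rfl : π = Fin.revPerm := (by decide : ∀ π : Equiv.Perm (Fin 2), π ≠ 1 → π = Fin.revPerm) π n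
    have := s.three_eq_zero A.faithful (i := 1) (j := 0) (by decide +kernel) (by decide +kernel)
      (by decide +kernel) (by decide +kernel)
    exact absurd ((CharP.cast_eq_zero_iff K 2 3).1 (by simpa using this)) (by decide)
  have := M.lt.finite
  exact (gd_inn (M.ta (fun y θ π a f k r s _ => M.a2 (ex_ne h) k r s)
    (hb_triv A.faithful (k := 5) (by omega) (fun r a b => ((by decide +kernel : ∀ r, cG2.Pos r → hgt cG2 r < 5 →
      ∃ c, St cG2 r c) r a b).imp fun _ m => ⟨m, .inl (ex_ne h)⟩) (comm_hgt (by omega) (by decide +kernel)))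
    (fun y θ π a f k r s p => M.c1 (δ := 11) (by simp only [RootSys.Top, Pi.le_def]; decide +kernel) trivial h6_top k r (p ▸ s))
    fun _ _ _ _ _ _ _ _ _ _ a b c r s p r' s' p' n n' m =>
      absurd (M.d1 (crd_top 0) a b c r (p ▸ s) r' (p' ▸ s') n n') m).gen).congr topEquiv.symm

theorem gd_B2 [Fintype K] (h : 2 < Nat.card K) : Gd.{u} (PSp 2 K) := by
  have A : (repB2 K).IsAdj := linkB2.isAdj K
  have M := lm_triv (P := fun _ => True) A goodB2.conn fun _ _ _ _ _ => trivial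
  have := M.lt.finite
  have e := (nonempty_B2_equiv_PSp K).some.symm.trans topEquiv.symm
  have c : ∀ r s, 2 ≤ hgt cB2 r → cB2.Pos s → ∀ t u, Commute ((repB2 K).x r t) ((repB2 K).x s u) :=
    fun r s a b => (b2Q_B2 (repB2 K)).1.cent r (by revert r; decide +kernel) s (by revert s; decide +kernel)
  have c' := fun r s a (b : 2 ≤ hgt cB2 s) => c r s a (pos_iff_hgt.2 (by omega))
  have R : R2 cB2 K 0 1 6 := ⟨by decide, by decide, by decide +kernel, cast_eq_one_of_two (by decide +kernel)⟩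
  obtain ⟨d, -, hn⟩ := FiniteField.card K 2
  exact (gd_inn (M.ta (fun y θ π a f k r s _ => M.a2 (ex_ne h) k r s)
    (hb_triv A.faithful two_pos (fun r a b => ⟨6, by revert r; decide +kernel, .inl (ex_ne h)⟩) c')
    (fun y θ π a f k r s p => R.c2 M (fun v hv => ⟨fun u a => (repB2 K).U_induction (p := (Commute · u))
      (.one_left _) (fun _ r _ _ m q => q.mul_left ((repB2 K).U_induction (p := Commute _) (.one_right _)
        (fun _ s _ _ m' q => q.mul_right (c r s m m' _ _)) a)) hv, sq_fl two_pos c' hv⟩) k r s)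
    fun _ _ _ _ _ _ _ _ _ _ a b c r q p r' q' p' n n' m => absurd (d_cyc (have := (Cfsg.Agent.S2600.result d.pos hn).1
      isCyclic_of_surjective _ (outCongr e).surjective) a b n n') m).gen).congr e

end CF.Q16
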