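import Cfsg.Agent.Fisch.St.Defs
import Cfsg.Agent.Bt.Res

set_option autoImplicit false
set_option maxRecDepth 1000000

namespace CF.Q16.HS

open CF.Comp CF.Fisch CF.Bt

noncomputable def X_0 : Net := (Net.cons (nat_lit 1) (nat_lit 0x4150454511051115100041010) (Net.cons (nat_lit 2) (nat_lit 0x2130321302331010100020220) (Net.cons (nat_lit 4) (nat_lit 0x403080a0702030f04000709) (Net.cons (nat_lit 8) (nat_lit 0x6a00250084002400380006) (Net.cons (nat_lit 16) (nat_lit 0x43830000e22300000008) (Net.cons (nat_lit 32) (nat_lit 0xd000000000324c000) (Net.cons (nat_lit 64) (nat_lit 0xbf7eec4f6) (Net.cons (nat_lit 32) (nat_lit 0x4000000003124cdd6) (Net.cons (nat_lit 16) (nat_lit 0x42d10000ed9b00003d89) (Net.cons (nat_lit 8) (nat_lit 0x7d00f500d0004f0041008a) (Net.cons (nat_lit 4) (nat_lit 0x20306070b010c0b0004070c) (Net.cons (nat_lit 2) (nat_lit 0x2023311010111022010211000) (Net.cons (nat_lit 1) (nat_lit 0x1415510110415145405545005)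 Net.nil)))))))))))))
noncomputable def X_1 : Net := (Net.cons (nat_lit 1) (nat_lit 0x555540404050055144041040) (Net.cons (nat_lit 2) (nat_lit 0x2011221001220110030310310) (Net.cons (nat_lit 4) (nat_lit 0x40f0e040a0d0d0b08000205) (Net.cons (nat_lit 8) (nat_lit 0x310059002a00cb001f0000) (Net.cons (nat_lit 16) (nat_lit 0x1860000c81600000008) (Net.cons (nat_lit 32) (nat_lit 0x500000000d0862ad0) (Net.cons (nat_lit 64) (nat_lit 0xad2a67bfd) (Net.cons (nat_lit 32) (nat_lit 0x400000000c020a5e8) (Net.cons (nat_lit 16) (nat_lit 0x7e5e00007dd60000daa7) (Net.cons (nat_lit 8) (nat_lit 0x70005000fb00b900fa002b) (Net.cons (nat_lit 4) (nat_lit 0xa050d020c05030c0b0e020a) (Net.cons (nat_lit 2) (nat_lit 0x1201330311110331333331002) (Net.cons (nat_lit 1) (nat_lit 0x1401551055550145145001445) Net.nil)))))))))))))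
noncomputable def X : List Net := [X_0, X_1]
noncomputable def X1_0 : Net := (Net.cons (nat_lit 1) (nat_lit 0x1514545010040054550141010) (Net.cons (nat_lit 2) (nat_lit 0x3120301021132002201013220) (Net.cons (nat_lit 4) (nat_lit 0x70b02070303030c04010b08) (Net.cons (nat_lit 8) (nat_lit 0xb30061009d00e100030008) (Net.cons (nat_lit 16) (nat_lit 0x80e2000069db00000004) (Net.cons (nat_lit 32) (nat_lit 2202688560) (Net.cons (nat_lit 64) (nat_lit 0x5c75f7fbc) (Net.cons (nat_lit 32) (nat_lit 0xe00000000dd507ac5) (Net.cons (nat_lit 16) (nat_lit 0x84b9000045720000236f) (Net.cons (nat_lit 8) (nat_lit 0x9f00bc00b600d90021001c) (Net.cons (nat_lit 4) (nat_lit 0xc0703050e0b090b00050e0c) (Net.cons (nat_lit 2) (nat_lit 0x121021121001320010321) (Net.cons (nat_lit 1) (nat_lit 0x11144050114404010004515) Net.nil)))))))))))))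
noncomputable def X1_1 : Net := (Net.cons (nat_lit 1) (nat_lit 0x4055401055511045015054040) (Net.cons (nat_lit 2) (nat_lit 0x312203231212132133211000) (Net.cons (nat_lit 4) (nat_lit 0xc000a060d0607030d0c0000) (Net.cons (nat_lit 8) (nat_lit 0x5500dc00c400ba0087000e) (Net.cons (nat_lit 16) (nat_lit 0xb3800000d00c0000000e) (Net.cons (nat_lit 32) (nat_lit 0xa00000000268d51c0) (Net.cons (nat_lit 64) (nat_lit 0x166cffdcf) (Net.cons (nat_lit 32) (nat_lit 0xf00000000afcc0b6c) (Net.cons (nat_lit 16) (nat_lit 0x4ae80000ed2a00009e87) (Net.cons (nat_lit 8) (nat_lit 0xaf00610052008a00c0004d) (Net.cons (nat_lit 4) (nat_lit 0x40a080c080604020c0d0609) (Net.cons (nat_lit 2) (nat_lit 0x3233122233301112011211023) (Net.cons (nat_lit 1) (nat_lit 0x4504144445155011045151444) Net.nil)))))))))))))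
noncomputable def X1_2 : Net := (Net.cons (nat_lit 1) (nat_lit 0x450104505441114140145100) (Net.cons (nat_lit 2) (nat_lit 0x2213132200323202222010300) (Net.cons (nat_lit 4) (nat_lit 0xe00000c060001070c020d08) (Net.cons (nat_lit 8) (nat_lit 0x1b000800490088009e0000) (Net.cons (nat_lit 16) (nat_lit 0xb5a10000120400000002) (Net.cons (nat_lit 32) (nat_lit 0x10000000061448410) (Net.cons (nat_lit 64) (nat_lit 0x1616e96d0) (Net.cons (nat_lit 32) (nat_lit 0xf000000006fe3906f) (Net.cons (nat_lit 16) (nat_lit 0xbc72000066e30000144e) (Net.cons (nat_lit 8) (nat_lit 0xfe0037004b008c00900093) (Net.cons (nat_lit 4) (nat_lit 0xf0a0106020a0d030c040d03) (Net.cons (nat_lit 2) (nat_lit 0x2032231030223203003002123) (Net.cons (nat_lit 1) (nat_lit 0x4141105444000110110055440) Net.nil)))))))))))))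
noncomputable def X1_3 : Net := (Net.cons (nat_lit 1) (nat_lit 0x1401011540500401545040000) (Net.cons (nat_lit 2) (nat_lit 0x2111111220113300012010100) (Net.cons (nat_lit 4) (nat_lit 0x506090a0e0906080008080c) (Net.cons (nat_lit 8) (nat_lit 0x6b002500c20033000d0008) (Net.cons (nat_lit 16) (nat_lit 0xc2ad0000830b00000008) (Net.cons (nat_lit 32) (nat_lit 0x20000000088442180) (Net.cons (nat_lit 64) (nat_lit 0xfcad631ec) (Net.cons (nat_lit 32) (nat_lit 0x700000000df38d9c5) (Net.cons (nat_lit 16) (nat_lit 0x82e00000feb90000e4a0) (Net.cons (nat_lit 8) (nat_lit 0x160060007500b900880069) (Net.cons (nat_lit 4) (nat_lit 0xb0c08040a030d01070b0904) (Net.cons (nat_lit 2) (nat_lit 0x2220001012220310012003103) (Net.cons (nat_lit 1) (nat_lit 0x4450015104051055545000404) Net.nil)))))))))))))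
noncomputable def X1_4 : Net := (Net.cons (nat_lit 1) (nat_lit 0x4155051410100544541105114) (Net.cons (nat_lit 2) (nat_lit 0x1103312230232003013300200) (Net.cons (nat_lit 4) (nat_lit 0x60b0004070d080201040901) (Net.cons (nat_lit 8) (nat_lit 0x2f0022002400d9002e0005) (Net.cons (nat_lit 16) (nat_lit 0x940300003f6400000009) (Net.cons (nat_lit 32) (nat_lit 0x800000000c208d580) (Net.cons (nat_lit 64) (nat_lit 0x5c2bdffdc) (Net.cons (nat_lit 32) (nat_lit 0xa000000004dffa716) (Net.cons (nat_lit 16) (nat_lit 0x1e8a0000e2110000c256) (Net.cons (nat_lit 8) (nat_lit 0xdf006b007d00fc007c00de) (Net.cons (nat_lit 4) (nat_lit 0xd040c0702050d05040809) (Net.cons (nat_lit 2) (nat_lit 0x1011000210222233310232012) (Net.cons (nat_lit 1) (nat_lit 0x554450044410050551105015) Net.nil)))))))))))))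
noncomputable def X1_5 : Net := (Net.cons (nat_lit 1) (nat_lit 0x4151114101505005401554440) (Net.cons (nat_lit 2) (nat_lit 0x112211012022003121310120) (Net.cons (nat_lit 4) (nat_lit 0xe0f08010c040c0605090008) (Net.cons (nat_lit 8) (nat_lit 0x570085009100a50068000a) (Net.cons (nat_lit 16) (nat_lit 0x92700000e04400000000) (Net.cons (nat_lit 32) (nat_lit 0xc00000000d1001040) (Net.cons (nat_lit 64) (nat_lit 0xcfb165a61) (Net.cons (nat_lit 32) (nat_lit 0x200000000f0f4c2e0) (Net.cons (nat_lit 16) (nat_lit 0x8bd20000b58c0000ecec) (Net.cons (nat_lit 8) (nat_lit 0xb1000400580037009800c7) (Net.cons (nat_lit 4) (nat_lit 0xa020501090b03020d030502) (Net.cons (nat_lit 2) (nat_lit 0x2133203213100020230331322) (Net.cons (nat_lit 1) (nat_lit 0x45151101541140411554544) Net.nil)))))))))))))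
noncomputable def X1_6 : Net := (Net.cons (nat_lit 1) (nat_lit 0x11014145405554454011050) (Net.cons (nat_lit 2) (nat_lit 0x2030211322202201221020030) (Net.cons (nat_lit 4) (nat_lit 0xa080d00080305010603050b) (Net.cons (nat_lit 8) (nat_lit 0x5a00210038008100490002) (Net.cons (nat_lit 16) (nat_lit 0x84ad0000a04200000003) (Net.cons (nat_lit 32) (nat_lit 0x60000000044c19500) (Net.cons (nat_lit 64) (nat_lit 0x344d7bf74) (Net.cons (nat_lit 32) (nat_lit 0xc0000000038e74737) (Net.cons (nat_lit 16) (nat_lit 0x8c2c0000b0b600006b04) (Net.cons (nat_lit 8) (nat_lit 0x9a00aa00640055002c00c1) (Net.cons (nat_lit 4) (nat_lit 0x202050b0609020505000c0f) (Net.cons (nat_lit 2) (nat_lit 0x3232211203021112332112031) (Net.cons (nat_lit 1) (nat_lit 0x5115150100144011444100515) Net.nil)))))))))))))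
noncomputable def X1_7 : Net := (Net.cons (nat_lit 1) (nat_lit 0x4404555010545105005404144) (Net.cons (nat_lit 2) (nat_lit 0x13301110002101112310120) (Net.cons (nat_lit 4) (nat_lit 0x709000c0e020e050e050502) (Net.cons (nat_lit 8) (nat_lit 0xb100190094000e008d0000) (Net.cons (nat_lit 16) (nat_lit 0x3380000401900000007) (Net.cons (nat_lit 32) (nat_lit 0x200000000a7b3d4a0) (Net.cons (nat_lit 64) (nat_lit 0x4a7b7dcef) (Net.cons (nat_lit 32) (nat_lit 0x700000000b32c1bc4) (Net.cons (nat_lit 16) (nat_lit 0x860b0000a7d800001287) (Net.cons (nat_lit 8) (nat_lit 0xa40047006600d200e100c0) (Net.cons (nat_lit 4) (nat_lit 0x609080d02010607060f0508) (Net.cons (nat_lit 2) (nat_lit 0x1010100001123023223330122) (Net.cons (nat_lit 1) (nat_lit 0x4405455101541505411554445) Net.nil)))))))))))))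
noncomputable def X1_8 : Net := (Net.cons (nat_lit 1) (nat_lit 0x140540444010450044011110) (Net.cons (nat_lit 2) (nat_lit 0x1011222020010011312130000) (Net.cons (nat_lit 4) (nat_lit 0x609050506010c0e01070f02) (Net.cons (nat_lit 8) (nat_lit 0xae0091001800e400560000) (Net.cons (nat_lit 16) (nat_lit 0x18830000717900000001) (Net.cons (nat_lit 32) (nat_lit 0xc0000000038800520) (Net.cons (nat_lit 64) (nat_lit 0xd7ca28df1) (Net.cons (nat_lit 32) (nat_lit 0x60000000045a38b58) (Net.cons (nat_lit 16) (nat_lit 0xb4730000ee980000d64c) (Net.cons (nat_lit 8) (nat_lit 0xc400e3002300bd00080008) (Net.cons (nat_lit 4) (nat_lit 0xe0801010000060b00030f0a) (Net.cons (nat_lit 2) (nat_lit 0x1032323200200120001130311) (Net.cons (nat_lit 1) (nat_lit 0x151400545010410114051511) Net.nil)))))))))))))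
noncomputable def X1_9 : Net := (Net.cons (nat_lit 1) (nat_lit 0x5144455000005405001554154) (Net.cons (nat_lit 2) (nat_lit 0x3321122010121011112220010) (Net.cons (nat_lit 4) (nat_lit 0x30804070109000b02030b0c) (Net.cons (nat_lit 8) (nat_lit 0xc100cb0056009800980001) (Net.cons (nat_lit 16) (nat_lit 0x380d0000098200000000) (Net.cons (nat_lit 32) (nat_lit 0x400000000c9093450) (Net.cons (nat_lit 64) (nat_lit 0xae91db555) (Net.cons (nat_lit 32) (nat_lit 0xf000000007688914d) (Net.cons (nat_lit 16) (nat_lit 0x5a0e000010ab0000441b) (Net.cons (nat_lit 8) (nat_lit 0x5000a70091007d00ac0041) (Net.cons (nat_lit 4) (nat_lit 0x9060206060a0b0e0a0f09) (Net.cons (nat_lit 2) (nat_lit 0x3120132303130120323220212) (Net.cons (nat_lit 1) (nat_lit 0x4544051405045140015544014) Net.nil)))))))))))))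
noncomputable def X1_10 : Net := (Net.cons (nat_lit 1) (nat_lit 0x1454014000514551041010544) (Net.cons (nat_lit 2) (nat_lit 0x322200313312301211121020) (Net.cons (nat_lit 4) (nat_lit 0xf04070e0701060005090100) (Net.cons (nat_lit 8) (nat_lit 0x28005b002200a300480009) (Net.cons (nat_lit 16) (nat_lit 0x5a0800002a4200000005) (Net.cons (nat_lit 32) (nat_lit 0x100000000db8021d0) (Net.cons (nat_lit 64) (nat_lit 0xefbc025fd) (Net.cons (nat_lit 32) (nat_lit 0xf00000000cbcd9abc) (Net.cons (nat_lit 16) (nat_lit 0xec500000b9cb0000b54d) (Net.cons (nat_lit 8) (nat_lit 0x5400f5002a00cb001200fe) (Net.cons (nat_lit 4) (nat_lit 0x90700070f0e0705030d05) (Net.cons (nat_lit 2) (nat_lit 0x3013022330310122031321221) (Net.cons (nat_lit 1) (nat_lit 0x5400115141444504050504154) Net.nil)))))))))))))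
noncomputable def X1_11 : Net := (Net.cons (nat_lit 1) (nat_lit 0x505414401404554005404040) (Net.cons (nat_lit 2) (nat_lit 0x2311113123322011010011000) (Net.cons (nat_lit 4) (nat_lit 0x40e010005060f0308000704) (Net.cons (nat_lit 8) (nat_lit 0x150052003d001d002d0001) (Net.cons (nat_lit 16) (nat_lit 0x613000045c700000002) (Net.cons (nat_lit 32) (nat_lit 0xe0000000089124e60) (Net.cons (nat_lit 64) (nat_lit 0xdcd3b7f62) (Net.cons (nat_lit 32) (nat_lit 0x100000000d5abd014) (Net.cons (nat_lit 16) (nat_lit 0xe949000087a10000542f) (Net.cons (nat_lit 8) (nat_lit 0x2700450095001400fe00e3) (Net.cons (nat_lit 4) (nat_lit 0x10008070d080c02020f0103) (Net.cons (nat_lit 2) (nat_lit 0x1002133200202113331032301) (Net.cons (nat_lit 1) (nat_lit 0x5540104440505410045501011) Net.nil)))))))))))))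
noncomputable def X1_12 : Net := (Net.cons (nat_lit 1) (nat_lit 0x410150044141455114555440) (Net.cons (nat_lit 2) (nat_lit 0x2021330220001003310220010) (Net.cons (nat_lit 4) (nat_lit 0x60905080e00070306030a01) (Net.cons (nat_lit 8) (nat_lit 0x25000900f70082006a0002) (Net.cons (nat_lit 16) (nat_lit 0x6f8900001b1000000000) (Net.cons (nat_lit 32) (nat_lit 2165346816) (Net.cons (nat_lit 64) (nat_lit 0x5bd5ed2ea) (Net.cons (nat_lit 32) (nat_lit 0xf00000000c724ab2d) (Net.cons (nat_lit 16) (nat_lit 0xa4fd0000e8d7000057ea) (Net.cons (nat_lit 8) (nat_lit 0x3e00a800ef00c100850099) (Net.cons (nat_lit 4) (nat_lit 0x507060809010b0f01050d0a) (Net.cons (nat_lit 2) (nat_lit 0x23002323333121211320102) (Net.cons (nat_lit 1) (nat_lit 0x5145405511414100441000115) Net.nil)))))))))))))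
noncomputable def X1_13 : Net := (Net.cons (nat_lit 1) (nat_lit 0x5550544054054501104040100) (Net.cons (nat_lit 2) (nat_lit 0x220332003111301111020010) (Net.cons (nat_lit 4) (nat_lit 0xc060409000f050801040200) (Net.cons (nat_lit 8) (nat_lit 0xf200ab001900a100270000) (Net.cons (nat_lit 16) (nat_lit 0x2670000082ce00000008) (Net.cons (nat_lit 32) (nat_lit 2537686144) (Net.cons (nat_lit 64) (nat_lit 0xbd7eaa5da) (Net.cons (nat_lit 32) (nat_lit 0x80000000091c224ac) (Net.cons (nat_lit 16) (nat_lit 0x8f50000ce4e00000029) (Net.cons (nat_lit 8) (nat_lit 0xf2009b0019008100150020) (Net.cons (nat_lit 4) (nat_lit 0xc04040b020f070903060200) (Net.cons (nat_lit 2) (nat_lit 0x220332003111301111020010) (Net.cons (nat_lit 1) (nat_lit 0x5550554054054401104440500) Net.nil)))))))))))))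
noncomputable def X1_14 : Net := (Net.cons (nat_lit 1) (nat_lit 0x1550541105004050040040400) (Net.cons (nat_lit 2) (nat_lit 0x3002322311200101001000000) (Net.cons (nat_lit 4) (nat_lit 0x404080e0800040d03080001) (Net.cons (nat_lit 8) (nat_lit 0x240038008b007500070000) (Net.cons (nat_lit 16) (nat_lit 0x21200000d05f00000001) (Net.cons (nat_lit 32) (nat_lit 0x10000000040212050) (Net.cons (nat_lit 64) (nat_lit 0xe49773873) (Net.cons (nat_lit 32) (nat_lit 0x100000000802d3145) (Net.cons (nat_lit 16) (nat_lit 0x2d2200009acf00001a86) (Net.cons (nat_lit 8) (nat_lit 0x2400a8009e003100270010) (Net.cons (nat_lit 4) (nat_lit 0x10c080e0800000906080000) (Net.cons (nat_lit 2) (nat_lit 0x2002322310301001011000001) (Net.cons (nat_lit 1) (nat_lit 0x1550541105004050040040400) Net.nil)))))))))))))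
noncomputable def X1_15 : Net := (Net.cons (nat_lit 1) (nat_lit 0x44045555411040110511040) (Net.cons (nat_lit 2) (nat_lit 0x303301332311100200000020) (Net.cons (nat_lit 4) (nat_lit 0xb0e0408030b0e0c0e020000) (Net.cons (nat_lit 8) (nat_lit 0xb100280008001400640006) (Net.cons (nat_lit 16) (nat_lit 0x42ac000012a100000004) (Net.cons (nat_lit 32) (nat_lit 0x2000000000abb1800) (Net.cons (nat_lit 64) (nat_lit 0xccebb18ae) (Net.cons (nat_lit 32) (nat_lit 0x7000000001b3b1e94) (Net.cons (nat_lit 16) (nat_lit 0x626c00009261000020c5) (Net.cons (nat_lit 8) (nat_lit 0xb1002c0028003600660006) (Net.cons (nat_lit 4) (nat_lit 0xb0f0608030b0c0e0e020000) (Net.cons (nat_lit 2) (nat_lit 0x303301332311100200000020) (Net.cons (nat_lit 1) (nat_lit 0x44045555411040110511440) Net.nil)))))))))))))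
noncomputable def X1_16 : Net := (Net.cons (nat_lit 1) (nat_lit 0x4540454010104415154410404) (Net.cons (nat_lit 2) (nat_lit 0x1220331020202231113023210) (Net.cons (nat_lit 4) (nat_lit 0x5010b0107090c0d0b03010a) (Net.cons (nat_lit 8) (nat_lit 0xec00c400de001f00180000) (Net.cons (nat_lit 16) (nat_lit 0x484100002bd600000008) (Net.cons (nat_lit 32) (nat_lit 0x20000000002c34c00) (Net.cons (nat_lit 64) (nat_lit 0xf12f77ce8) (Net.cons (nat_lit 32) (nat_lit 0xd000000004ff66a8d) (Net.cons (nat_lit 16) (nat_lit 0x90270000c466000078c0) (Net.cons (nat_lit 8) (nat_lit 0x41007f0082005500b60008) (Net.cons (nat_lit 4) (nat_lit 0x80a0a0f0c090e04030509) (Net.cons (nat_lit 2) (nat_lit 0x3012033223303320011230333) (Net.cons (nat_lit 1) (nat_lit 0x10041054144554000455445) Net.nil)))))))))))))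
noncomputable def X1_17 : Net := (Net.cons (nat_lit 1) (nat_lit 0x1055151514511501440150000) (Net.cons (nat_lit 2) (nat_lit 0x3032130102002303010011000) (Net.cons (nat_lit 4) (nat_lit 0x40a0008050d0603040d000a) (Net.cons (nat_lit 8) (nat_lit 0xc1000500c000300001000a) (Net.cons (nat_lit 16) (nat_lit 0x20350000c09e00000008) (Net.cons (nat_lit 32) (nat_lit 310461440) (Net.cons (nat_lit 64) (nat_lit 0x17ab9cc42) (Net.cons (nat_lit 32) (nat_lit 0xf00000000d2d040af) (Net.cons (nat_lit 16) (nat_lit 0x62370000918e00004892) (Net.cons (nat_lit 8) (nat_lit 0xbb0092002b003b004d0081) (Net.cons (nat_lit 4) (nat_lit 0x50a0d090c04030604050403) (Net.cons (nat_lit 2) (nat_lit 0x3023131102102303011002000) (Net.cons (nat_lit 1) (nat_lit 0x5015555554515501440105110) Net.nil)))))))))))))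
noncomputable def X1_18 : Net := (Net.cons (nat_lit 1) (nat_lit 0x5040500541400144401000050) (Net.cons (nat_lit 2) (nat_lit 0x332301013130321201100) (Net.cons (nat_lit 4) (nat_lit 0x6080c03000c010d0c0f0900) (Net.cons (nat_lit 8) (nat_lit 0x6500c400f700190008000c) (Net.cons (nat_lit 16) (nat_lit 0x6aa0000324000000007) (Net.cons (nat_lit 32) (nat_lit 0x100000000175a00b0) (Net.cons (nat_lit 64) (nat_lit 0x817df56ff) (Net.cons (nat_lit 32) (nat_lit 0x70000000035d41a7b) (Net.cons (nat_lit 16) (nat_lit 0x90f2000002840000040f) (Net.cons (nat_lit 8) (nat_lit 0xdc00b700c6002900e3008c) (Net.cons (nat_lit 4) (nat_lit 0x6020d03010d030006000d09) (Net.cons (nat_lit 2) (nat_lit 0x3122231113033331313331031) (Net.cons (nat_lit 1) (nat_lit 0x1455101141404541100500400) Net.nil)))))))))))))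
noncomputable def X1_19 : Net := (Net.cons (nat_lit 1) (nat_lit 0x4545401411404141040501400) (Net.cons (nat_lit 2) (nat_lit 0x333111203001102320010200) (Net.cons (nat_lit 4) (nat_lit 0x509010e0003030403000400) (Net.cons (nat_lit 8) (nat_lit 0x1a0044004f007200080002) (Net.cons (nat_lit 16) (nat_lit 0x885b000080640000000c) (Net.cons (nat_lit 32) (nat_lit 0x80000000040328400) (Net.cons (nat_lit 64) (nat_lit 0x6427a8e3e) (Net.cons (nat_lit 32) (nat_lit 0xd00000000c0b7e5c4) (Net.cons (nat_lit 16) (nat_lit 0x99db00009be50000018d) (Net.cons (nat_lit 8) (nat_lit 0x1a0044008e00f300890003) (Net.cons (nat_lit 4) (nat_lit 0x90d010e0003030403020400) (Net.cons (nat_lit 2) (nat_lit 0x333111203001102321010200) (Net.cons (nat_lit 1) (nat_lit 0x4455401410454141440501440) Net.nil)))))))))))))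
noncomputable def X1_20 : Net := (Net.cons (nat_lit 1) (nat_lit 0x5540510004111454004404440) (Net.cons (nat_lit 2) (nat_lit 0x2110011102030113331011020) (Net.cons (nat_lit 4) (nat_lit 0xd040b050e0d000d08010801) (Net.cons (nat_lit 8) (nat_lit 0x170082003a00260048000b) (Net.cons (nat_lit 16) (nat_lit 0x35f40000014000000000) (Net.cons (nat_lit 32) (nat_lit 0x80000000000529920) (Net.cons (nat_lit 64) (nat_lit 0x7a853dfaf) (Net.cons (nat_lit 32) (nat_lit 0x700000000a7ef45db) (Net.cons (nat_lit 16) (nat_lit 0xaf8300009e0c0000f481) (Net.cons (nat_lit 8) (nat_lit 0x3700ab0080001900bd0041) (Net.cons (nat_lit 4) (nat_lit 0x30d01070b0e080b0e0f0e07) (Net.cons (nat_lit 2) (nat_lit 0x3301300022131103033222222) (Net.cons (nat_lit 1) (nat_lit 0x1551001045114154100004110) Net.nil)))))))))))))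
noncomputable def X1_21 : Net := (Net.cons (nat_lit 1) (nat_lit 0x1550540444014001041045044) (Net.cons (nat_lit 2) (nat_lit 0x2332102301300020101210220) (Net.cons (nat_lit 4) (nat_lit 0x60d05010b00090b02040206) (Net.cons (nat_lit 8) (nat_lit 0x7d002400c000d70041000a) (Net.cons (nat_lit 16) (nat_lit 0x82550000000200000000) (Net.cons (nat_lit 32) (nat_lit 0x10000000041aadc20) (Net.cons (nat_lit 64) (nat_lit 0x465fafe2b) (Net.cons (nat_lit 32) (nat_lit 0xe0000000002b86042) (Net.cons (nat_lit 16) (nat_lit 0x5f500000abd400002c36) (Net.cons (nat_lit 8) (nat_lit 0xa7005100f7000c003b00b9) (Net.cons (nat_lit 4) (nat_lit 0x50303020c0d0d050f0c0b0d) (Net.cons (nat_lit 2) (nat_lit 0x1212002123322223031102111) (Net.cons (nat_lit 1) (nat_lit 0x104445555154145414400000) Net.nil)))))))))))))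
noncomputable def X1_22 : Net := (Net.cons (nat_lit 1) (nat_lit 0x1044100544550005544154514) (Net.cons (nat_lit 2) (nat_lit 0x132110003230002200211200) (Net.cons (nat_lit 4) (nat_lit 0xe0e070e04060603010e0101) (Net.cons (nat_lit 8) (nat_lit 0x3500d6000400d000060002) (Net.cons (nat_lit 16) (nat_lit 0x4c660000b09900000005) (Net.cons (nat_lit 32) (nat_lit 0x500000000601d9100) (Net.cons (nat_lit 64) (nat_lit 0xa623dbfc5) (Net.cons (nat_lit 32) (nat_lit 0x200000000f986d421) (Net.cons (nat_lit 16) (nat_lit 0xcd7200008db10000cb6d) (Net.cons (nat_lit 8) (nat_lit 0x6800df00390059008b00b7) (Net.cons (nat_lit 4) (nat_lit 0x70907050e040703090c0008) (Net.cons (nat_lit 2) (nat_lit 0x133112332120001012200202) (Net.cons (nat_lit 1) (nat_lit 0x1141041000510404451514441) Net.nil)))))))))))))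
noncomputable def X1_23 : Net := (Net.cons (nat_lit 1) (nat_lit 0x150040045451410004414504) (Net.cons (nat_lit 2) (nat_lit 0x2211132203211130301023200) (Net.cons (nat_lit 4) (nat_lit 0xd0104040a0a09020f000404) (Net.cons (nat_lit 8) (nat_lit 0xde002700d40029002e0000) (Net.cons (nat_lit 16) (nat_lit 0xa92d00001e5200000001) (Net.cons (nat_lit 32) (nat_lit 0x900000000602419d0) (Net.cons (nat_lit 64) (nat_lit 0xf7427dbd6) (Net.cons (nat_lit 32) (nat_lit 0x8000000000c243b80) (Net.cons (nat_lit 16) (nat_lit 0x716a00009d560000a953) (Net.cons (nat_lit 8) (nat_lit 0x56001100d0001100e500c4) (Net.cons (nat_lit 4) (nat_lit 0x5090102080901030d020e01) (Net.cons (nat_lit 2) (nat_lit 0x3122123202022112120101000) (Net.cons (nat_lit 1) (nat_lit 0x504005040145050400015544) Net.nil)))))))))))))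
noncomputable def X1_24 : Net := (Net.cons (nat_lit 1) (nat_lit 0x105044005014514050114404) (Net.cons (nat_lit 2) (nat_lit 0x2320022333131312013311300) (Net.cons (nat_lit 4) (nat_lit 0x50f0d0f0d0b0105050e0801) (Net.cons (nat_lit 8) (nat_lit 0xd80034004a006e0001) (Net.cons (nat_lit 16) (nat_lit 0x915a0000ca1c00000005) (Net.cons (nat_lit 32) (nat_lit 10141984) (Net.cons (nat_lit 64) (nat_lit 0x9e8bfd170) (Net.cons (nat_lit 32) (nat_lit 0x600000000e8451210) (Net.cons (nat_lit 16) (nat_lit 0xd7750000da93000059ea) (Net.cons (nat_lit 8) (nat_lit 0xa00041001200d500970058) (Net.cons (nat_lit 4) (nat_lit 0xa0f0b0f0f0f080a0a070708) (Net.cons (nat_lit 2) (nat_lit 0x2023322000101012310011033) (Net.cons (nat_lit 1) (nat_lit 0x5450511550541041105441141) Net.nil)))))))))))))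
noncomputable def X1_25 : Net := (Net.cons (nat_lit 1) (nat_lit 0x4101010401510005114150440) (Net.cons (nat_lit 2) (nat_lit 0x112310300202313121332000) (Net.cons (nat_lit 4) (nat_lit 0x9040d060500010b020101) (Net.cons (nat_lit 8) (nat_lit 0x21001e008c008900c40009) (Net.cons (nat_lit 16) (nat_lit 0x615f0000341100000002) (Net.cons (nat_lit 32) (nat_lit 3427021072) (Net.cons (nat_lit 64) (nat_lit 0x6ed56bf13) (Net.cons (nat_lit 32) (nat_lit 0xf0000000096c1f7da) (Net.cons (nat_lit 16) (nat_lit 0x610d000078b10000f858) (Net.cons (nat_lit 8) (nat_lit 0x11004500bd00eb006e00ab) (Net.cons (nat_lit 4) (nat_lit 0x80b08090b0f01090403030b) (Net.cons (nat_lit 2) (nat_lit 0x122313110123233111112223) (Net.cons (nat_lit 1) (nat_lit 0x4055545005045054101054445) Net.nil)))))))))))))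
noncomputable def X1_26 : Net := (Net.cons (nat_lit 1) (nat_lit 0x4145505040440414540154544) (Net.cons (nat_lit 2) (nat_lit 0x2131321220230001201113000) (Net.cons (nat_lit 4) (nat_lit 0x7050e090f090a0700040503) (Net.cons (nat_lit 8) (nat_lit 0x100070040007000770000) (Net.cons (nat_lit 16) (nat_lit 0x9a5c0000070a00000004) (Net.cons (nat_lit 32) (nat_lit 0x30000000002c16140) (Net.cons (nat_lit 64) (nat_lit 1272312135) (Net.cons (nat_lit 32) (nat_lit 0xd000000009e0f9340) (Net.cons (nat_lit 16) (nat_lit 0xc49d0000ab5200006790) (Net.cons (nat_lit 8) (nat_lit 0x1b0036009800f100c7005d) (Net.cons (nat_lit 4) (nat_lit 0x60a060d040b04060b06030a) (Net.cons (nat_lit 2) (nat_lit 0x1103122121102030112222323) (Net.cons (nat_lit 1) (nat_lit 0x4140410510510140150450444) Net.nil)))))))))))))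
noncomputable def X1_27 : Net := (Net.cons (nat_lit 1) (nat_lit 0x4140514411401044454105404) (Net.cons (nat_lit 2) (nat_lit 0x231231113331123120330020) (Net.cons (nat_lit 4) (nat_lit 0x3050e0a0807030f050d0107) (Net.cons (nat_lit 8) (nat_lit 0x33002b002c002f00a30001) (Net.cons (nat_lit 16) (nat_lit 0xf55100000d0400000000) (Net.cons (nat_lit 32) (nat_lit 0x50000000094012240) (Net.cons (nat_lit 64) (nat_lit 3596300285) (Net.cons (nat_lit 32) (nat_lit 0xb000000004024bfd2) (Net.cons (nat_lit 16) (nat_lit 0xc7f0000b2c4000091aa) (Net.cons (nat_lit 8) (nat_lit 0x860021003700e3005d00a3) (Net.cons (nat_lit 4) (nat_lit 0x50a0506000a020403080603) (Net.cons (nat_lit 2) (nat_lit 0x131023010121132213131201) (Net.cons (nat_lit 1) (nat_lit 0x104141045540104550501455) Net.nil)))))))))))))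
noncomputable def X1_28 : Net := (Net.cons (nat_lit 1) (nat_lit 0x500114051044004150001000) (Net.cons (nat_lit 2) (nat_lit 0x123031130000002312030000) (Net.cons (nat_lit 4) (nat_lit 0x20101050708000c06090000) (Net.cons (nat_lit 8) (nat_lit 0x8c000400480058000a0004) (Net.cons (nat_lit 16) (nat_lit 0xc8210000004000000005) (Net.cons (nat_lit 32) (nat_lit 268453904) (Net.cons (nat_lit 64) (nat_lit 0x21065d810) (Net.cons (nat_lit 32) (nat_lit 0xd0000000039004850) (Net.cons (nat_lit 16) (nat_lit 0xce23000000680000001f) (Net.cons (nat_lit 8) (nat_lit 0x8c00c400480058008e0024) (Net.cons (nat_lit 4) (nat_lit 0xa010105070d000c06090000) (Net.cons (nat_lit 2) (nat_lit 0x123031130011003312030000) (Net.cons (nat_lit 1) (nat_lit 0x500114051044004150001000) Net.nil)))))))))))))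
noncomputable def X1_29 : Net := (Net.cons (nat_lit 1) (nat_lit 0x1410150511100545511005514) (Net.cons (nat_lit 2) (nat_lit 0x1001312001022220102122010) (Net.cons (nat_lit 4) (nat_lit 0xc0b0a010303080008000e05) (Net.cons (nat_lit 8) (nat_lit 0x7b00080090002a00a0000d) (Net.cons (nat_lit 16) (nat_lit 0x30270000bb6b00000001) (Net.cons (nat_lit 32) (nat_lit 0x50000000014002ce0) (Net.cons (nat_lit 64) (nat_lit 0x114747ffe) (Net.cons (nat_lit 32) (nat_lit 0xe00000000574dc0a2) (Net.cons (nat_lit 16) (nat_lit 0xabb50000d27600003f91) (Net.cons (nat_lit 8) (nat_lit 0x8800140089002600fd0034) (Net.cons (nat_lit 4) (nat_lit 0x905010b030004020d050c07) (Net.cons (nat_lit 2) (nat_lit 0x2312300303133122200321120) (Net.cons (nat_lit 1) (nat_lit 0x54505111004050544004555) Net.nil)))))))))))))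
noncomputable def X1_30 : Net := (Net.cons (nat_lit 1) (nat_lit 0x110105105100054541011100) (Net.cons (nat_lit 2) (nat_lit 0x3311033103320301213130300) (Net.cons (nat_lit 4) (nat_lit 0xe00080204040c0c03060101) (Net.cons (nat_lit 8) (nat_lit 0xc2001b0041001900450002) (Net.cons (nat_lit 16) (nat_lit 0x8044000057cf00000002) (Net.cons (nat_lit 32) (nat_lit 41361680) (Net.cons (nat_lit 64) (nat_lit 0xc27f7bb13) (Net.cons (nat_lit 32) (nat_lit 0x300000000517f2ffa) (Net.cons (nat_lit 16) (nat_lit 0xd9530000a86b00002611) (Net.cons (nat_lit 8) (nat_lit 0x28009b000c009900360077) (Net.cons (nat_lit 4) (nat_lit 0x40d0a0008070f0b000a03) (Net.cons (nat_lit 2) (nat_lit 0x1301232001220100022312323) (Net.cons (nat_lit 1) (nat_lit 0x4454004041054111405105545) Net.nil)))))))))))))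
noncomputable def X1_31 : Net := (Net.cons (nat_lit 1) (nat_lit 0x4111141011155111141444154) (Net.cons (nat_lit 2) (nat_lit 0x322300211213003210030000) (Net.cons (nat_lit 4) (nat_lit 0x80307070c0a06000d080e06) (Net.cons (nat_lit 8) (nat_lit 0x190041004a00c20009000d) (Net.cons (nat_lit 16) (nat_lit 0x2303000017a600000001) (Net.cons (nat_lit 32) (nat_lit 0x80000000009074a90) (Net.cons (nat_lit 64) (nat_lit 0x2ffcf4bdc) (Net.cons (nat_lit 32) (nat_lit 0x5000000008a515d2b) (Net.cons (nat_lit 16) (nat_lit 0x9d170000e09e000089bf) (Net.cons (nat_lit 8) (nat_lit 0x8f00fc00c700fb00f300d9) (Net.cons (nat_lit 4) (nat_lit 0x50f0b000c08090a0f0d040f) (Net.cons (nat_lit 2) (nat_lit 0x1130310302300033312212023) (Net.cons (nat_lit 1) (nat_lit 0x1404440450051511504115441) Net.nil)))))))))))))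
noncomputable def X1_32 : Net := (Net.cons (nat_lit 1) (nat_lit 0x5055401454010400411044104) (Net.cons (nat_lit 2) (nat_lit 0x1312132302110213320211200) (Net.cons (nat_lit 4) (nat_lit 0xb0509050908080e000e0000) (Net.cons (nat_lit 8) (nat_lit 0x8f0076001e00b0004d0008) (Net.cons (nat_lit 16) (nat_lit 0x50cc000045140000000b) (Net.cons (nat_lit 32) (nat_lit 0x300000000bc1c8900) (Net.cons (nat_lit 64) (nat_lit 0xbbddfc930) (Net.cons (nat_lit 32) (nat_lit 0xc000000009c236d11) (Net.cons (nat_lit 16) (nat_lit 0x419b00002b0d0000d614) (Net.cons (nat_lit 8) (nat_lit 0xfa00860079004400540016) (Net.cons (nat_lit 4) (nat_lit 0x20e08080e0409020909030c) (Net.cons (nat_lit 2) (nat_lit 0x1202013123012332132323320) (Net.cons (nat_lit 1) (nat_lit 0x1441000550541144505050115) Net.nil)))))))))))))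
noncomputable def X1_33 : Net := (Net.cons (nat_lit 1) (nat_lit 0x5155515404105041004010) (Net.cons (nat_lit 2) (nat_lit 0x3101212312330300003230210) (Net.cons (nat_lit 4) (nat_lit 0xc0c0d02010901090c050c04) (Net.cons (nat_lit 8) (nat_lit 0x9d0002006a000a002e0001) (Net.cons (nat_lit 16) (nat_lit 0x10650000958700000000) (Net.cons (nat_lit 32) (nat_lit 1074311760) (Net.cons (nat_lit 64) (nat_lit 0xf501cb2f7) (Net.cons (nat_lit 32) (nat_lit 0x400000000d8b8a744) (Net.cons (nat_lit 16) (nat_lit 0x954f0000dd4700007250) (Net.cons (nat_lit 8) (nat_lit 0x450079003a007d007e0059) (Net.cons (nat_lit 4) (nat_lit 0x4060700090303030c0f0e06) (Net.cons (nat_lit 2) (nat_lit 0x3101212312330300003230210) (Net.cons (nat_lit 1) (nat_lit 0x5015555404105045004010) Net.nil)))))))))))))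
noncomputable def X1_34 : Net := (Net.cons (nat_lit 1) (nat_lit 0x4555005105105145540054400) (Net.cons (nat_lit 2) (nat_lit 0x221311323211100113212220) (Net.cons (nat_lit 4) (nat_lit 0xe090f0c0905080405000800) (Net.cons (nat_lit 8) (nat_lit 0x4000f00aa004200b70000) (Net.cons (nat_lit 16) (nat_lit 0x42820000670100000006) (Net.cons (nat_lit 32) (nat_lit 0x600000000229d4860) (Net.cons (nat_lit 64) (nat_lit 0x8a2bd4967) (Net.cons (nat_lit 32) (nat_lit 0x40000000084961986) (Net.cons (nat_lit 16) (nat_lit 0x6a87000084c20000db03) (Net.cons (nat_lit 8) (nat_lit 0x2c008e001f00f8000a00c2) (Net.cons (nat_lit 4) (nat_lit 0xc030b050b02040d07030500) (Net.cons (nat_lit 2) (nat_lit 0x1003303333002232310112010) (Net.cons (nat_lit 1) (nat_lit 0x551404154541440050405540) Net.nil)))))))))))))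
noncomputable def X1_35 : Net := (Net.cons (nat_lit 1) (nat_lit 0x5411011515105100545445144) (Net.cons (nat_lit 2) (nat_lit 0x2301313101100203202311220) (Net.cons (nat_lit 4) (nat_lit 0x50400070004020e01060c02) (Net.cons (nat_lit 8) (nat_lit 0x5b00140060006900e80003) (Net.cons (nat_lit 16) (nat_lit 0xa08d0000c84100000000) (Net.cons (nat_lit 32) (nat_lit 0x40000000029248020) (Net.cons (nat_lit 64) (nat_lit 0x13f64eda7) (Net.cons (nat_lit 32) (nat_lit 0xa00000000543c3dca) (Net.cons (nat_lit 16) (nat_lit 0x526300000d340000bf6d) (Net.cons (nat_lit 8) (nat_lit 0x95000d00b3003700c9005c) (Net.cons (nat_lit 4) (nat_lit 0xa0f0a0f090c010603020a01) (Net.cons (nat_lit 2) (nat_lit 0x1203200303012033212320313) (Net.cons (nat_lit 1) (nat_lit 0x4555545440404041041500550) Net.nil)))))))))))))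
noncomputable def X1 : List Net := [X1_0, X1_1, X1_2, X1_3, X1_4, X1_5, X1_6, X1_7, X1_8, X1_9, X1_10, X1_11, X1_12, X1_13, X1_14, X1_15, X1_16, X1_17, X1_18, X1_19, X1_20, X1_21, X1_22, X1_23, X1_24, X1_25, X1_26, X1_27, X1_28, X1_29, X1_30, X1_31, X1_32, X1_33, X1_34, X1_35]
noncomputable def ws : List (List Nat) := [[8, 6, 2, 5, 17, 17, 9, 11, 14, 17, 16, 21, 19, 25], [6, 16, 5, 21, 18, 10, 11, 11, 13, 18, 21, 23, 25]]
noncomputable def W : List (List Nat) := [[2, 3, 2, 4, 1], [2, 2, 2, 4, 4, 2], [5, 5, 5, 7, 7, 7, 5], [8, 8, 8, 5, 5, 7, 5], [9, 12, 12, 9, 9], [14, 14, 14, 12], [14, 11, 14, 12], [15, 18, 16, 18, 15], [18, 15, 17, 15, 17], [22, 19, 19], [20, 8, 1, 7, 10, 10, 13, 16, 17, 20, 20, 22], [1, 3, 16, 8, 10, 19, 18, 21], [14, 4, 1, 5, 8, 15, 10, 12, 15, 18, 23], [6, 10, 2, 16, 10, 5, 11, 18, 16, 21, 24], [17, 2, 5, 16, 8, 9, 12, 20, 16], [6, 19, 3, 13, 10, 5, 11, 10, 12, 21], [1, 10, 2, 19, 6, 7, 10,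 10, 12, 23, 16, 21, 23], [7, 3, 5, 15, 11, 19, 18, 20, 20, 22, 24], [16, 1, 6, 7, 11, 10, 12, 20, 16, 20, 24], [6, 10, 2, 16, 10, 5, 11, 16, 21], [4, 19, 1, 21, 5, 15, 10, 13, 16, 16, 21, 23], [16, 4, 1, 22, 8, 10, 15, 11, 18, 23], [1, 13, 4, 18, 5, 11, 10, 17, 16, 21, 20, 22, 23], [20, 4, 10, 5, 7, 15, 11, 18, 16], [11, 3, 13, 13, 5, 10, 10, 13, 18, 21, 20, 22, 24], [4, 4, 1, 12, 6, 10, 10, 18, 15], [3, 13, 4, 11, 5, 10, 12, 18, 22], [20, 8, 1, 15, 8, 15, 10, 15, 11, 17, 16, 22, 24], [5, 19, 3, 8, 12, 8, 9, 12, 17, 20, 20, 22, 23], [11, 3, 20, 14, 5, 15, 10, 15, 11, 18], [8, 4, 7, 5, 13, 16, 24, 16, 21, 23], [11, 4, 16, 8, 15, 11, 18, 15, 21, 24], [6, 4, 16, 10, 5, 11, 10, 13, 23, 16, 21, 24], [20, 4, 8, 6, 10, 15, 11, 16, 17, 19], [9, 13, 4, 19, 6, 7, 15, 10, 12, 17, 20, 20, 22], [9, 14, 3, 24, 8, 8, 15, 11, 16, 24, 16, 20, 22, 23]]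
noncomputable def c : List Lvl := [⟨(nat_lit 23), [[(nat_lit 1)],
  [(nat_lit 3)]], (nat_lit 6)⟩,
  ⟨(nat_lit 76), [[(nat_lit 5)],
  [(nat_lit 7)]], (nat_lit 7)⟩,
  ⟨(nat_lit 4), [[(nat_lit 9)],
  [(nat_lit 11)]], (nat_lit 3)⟩,
  ⟨(nat_lit 91), [[(nat_lit 12)],
  [(nat_lit 13)]], (nat_lit 2)⟩,
  ⟨(nat_lit 93), [[(nat_lit 15)],
  [(nat_lit 17)]], (nat_lit 4)⟩,
  ⟨(nat_lit 89), [[(nat_lit 19)],
  [(nat_lit 21)]], (nat_lit 1)⟩,
  ⟨(nat_lit 9), [[(nat_lit 20), (nat_lit 22)],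
  [(nat_lit 23)]], (nat_lit 2)⟩]
noncomputable def v : List Nat := [14, 17, 11, 17, 16, 21, 23]
noncomputable def Ss : List Nat := [9903520314283042199201382928, 619045577506416051772981776, 12998370412496492886440804864]
noncomputable def R : Nat := 1606938044258990275541962092342430253122431223184289538506753
noncomputable def V : Nat := 20887575929211038970526055244919538678320074050186728532918659096517787868950545081303568
noncomputable def e : Fisch.Sm := eqM (lapp X X1) R V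
noncomputable def gs : List (List Nat) := [[25], [27], [29], [31], [33], [35], [37], [39], [41], [43]]
noncomputable def T_0 : List PcS := [⟨2, [9, 11], []⟩, ⟨2, [1, 13], [[1, 5, 7, 15]]⟩, ⟨2, [], [[5, 7, 13], []]⟩, ⟨2, [], [[9, 11], [1, 5, 11], [3, 9]]⟩]
noncomputable def T_1 : List PcS := [⟨2, [], [[1, 3, 9], [1, 7, 9], [3, 7, 9], [9]]⟩, ⟨2, [], [[7], [1, 5], [7], [], [7]]⟩, ⟨2, [5], [[5], [5], [], [], [], []]⟩, ⟨2, [], [[1], [1, 3], [], [3], [], [3], [3]]⟩]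
noncomputable def T_2 : List PcS := [⟨2, [1], [[1], [], [], [1], [], [], [], [1]]⟩, ⟨2, [], [[], [], [], [], [], [], [], [], []]⟩]
noncomputable def T : List PcS := lapp T_0 (lapp T_1 (T_2))
noncomputable def cS : List Lvl := [⟨0, [[35], [25], [27], [39], [31]], 2⟩, ⟨1, [[31, 41, 43], [25, 27, 29, 35, 37, 41], [25, 27, 29, 31, 33, 35, 37, 39, 41, 43]], 2⟩]
noncomputable def uS : List (List Nat) := [[11], [1], [3], [15], [7], [7, 17, 19], [1, 3, 5, 11, 13, 17], [1, 3, 5, 7, 9, 11, 13, 15, 17, 19]]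
noncomputable def Y0 : List (List Nat) := [[]]
noncomputable def E0 : List Fisch.Ent := [.split [⟨[], 0, []⟩, ⟨[], 1, []⟩]]
noncomputable def Y1 : List (List Nat) := [[], [1]]
noncomputable def E1 : List Fisch.Ent := [.split [⟨[], 0, []⟩, ⟨[], 1, []⟩], .split [⟨[], 2, []⟩, ⟨[], 3, []⟩]]
noncomputable def Y2 : List (List Nat) := [[], [3], [1], [1, 3]]
noncomputable def E2 : List Fisch.Ent := [.split [⟨[], 0, []⟩, ⟨[], 1, []⟩], .dead 1 [11], .merge [3] 1 [3, 11, 13] ⟨[], 2, []⟩, .merge [1] 1 [3, 5, 13] ⟨[], 3, []⟩]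
noncomputable def Y3 : List (List Nat) := [[], [5], [1], [1, 3]]
noncomputable def E3 : List Fisch.Ent := [.split [⟨[], 0, []⟩, ⟨[], 1, []⟩], .split [⟨[], 2, []⟩, ⟨[], 3, []⟩], .split [⟨[], 4, []⟩, ⟨[], 5, []⟩], .split [⟨[], 6, []⟩, ⟨[], 7, []⟩]]
noncomputable def Y4 : List (List Nat) := [[], [7], [5], [5, 7], [1], [1, 7], [1, 3], [1, 3, 7]]
noncomputable def E4 : List Fisch.Ent := [.split [⟨[], 0, []⟩, ⟨[], 1, []⟩], .merge [3] 1 [3, 9] ⟨[], 2, []⟩, .split [⟨[], 3, []⟩, ⟨[], 4, []⟩], .merge [3] 1 [3, 9] ⟨[], 5, []⟩, .split [⟨[], 6, []⟩, ⟨[], 7, []⟩], .split [⟨[], 8, []⟩, ⟨[], 9, []⟩], .dead 1 [1, 7, 9], .merge [7] 1 [1, 7, 9] ⟨[], 10, []⟩]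
noncomputable def Y5 : List (List Nat) := [[], [9], [7], [5], [5, 9], [5, 7], [1], [1, 9], [1, 7], [1, 7, 9], [1, 3, 7]]
noncomputable def E5 : List Fisch.Ent := [.split [⟨[], 0, []⟩, ⟨[], 1, []⟩], .merge [1] 1 [1, 7] ⟨[], 2, []⟩, .merge [5] 1 [5] ⟨[], 3, []⟩, .merge [1] 1 [1, 7] ⟨[], 4, []⟩, .merge [3] 1 [5, 7] ⟨[], 5, []⟩, .dead 1 [5, 7], .dead 1 [1], .merge [5] 1 [5] ⟨[], 6, []⟩, .dead 1 [1, 5], .merge [1] 1 [1, 5] ⟨[], 7, []⟩, .split [⟨[], 8, []⟩, ⟨[], 9, []⟩]]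
noncomputable def Y6 : List (List Nat) := [[], [11], [9], [7], [5], [5, 9], [1, 9], [1, 7, 9], [1, 3, 7], [1, 3, 7, 11]]
noncomputable def E6 : List Fisch.Ent := [.split [⟨[], 0, []⟩, ⟨[], 1, []⟩], .merge [3] 1 [3] ⟨[], 2, []⟩, .merge [1, 3] 1 [3] ⟨[], 3, []⟩, .split [⟨[], 4, []⟩, ⟨[], 5, []⟩], .merge [1, 7] 1 [3] ⟨[], 6, []⟩, .dead 1 [3, 5], .merge [5, 9] 1 [3, 5] ⟨[], 7, []⟩, .split [⟨[], 8, []⟩, ⟨[], 9, []⟩], .merge [9] 1 [3, 5] ⟨[], 10, []⟩, .dead 1 [3, 5]]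
noncomputable def Y7 : List (List Nat) := [[], [13], [11], [9], [7], [7, 13], [5], [1, 9], [1, 7, 9], [1, 7, 9, 13], [1, 3, 7]]
noncomputable def E7 : List Fisch.Ent := [.split [⟨[], 0, []⟩, ⟨[], 1, []⟩], .split [⟨[], 2, []⟩, ⟨[], 3, []⟩], .split [⟨[], 4, []⟩, ⟨[], 5, []⟩], .split [⟨[], 6, []⟩, ⟨[], 7, []⟩], .split [⟨[], 8, []⟩, ⟨[], 9, []⟩], .split [⟨[], 10, []⟩, ⟨[], 11, []⟩], .split [⟨[], 12, []⟩, ⟨[], 13, []⟩], .split [⟨[], 14, []⟩, ⟨[], 15, []⟩], .split [⟨[], 16, []⟩, ⟨[], 17, []⟩], .split [⟨[], 18, []⟩, ⟨[], 19, []⟩], .split [⟨[], 20, []⟩, ⟨[], 21, []⟩]]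
noncomputable def Y8 : List (List Nat) := [[], [15], [13], [13, 15], [11], [11, 15], [9], [9, 15], [7], [7, 15], [7, 13], [7, 13, 15], [5], [5, 15], [1, 9], [1, 9, 15], [1, 7, 9], [1, 7, 9, 15], [1, 7, 9, 13], [1, 7, 9, 13, 15], [1, 3, 7], [1, 3, 7, 15]]
noncomputable def E8 : List Fisch.Ent := [.split [⟨[], 0, []⟩, ⟨[], 1, []⟩], .merge [1] 1 [] ⟨[], 2, []⟩, .split [⟨[], 3, []⟩, ⟨[], 4, []⟩], .merge [3] 1 [] ⟨[], 5, []⟩, .split [⟨[], 6, []⟩, ⟨[], 7, []⟩], .merge [1] 1 [1] ⟨[], 8, []⟩, .split [⟨[], 9, []⟩, ⟨[], 10, []⟩], .split [⟨[], 11, []⟩, ⟨[], 12, []⟩], .merge [1] 1 [1] ⟨[], 13, []⟩, .split [⟨[], 14, []⟩, ⟨[], 15, []⟩], .merge [1] 1 [] ⟨[], 16, []⟩, .split [⟨[], 17, []⟩, ⟨[], 18, []⟩], .split [⟨[], 19, []⟩, ⟨[], 20, []⟩], .merge [3] 1 [1] ⟨[], 21, []⟩, .merge [7] 1 [1] ⟨[], 22, []⟩, .dead 1 [1], .dead 1 [1], .merge [7] 1 [] ⟨[], 23, []⟩, .dead 1 [1], .merge [7] 1 [] ⟨[], 24, []⟩, .split [⟨[], 25, []⟩, ⟨[], 26,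 []⟩], .split [⟨[], 27, []⟩, ⟨[], 28, []⟩]]
noncomputable def Y9 : List (List Nat) := [[], [17], [15], [13], [13, 17], [13, 15], [11], [11, 17], [11, 15], [9], [9, 17], [9, 15], [9, 15, 17], [7], [7, 15], [7, 15, 17], [7, 13], [7, 13, 15], [7, 13, 15, 17], [5], [5, 17], [5, 15], [1, 9], [1, 7, 9, 15], [1, 7, 9, 13, 15], [1, 3, 7], [1, 3, 7, 17], [1, 3, 7, 15], [1, 3, 7, 15, 17]]
noncomputable def E9 : List Fisch.Ent := [.split [⟨[], 0, []⟩, ⟨[], 1, []⟩], .dead 1 [], .merge [7] 1 [] ⟨[], 2, []⟩, .dead 1 [], .merge [3] 1 [] ⟨[], 3, []⟩, .merge [7] 1 [] ⟨[], 4, []⟩, .merge [1] 1 [] ⟨[], 5, []⟩, .dead 1 [], .dead 1 [], .merge [7] 1 [] ⟨[], 6, []⟩, .dead 1 [], .merge [13] 1 [] ⟨[], 7, []⟩, .merge [7] 1 [] ⟨[], 8, []⟩, .merge [9] 1 [] ⟨[], 9, []⟩, .dead 1 [], .merge [9] 1 [] ⟨[], 10, []⟩, .dead 1 [], .dead 1 [], .merge [1] 1 [] ⟨[], 11, []⟩, .merge [11] 1 [] ⟨[], 12, []⟩, .dead 1 [], .merge [13] 1 [] ⟨[], 13, []⟩, .merge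 [13] 1 [] ⟨[], 14, []⟩, .dead 1 [], .merge [11] 1 [] ⟨[], 15, []⟩, .split [⟨[], 16, []⟩, ⟨[], 17, []⟩], .dead 1 [], .merge [13] 1 [] ⟨[], 18, []⟩, .merge [13] 1 [] ⟨[], 19, []⟩]
noncomputable def Y10 : List (List Nat) := [[], [19], [15], [13, 17], [13, 15], [11], [9], [9, 15], [9, 15, 17], [7], [7, 15, 17], [7, 13, 15, 17], [5], [5, 15], [1, 9], [1, 7, 9, 13, 15], [1, 3, 7], [1, 3, 7, 19], [1, 3, 7, 15], [1, 3, 7, 15, 17]]
noncomputable def a0 : List Nat := [43]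
noncomputable def a0T : Tr := (.sym [[1], [3]] (.cons [] 6 192 (.op 4 0 (.focus 0 (.cons [] 0 192 (.base (nat_lit 0x80000000001000280002010) (.focus 0 (.sym [[5], [7], [9], [11]] (.cons [] 1 96 (.focus 1 (.op 4 0 (.focus 0 (.cons [] 0 96 (.base (nat_lit 0x2314c000000800c0408420006) (.focus 0 (.sym [[13], [15], [17]] (.cons [] 3 6 (.op 4 0 (.focus 0 (.cons [] 0 6 .triv .nil))) .nil)))) .nil)))) (.cons [2] 2 0 (.op 5 0 (.and 1 0 (.dead0 0))) .nil))))) .nil))) (.cons [2] 4 0 (.op 5 0 (.and 1 0 (.dead0 0))) .nil)))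
noncomputable def a0TK : List (List Nat) := [[45], [47], [10, 10, 15, 20, 22, 23], [10, 10, 23, 16, 20, 22, 24], [18, 22], [20, 22, 23], [16, 16, 21, 23], [18, 22, 23], [20, 16, 20, 22]]
noncomputable def a0TF : List (List Nat) := [[], [1]]
noncomputable def a0c : List Lvl := [⟨0, [[45], [47]], 6⟩, ⟨1, [[10, 10, 18, 15, 24], [24, 13, 4, 6, 7, 10, 10, 15, 11, 15, 21, 23]], 5⟩, ⟨2, [[4, 19, 3, 13, 10, 5, 9, 12, 22], [11, 2, 11, 8, 10, 10, 12, 20, 16, 22, 23]], 2⟩]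
noncomputable def a0q : List (List Nat) := [[31], [33], [35], [37], [39], [41], [43]]
noncomputable def a0u : List (List Nat) := [[7], [9], [11], [13], [15], [17], [19]]
noncomputable def a0v_0 : List (List (List Nat)) := [[[11, 7], [3, 5, 1], [12, 7, 3], [8], [9, 5, 3, 1], [11, 7, 1], [13]], [[7, 3, 1], [11, 5, 1], [13, 5, 1], [7], [11, 9], [7, 3], [13]], [[12, 5, 3, 1], [8, 5, 3], [3], [8], [9, 7, 3, 1], [8, 5, 1], [13]], [[11, 5, 1], [11, 5, 3], [13, 3], [7], [12, 9, 1], [7, 5, 3, 1], [13]]]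
noncomputable def a0v_1 : List (List (List Nat)) := [[[1], [11, 7], [5, 1], [7], [12, 9, 7, 3], [8, 3], [13]], [[5], [11, 5, 3], [5, 1], [7], [12, 9, 1], [7, 5, 3, 1], [13]]]
noncomputable def a0v : List (List (List Nat)) := lapp a0v_0 (a0v_1)
noncomputable def a0U : Tr := (.op 38 0 (.focus 0 (.op 2 0 (.op 5 0 (.xor 1 0 (.focus 0 (.sym [[1]] (.cons [] 1 1 (.focus 4 (.focus 1 (.op 4 0 (.focus 0 (.cons [] 0 1 (.focus 6 (.focus 3 (.op 22 2 (.focus 0 (.cons [] 0 1 (.focus 8 (.focus 5 (.op 4 0 (.focus 0 (.cons [] 0 1 (.focus 7 (.base (nat_lit 0x2314c000000800c0408420006) (.focus 0 (.op 16 0 (.focus 0 (.base (nat_lit 0x4020005881064924000100040) (.op 10 0 (.focus 0 (.cons [] 0 1 (.focus 2 (.op 10 0 (.focus 0 (.cons [] 0 1 (.focus 5 (.op 10 6 (.focus 0 (.op 22 5 (.focus 0 (.cons [] 0 1 .triv .nil)))))) .nil)))) .nil))))))))) .nil))))) .nil))))) .nil))))) (.cons [1, 10, 2] 1 0 (.op 16 0 (.op 22 0 (.op 10 2 (.op 28 0 (.and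 2 0 (.dead0 0)))))) (.cons [4, 21, 3] 1 0 (.op 10 0 (.op 16 0 (.op 34 2 (.and 1 0 (.dead0 0))))) (.cons [19, 1, 1] 1 0 (.op 10 0 (.op 16 0 (.op 34 2 (.and 1 0 (.dead0 0))))) .nil)))))))))))
noncomputable def a0UK : List (List Nat) := [[6, 10, 2, 16, 10, 5, 11, 16, 21]]
noncomputable def a0UF : List (List Nat) := [[], [1], [3], [5], [13], [11], [12], [9], [9, 7], [7, 9], [5, 1], [11, 1], [13, 1], [12, 1], [13, 3], [13, 5], [11, 7], [12, 7], [9, 1], [9, 5], [1, 9]]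
noncomputable def a0z : List Lvl := [⟨57, [[43]], 1⟩]
noncomputable def a0w : List (List Nat) := [[13]]
noncomputable def xs : List (List Nat) := [[49], [51]]
noncomputable def w : List Nat := [37]
noncomputable def xT : Tr := (.op 2 0 (.op 5 0 (.xor 1 0 (.focus 0 (.op 8 0 (.xor 3 0 (.focus 0 (.sym [[1]] (.cons [] 3 1 (.focus 3 (.focus 1 (.base (nat_lit 0x1882000404009000bf0002738) (.op 10 0 (.focus 0 (.op 13 1 (.focus 0 (.op 4 2 (.op 13 0 (.xor 10 0 (.focus 0 (.op 10 6 (.op 7 0 (.op 13 0 (.xor 14 0 (.focus 0 (.cons [] 0 1 (.focus 10 (.focus 7 (.focus 14 (.xor 16 8 (.focus 0 (.cons [] 0 1 (.focus 12 (.focus 1 (.xor 18 9 (.focus 0 (.xor 19 12 (.focus 0 (.op 7 14 (.focus 0 (.cons [] 0 1 (.focus 1 (.op 4 10 (.focus 0 (.cons [] 0 1 (.focus 15 (.focus 16 (.focus 13 (.xor 24 18 (.focus 0 (.op 10 9 (.op 4 0 (.focus 0 (.cons [] 0 1 (.focus 22 (.focus 7 (.focus 21 (.op 7 10 (.focus 0 (.cons [] 0 1 .triv .nil)))))) .nil)))))))))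 .nil)))) (.cons [1] 0 0 (.op 29 0 (.and 1 0 (.dead0 0))) .nil)))))))))) (.cons [9, 2] 0 0 (.op 17 0 (.and 1 0 (.dead0 0))) .nil))))))) .nil))))))))))))))))) (.cons [2] 1 0 (.op 41 0 (.and 1 0 (.dead0 0))) (.cons [4] 3 0 (.op 7 0 (.op 23 0 (.and 1 0 (.dead0 0)))) (.cons [1] 1 0 (.op 50 0 (.and 1 0 (.dead0 0))) (.cons [3] 3 0 (.op 13 0 (.op 17 0 (.and 1 0 (.dead0 0)))) (.cons [15, 4] 3 0 (.op 13 0 (.op 4 0 (.op 23 0 (.and 1 0 (.dead0 0))))) (.cons [21, 3] 3 0 (.op 7 0 (.op 13 0 (.op 17 0 (.and 1 0 (.dead0 0))))) (.cons [21, 1] 3 0 (.op 23 0 (.and 1 0 (.dead0 0))) (.cons [22, 4] 3 0 (.op 4 0 (.op 13 0 (.op 17 0 (.and 1 0 (.dead0 0))))) (.cons [8, 1] 3 0 (.op 4 0 (.op 23 0 (.and 1 0 (.dead0 0)))) (.cons [11, 3] 1 0 (.op 44 0 (.and 1 0 (.dead0 0))) (.cons [21, 2] 3 0 (.op 4 0 (.op 10 0 (.op 7 0 (.op 23 0 (.and 1 0 (.dead0 0)))))) (.cons [3, 2] 1 0 (.op 17 0 (.and 1 0 (.dead0 0))) (.cons [10, 2] 3 0 (.op 10 0 (.op 7 0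 (.op 23 0 (.and 1 0 (.dead0 0))))) (.cons [16, 4] 3 0 (.op 4 0 (.op 10 0 (.op 17 0 (.and 1 0 (.dead0 0))))) (.cons [5, 3] 1 0 (.op 56 0 (.and 1 0 (.dead0 0))) (.cons [12, 4] 3 0 (.op 10 0 (.op 17 0 (.and 1 0 (.dead0 0)))) (.cons [15, 3] 3 0 (.op 7 0 (.op 10 0 (.op 17 0 (.and 1 0 (.dead0 0))))) (.cons [24, 4] 3 0 (.op 10 0 (.op 4 0 (.op 23 0 (.and 1 0 (.dead0 0))))) (.cons [6, 1, 4] 3 0 (.op 13 0 (.op 7 0 (.op 23 0 (.and 1 0 (.dead0 0))))) (.cons [7, 4, 1] 1 0 (.op 23 0 (.and 1 0 (.dead0 0))) (.cons [4, 21, 3] 3 0 (.op 17 0 (.and 1 0 (.dead0 0))) (.cons [11, 3, 2] 1 0 (.op 35 0 (.and 1 0 (.dead0 0))) (.cons [7, 1, 4] 1 0 (.op 29 0 (.and 1 0 (.dead0 0))) .nil))))))))))))))))))))))))))))))))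
noncomputable def xTK : List (List Nat) := [[37]]
noncomputable def xTF : List (List Nat) := [[], [1], [3], [2], [4], [2, 3, 1], [2, 4, 1], [4, 1, 3], [4, 2, 3], [1, 3, 2], [1, 4, 2], [3, 1, 4], [3, 2, 4], [4, 2, 3, 1], [3, 2, 4, 1], [2, 4, 1, 3], [1, 4, 2, 3], [4, 1, 3, 2], [3, 1, 4, 2], [2, 3, 1, 4], [1, 3, 2, 4]]
noncomputable def cE : List Lvl := [⟨38, [[49], [51]], 10⟩, ⟨68, [[51], [50, 51, 49]], 4⟩, ⟨12, [[50, 51, 49, 51, 50, 51, 49]], 2⟩]
noncomputable def uE : List (List Nat) := [[1], [3], [3], [2, 3, 1], [2, 3, 1, 3, 2, 3, 1]]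
noncomputable def a1 : List Nat := [53]
noncomputable def a1T : Tr := (.sym [[1], [3], [5]] (.cons [] 4 96 (.base (nat_lit 0xe77dfffbfbff6fff40f7fd8c7) (.focus 0 (.op 4 0 (.focus 0 (.sym [[3], [7], [9]] (.cons [] 3 4 (.base (nat_lit 0x80000000001000280002010) (.focus 0 (.sym [[3], [11]] (.cons [] 1 2 (.focus 1 (.op 2 0 (.xor 0 1 (.focus 0 (.base (nat_lit 0x1802000404008000970000728) (.op 4 0 (.xor 3 0 (.focus 0 (.cons [] 0 2 (.base (nat_lit 0x2314c000000800c0408420006) (.focus 0 (.base (nat_lit 0x4020005881064924000100040) (.op 4 0 (.focus 0 (.sym [[13]] (.cons [] 1 1 (.focus 2 (.focus 1 (.base (nat_lit 0x20000001004000000000040) (.focus 0 (.cons [] 0 1 (.base (nat_lit 0x800000400000000840000300) (.focus 0 (.base (nat_lit 0x400000008400000000004000) (.op 4 0 (.focus 0 (.cons [] 0 1 .triv .nil)))))) .nil))))) (.cons [11, 2] 1 0 (.base (nat_lit 0x20000001004000000000040) (.op 4 1 (.and 1 0 (.dead0 0)))) .nil))))))))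 (.cons [3] 0 0 (.base (nat_lit 0x4020005881064924000100040) (.op 4 1 (.and 1 0 (.dead0 0)))) (.cons [5, 2] 0 0 (.base (nat_lit 0x2314c000000800c0408420006) (.op 4 1 (.and 1 0 (.dead0 0)))) .nil))))))))))) (.cons [2] 1 0 (.base (nat_lit 0x1802000404008000970000728) (.op 4 1 (.and 1 0 (.dead0 0)))) (.cons [9, 2] 1 0 (.base (nat_lit 0x2714c000084800c0408424006) (.op 4 1 (.and 1 0 (.dead0 0)))) .nil)))))) (.cons [4] 2 0 (.base (nat_lit 0x49340310310003000000801) (.op 4 1 (.and 1 0 (.dead0 0)))) (.cons [12, 3] 2 0 (.base (nat_lit 0x49340310310003000000801) (.op 4 1 (.and 1 0 (.dead0 0)))) (.cons [19, 1] 1 0 (.base (nat_lit 0x49340310310003000000801) (.op 4 1 (.and 1 0 (.dead0 0)))) .nil))))))))) (.cons [21, 3] 3 0 (.base (nat_lit 0xe77dfffbfbff6fff40f7fd8c7) (.op 4 1 (.and 1 0 (.dead0 0)))) .nil)))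
noncomputable def a1TK : List (List Nat) := [[55], [9, 12, 16, 20, 24], [9, 2, 14, 5, 9, 12, 22, 24], [13, 10, 5, 9, 11, 24, 16, 21, 20, 22, 24], [17, 8, 11, 10, 23, 16, 20, 22, 24], [9, 12, 20, 23], [18, 20, 22, 23]]
noncomputable def a1TF : List (List Nat) := [[], [1]]
noncomputable def a1c : List Lvl := [⟨0, [[55], [57], [59]], 3⟩, ⟨2, [[9, 14, 3, 12, 8, 10, 10, 19, 18, 20, 22], [1, 6, 7, 9, 15, 11, 19, 18, 20, 20, 22], [9, 12, 20, 23]], 3⟩, ⟨1, [[9, 14, 3, 14, 8, 10, 11, 15, 22, 23], [9, 2, 24, 5, 7, 15, 10, 17, 16, 21]], 1⟩]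
noncomputable def a2 : List Nat := [61]
noncomputable def a2T : Tr := (.sym [[1], [3]] (.cons [] 7 1152 (.base (nat_lit 0xe77dfffbfbff6fff40f7fd8c7) (.focus 0 (.op 4 0 (.focus 0 (.sym [[5], [7]] (.cons [] 4 32 (.base (nat_lit 0x80000000001000280002010) (.focus 0 (.op 2 0 (.op 4 1 (.xor 1 0 (.focus 0 (.sym [[9], [11], [13]] (.cons [] 2 8 (.focus 4 (.focus 2 (.sym [[15], [17], [19]] (.cons [] 1 4 (.focus 3 (.xor 4 5 (.focus 0 (.base (nat_lit 0x2314c000000800c0408420006) (.focus 0 (.sym [[19], [21]] (.cons [] 1 2 (.base (nat_lit 0x20000001004000000000040) (.focus 0 (.op 4 0 (.xor 9 0 (.focus 0 (.sym [[15]] (.cons [] 1 1 (.base (nat_lit 0x800000400000000840000300) (.focus 0 (.op 4 0 (.focus 0 (.cons [] 0 1 .triv (.cons [3] 0 0 (.base (nat_lit 4) (.op 5 0 (.and 1 0 (.dead0 0)))) .nil)))))) .nil))))))) .nil))))))) .nil)))) .nil)))))))) (.cons [2] 4 0 (.op 5 0 (.and 1 0 (.dead0 0))) .nil))))))) (.cons [2] 5 0 (.op 5 0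 (.and 1 0 (.dead0 0))) .nil)))
noncomputable def a2TK : List (List Nat) := [[63], [65], [7, 6, 9, 12, 15, 18, 23], [13, 8, 15, 10, 15, 11, 15, 21, 20, 22], [15, 11, 15, 20, 20, 22, 24], [11, 10, 19, 18, 20, 20, 22], [9, 12, 16, 20, 24], [22, 24], [15, 11, 24, 16, 21, 20, 22], [16, 24, 16, 20, 24], [16, 24, 16, 19, 24]]
noncomputable def a2TF : List (List Nat) := [[], [1]]
noncomputable def a2c : List Lvl := [⟨0, [[63], [65]], 6⟩, ⟨1, [[4, 4, 1, 20, 8, 11, 10, 11, 15, 19, 23], [8, 4, 24, 5, 7, 11, 10, 12, 15, 21]], 5⟩, ⟨2, [[21, 4, 14, 8, 15, 10, 13, 17, 19], [6, 2, 20, 8, 10, 12, 16, 17, 19, 24], [23, 5, 12, 20, 16, 21, 20, 22, 23]], 2⟩, ⟨3, [[11, 5, 7, 9, 15, 11, 24, 16, 22]], 1⟩]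
noncomputable def mw : List (List Nat) := [[67], [69]]
noncomputable def ml : List Nat := [(nat_lit 0x6621280e0a5818023881b422),
  (nat_lit 0xa00918ac2d1818b241223060),
  (nat_lit 0xb01d32de050010221244005b),
  (nat_lit 0x12051188402e100d23ac5201a),
  (nat_lit 0x2421920662438006831611063),
  (nat_lit 0x2520d0a140c2008f862072058),
  (nat_lit 0x2843110c4037800d848c29421),
  (nat_lit 0x3c241204e0bc118084a860019),
  (nat_lit 0x4203c211a22a110622b419028),
  (nat_lit 0x5664c11902a1808b229050410),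
  (nat_lit 0x5a06421320d58080250a68052),
  (nat_lit 0x5b0700b402540009203c0b069),
  (nat_lit 0x6040429720cc1080822a13469),
  (nat_lit 0x61410030024d9009871c70452),
  (nat_lit 0x6d23833a20399002808648010),
  (nat_lit 0x7944803280b2018f80a201428),
  (nat_lit 0x8041410d92e81180049461471),
  (nat_lit 0x814003aab069910901a20244a),
  (nat_lit 0x8d2280a0921d910206383a008),
  (nat_lit 0x942642053263800d04b028049),
  (nat_lit 0x952700a210e2008401864b072),
  (nat_lit 0x9844c10f10178006032a1040b),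
  (nat_lit 0xa202c18b100e1006a40a6b030),
  (nat_lit 0xb764802492040102a11841433),
  (nat_lit 0xc9435031d0920184070438402),
  (nat_lit 0xdc25119e52981080021612001),
  (nat_lit 0xe76253bd70000009a0000a401),
  (nat_lit 0xf2041212f20a110da51220002)]
noncomputable def mN_0 : Net := (Net.cons (nat_lit 1) (nat_lit 89395200) (Net.cons (nat_lit 2) (nat_lit 16913152) (Net.cons (nat_lit 4) (nat_lit 855306) (Net.cons (nat_lit 8) (nat_lit 262208) (Net.cons (nat_lit 16) (nat_lit 2157) (Net.cons (nat_lit 8) (nat_lit 721014) (Net.cons (nat_lit 4) (nat_lit 657674) (Net.cons (nat_lit 2) (nat_lit 52633651) (Net.cons (nat_lit 1) (nat_lit 67109952) Net.nil)))))))))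
noncomputable def mN_1 : Net := (Net.cons (nat_lit 1) (nat_lit 20548) (Net.cons (nat_lit 2) (nat_lit 18874880) (Net.cons (nat_lit 4) (nat_lit 397056) (Net.cons (nat_lit 8) (nat_lit 393456) (Net.cons (nat_lit 16) (nat_lit 255) (Net.cons (nat_lit 4) (nat_lit 460810) (Net.cons (nat_lit 2) (nat_lit 51519747) (Net.cons (nat_lit 1) (nat_lit 67110161) Net.nil))))))))
noncomputable def mN : List Net := [mN_0, mN_1]
noncomputable def M : MD := ⟨[[3], [1]], [(nat_lit 21105296), (nat_lit 25710602), (nat_lit 38313989), (nat_lit 42075488), (nat_lit 67470360), (nat_lit 70263170), (nat_lit 135533124), (nat_lit 136398881)], [(Net.cons (nat_lit 1) (nat_lit 4) (Net.cons (nat_lit 2) (nat_lit 32) (Net.cons (nat_lit 4) (nat_lit 6) (Net.cons (nat_lit 2) (nat_lit 18) (Net.cons (nat_lit 1) (nat_lit 5) Net.nil))))), (Net.cons (nat_lit 1) (nat_lit 68) (Net.cons (nat_lit 2) (nat_lit 32) (Net.cons (nat_lit 4) (nat_lit 8) (Net.cons (nat_lit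 2) (nat_lit 1) (Net.cons (nat_lit 1) (nat_lit 20) Net.nil)))))], [⟨0, [[1], [3]], 3⟩, ⟨1, [[4, 4], [2, 3, 1]], 3⟩, ⟨2, [[4, 4], [4, 1, 3, 3, 2]], 3⟩, ⟨3, [[1, 1, 1, 1, 1], [3, 3, 3, 1, 3, 3, 2]], 3⟩, ⟨4, [[1, 3, 3, 1, 1, 1, 1, 3], [2, 2, 3, 3, 3, 3, 3, 1, 1]], 2⟩, ⟨5, [[1, 1, 3, 3, 3, 3, 3, 2, 2], [4, 2, 3, 3, 3, 3, 3, 1, 3]], 1⟩, ⟨6, [[4, 2, 4, 4, 2, 4, 2, 4, 2, 2, 2]], 1⟩]⟩
noncomputable def a3 : List Nat := [71]
noncomputable def a3T : Tr := (.sym [[1], [3]] (.cons [] 6 64 (.base (nat_lit 0x1882000404009000bf0002738) (.op 4 0 (.focus 0 (.op 2 0 (.xor 0 2 (.focus 0 (.sym [[5], [7], [9], [11], [13]] (.cons [] 1 8 (.focus 4 (.xor 2 3 (.focus 0 (.base (nat_lit 0x80000000001000280002010) (.focus 0 (.op 4 2 (.xor 5 0 (.focus 0 (.sym [[7], [15], [17]] (.cons [] 1 2 (.focus 3 (.focus 1 (.xor 7 0 (.focus 0 (.base (nat_lit 0x2714c000084800c0408424006) (.op 4 0 (.focus 0 (.cons [] 0 2 (.focus 2 (.focus 1 (.sym [[19]] (.cons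 [] 1 1 (.focus 11 (.xor 12 3 (.focus 0 (.focus 10 (.xor 13 3 (.focus 0 (.base (nat_lit 0x20000001004000000000040) (.focus 0 (.op 4 0 (.focus 0 (.cons [] 0 1 (.focus 19 (.focus 18 (.base (nat_lit 0x800000400000000840000300) (.focus 0 (.cons [] 0 1 .triv (.cons [1, 4] 0 0 (.base (nat_lit 2) (.op 4 0 (.base (nat_lit 0x49240210310000000000801) (.and 1 0 (.dead0 0))))) .nil)))))) .nil))))))))))) (.cons [3] 1 0 (.op 5 0 (.and 1 0 (.dead0 0))) (.cons [4, 1] 1 0 (.op 5 0 (.and 1 0 (.dead0 0))) .nil)))))) .nil)))))))) (.cons [9, 2] 0 0 (.base (nat_lit 0x2714c000084800c0408424006) (.op 4 1 (.and 1 0 (.dead0 0)))) .nil))))))))))) (.cons [5, 2] 1 0 (.base (nat_lit 0x80000000001000280002010) (.op 4 1 (.and 1 0 (.dead0 0)))) .nil))))))))) (.cons [1] 1 0 (.base (nat_lit 0xe77dfffbfbff6fff40f7fd8c7) (.op 5 0 (.and 1 0 (.dead0 0)))) (.cons [3] 4 0 (.op 5 0 (.and 1 0 (.dead0 0))) (.cons [4, 1] 5 0 (.base (nat_lit 0xe77dfffbfbff6fff40f7fd8c7)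 (.op 4 1 (.and 1 0 (.dead0 0)))) .nil)))))
noncomputable def a3TK : List (List Nat) := [[73], [75], [6, 15, 11, 17, 19], [10, 10, 16, 16, 23], [18, 7, 5, 10, 11, 16, 16, 24], [19, 5, 7, 10, 10, 16, 17, 20, 20, 22, 23], [5, 5, 9, 12, 23, 16, 20, 22, 24], [10, 15, 11, 17, 19], [10, 15, 11, 18, 15, 20, 22, 23], [23, 16, 21, 24]]
noncomputable def a3TF : List (List Nat) := [[], [1]]
noncomputable def a3c : List Lvl := [⟨0, [[73], [75]], 5⟩, ⟨1, [[9, 4, 8, 14, 5, 15, 10, 15], [19, 1, 8, 8, 11, 10, 13, 15, 20, 23], [9, 4, 13, 8, 10, 15, 11, 17, 21, 23]], 2⟩, ⟨2, [[19, 1, 8, 8, 15, 10, 15, 11, 20, 20, 22, 23], [20, 4, 9, 5, 15, 10, 20, 20, 22, 24]], 1⟩]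
noncomputable def rx : List Nat := [8, 4, 12, 8, 11, 10, 15, 11, 24, 16, 20, 20, 22]
noncomputable def ry : List Nat := [11, 8, 1, 9, 5, 13, 24, 16, 23]
noncomputable def Ts_0 : List To := [⟨[], 0, []⟩, ⟨[], 1, []⟩, ⟨[15, 19, 3, 5, 8, 16, 20, 23], 4, []⟩, ⟨[11, 2, 7, 9, 6, 10, 15, 21, 24], 1, []⟩, ⟨[3, 20, 6, 9, 17, 19, 23], 3, []⟩, ⟨[6, 2, 12, 6, 10, 10, 12, 15, 20, 22], 1, []⟩, ⟨[6, 1, 17, 8, 16, 20, 22, 24], 1, []⟩, ⟨[17, 4, 8, 8, 18, 16, 21, 20, 22], 4, []⟩, ⟨[19, 2, 14, 5, 15, 10, 12, 20, 16], 3, []⟩, ⟨[5, 4, 7, 6, 15, 10, 12, 15, 18], 1, []⟩]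
noncomputable def Ts_1 : List To := [⟨[4, 1, 17, 8, 9, 15, 21], 4, []⟩, ⟨[9, 2, 6, 6, 10, 11, 23], 3, []⟩, ⟨[9, 4, 5, 11, 10, 13, 23, 16, 20, 20, 22], 2, []⟩, ⟨[8, 4, 13, 13, 5, 10, 16, 24, 16, 21], 4, []⟩, ⟨[1, 1, 7, 14, 7, 9, 11, 20], 4, []⟩, ⟨[20, 4, 6, 15, 24], 2, []⟩, ⟨[20, 2, 15, 8, 10, 10, 16, 16], 3, []⟩, ⟨[14, 1, 11, 8, 10, 12, 20, 24], 4, []⟩, ⟨[11, 3, 7, 10, 16, 16, 21, 20, 22], 1, []⟩, ⟨[1, 14, 5, 10, 10, 19, 18], 2, []⟩]
noncomputable def Ts : List To := lapp Ts_0 (Ts_1)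

end CF.Q16.HS
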