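import Cfsg.Agent.Fisch.St.Defs
import Cfsg.Agent.Bt.Res

set_option autoImplicit false
set_option maxRecDepth 1000000

namespace CF.Q16.J2

open CF.Comp CF.Fisch CF.Bt

noncomputable def X_0 : Net := (Net.cons (nat_lit 1) (nat_lit 0x514511004555140440441050) (Net.cons (nat_lit 2) (nat_lit 0x1032021202213010203023220) (Net.cons (nat_lit 4) (nat_lit 0xd010b02000b0009030d0504) (Net.cons (nat_lit 8) (nat_lit 0x18005f005300a400610000) (Net.cons (nat_lit 16) (nat_lit 0x102100002e960000000c) (Net.cons (nat_lit 32) (nat_lit 2773373456) (Net.cons (nat_lit 64) (nat_lit 0xef76efbfe) (Net.cons (nat_lit 32) (nat_lit 0x900000000ca9c7333) (Net.cons (nat_lit 16) (nat_lit 0xa50b0000ff290000f3f9) (Net.cons (nat_lit 8) (nat_lit 0x73006c00d3007600410058) (Net.cons (nat_lit 4) (nat_lit 0x3090c090b080d0801090800) (Net.cons (nat_lit 2) (nat_lit 0x3020303001110333122122231) (Net.cons (nat_lit 1) (nat_lit 0x5500114041415005500051444) Net.nil)))))))))))))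
noncomputable def X_1 : Net := (Net.cons (nat_lit 1) (nat_lit 0x1544110545544045154101414) (Net.cons (nat_lit 2) (nat_lit 0x2220013031022132232112120) (Net.cons (nat_lit 4) (nat_lit 0x3020f04080f030603010b0d) (Net.cons (nat_lit 8) (nat_lit 0xea007200a600cc00850000) (Net.cons (nat_lit 16) (nat_lit 0xc6160000250200000003) (Net.cons (nat_lit 32) (nat_lit 0x4000000001e246020) (Net.cons (nat_lit 64) (nat_lit 0xbdf7e603e) (Net.cons (nat_lit 32) (nat_lit 0xb0000000071e63afd) (Net.cons (nat_lit 16) (nat_lit 0x92cf000012a600003e60) (Net.cons (nat_lit 8) (nat_lit 0x75005b005000d70023008d) (Net.cons (nat_lit 4) (nat_lit 0xf0f06090b01010001050303) (Net.cons (nat_lit 2) (nat_lit 0x1233221203212012021200001) (Net.cons (nat_lit 1) (nat_lit 0x4114545444511554504100010) Net.nil)))))))))))))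
noncomputable def X : List Net := [X_0, X_1]
noncomputable def X1_0 : Net := (Net.cons (nat_lit 1) (nat_lit 0x4140141404004550114101010) (Net.cons (nat_lit 2) (nat_lit 0x112130200000320123310200) (Net.cons (nat_lit 4) (nat_lit 0xd0e0c000c020f000c080200) (Net.cons (nat_lit 8) (nat_lit 0xe100f5002700320039000b) (Net.cons (nat_lit 16) (nat_lit 0x8bca0000eb9000000001) (Net.cons (nat_lit 32) (nat_lit 2222002688) (Net.cons (nat_lit 64) (nat_lit 0x4dcf59376) (Net.cons (nat_lit 32) (nat_lit 0xf000000004e41b7bf) (Net.cons (nat_lit 16) (nat_lit 0x52fc000009d3000071f1) (Net.cons (nat_lit 8) (nat_lit 0x76006100dc006900c1009d) (Net.cons (nat_lit 4) (nat_lit 0x50900020e0700020c050e00) (Net.cons (nat_lit 2) (nat_lit 0x1013310010012230121101220) (Net.cons (nat_lit 1) (nat_lit 0x5154541104044150400040411) Net.nil)))))))))))))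
noncomputable def X1_1 : Net := (Net.cons (nat_lit 1) (nat_lit 0x1540514114011140500000004) (Net.cons (nat_lit 2) (nat_lit 0x2130122222023333111010110) (Net.cons (nat_lit 4) (nat_lit 0xd000807070b040809020003) (Net.cons (nat_lit 8) (nat_lit 0xac0091006b0014008c0001) (Net.cons (nat_lit 16) (nat_lit 0xd40b0000665900000000) (Net.cons (nat_lit 32) (nat_lit 1765934736) (Net.cons (nat_lit 64) (nat_lit 0xe7fd2cf9d) (Net.cons (nat_lit 32) (nat_lit 0x3000000004d520b47) (Net.cons (nat_lit 16) (nat_lit 0x5ea30000ec300000a4cb) (Net.cons (nat_lit 8) (nat_lit 0xf6006c001200af005c0059) (Net.cons (nat_lit 4) (nat_lit 0x20804010e0b030c0a0f0a05) (Net.cons (nat_lit 2) (nat_lit 0x1211111322201101311212330) (Net.cons (nat_lit 1) (nat_lit 0x1454050445514404510441414) Net.nil)))))))))))))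
noncomputable def X1_2 : Net := (Net.cons (nat_lit 1) (nat_lit 0x411504515105110110114500) (Net.cons (nat_lit 2) (nat_lit 0x1023332123010010103310320) (Net.cons (nat_lit 4) (nat_lit 0x40601030603060008020a02) (Net.cons (nat_lit 8) (nat_lit 0x4400ee006a000e00760006) (Net.cons (nat_lit 16) (nat_lit 0x45000000041000000002) (Net.cons (nat_lit 32) (nat_lit 0x2000000003181a480) (Net.cons (nat_lit 64) (nat_lit 0xf3393ef89) (Net.cons (nat_lit 32) (nat_lit 0xc00000000e92ec218) (Net.cons (nat_lit 16) (nat_lit 0xcec30000a09300007389) (Net.cons (nat_lit 8) (nat_lit 0x8b00ec00bd00aa001e0005) (Net.cons (nat_lit 4) (nat_lit 0x70e01080805020e01090a0a) (Net.cons (nat_lit 2) (nat_lit 0x202302110012010210333102) (Net.cons (nat_lit 1) (nat_lit 0x55450014444514514110101) Net.nil)))))))))))))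
noncomputable def X1_3 : Net := (Net.cons (nat_lit 1) (nat_lit 0x11450111100041440411000) (Net.cons (nat_lit 2) (nat_lit 0x3102323001000130010312300) (Net.cons (nat_lit 4) (nat_lit 0x90909090e0e040403050a03) (Net.cons (nat_lit 8) (nat_lit 0x300eb00ba009600f30004) (Net.cons (nat_lit 16) (nat_lit 0x82980000c78300000000) (Net.cons (nat_lit 32) (nat_lit 0x80000000010ec8830) (Net.cons (nat_lit 64) (nat_lit 0x514efcab8) (Net.cons (nat_lit 32) (nat_lit 0xb00000000aaa4cd2a) (Net.cons (nat_lit 16) (nat_lit 0x32400000d9500000126b) (Net.cons (nat_lit 8) (nat_lit 0x49005100a300510046001d) (Net.cons (nat_lit 4) (nat_lit 0x40e0309030b0e0803060900) (Net.cons (nat_lit 2) (nat_lit 0x232301012001103321330031) (Net.cons (nat_lit 1) (nat_lit 0x440050051144111054501) Net.nil)))))))))))))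
noncomputable def X1_4 : Net := (Net.cons (nat_lit 1) (nat_lit 0x4414404010005004141010400) (Net.cons (nat_lit 2) (nat_lit 0x20030312020302233003200) (Net.cons (nat_lit 4) (nat_lit 0x802080a06040a0302040000) (Net.cons (nat_lit 8) (nat_lit 0x2e000200a000200060000c) (Net.cons (nat_lit 16) (nat_lit 0x5c1200000a0900000000) (Net.cons (nat_lit 32) (nat_lit 0x6000000002a845000) (Net.cons (nat_lit 64) (nat_lit 0x23a845e94) (Net.cons (nat_lit 32) (nat_lit 0xe00000000b40cea81) (Net.cons (nat_lit 16) (nat_lit 0xc693000011b900005ba2) (Net.cons (nat_lit 8) (nat_lit 0x2e007400e000200060000c) (Net.cons (nat_lit 4) (nat_lit 0x8020e0c06040a0702040000) (Net.cons (nat_lit 2) (nat_lit 0x20030312022302233103200) (Net.cons (nat_lit 1) (nat_lit 0x4414444410005404141010400) Net.nil)))))))))))))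
noncomputable def X1_5 : Net := (Net.cons (nat_lit 1) (nat_lit 0x4000000514000114444050040) (Net.cons (nat_lit 2) (nat_lit 0x330113211303231230201120) (Net.cons (nat_lit 4) (nat_lit 0xd0c05070005090706020002) (Net.cons (nat_lit 8) (nat_lit 0x800a40096002800050008) (Net.cons (nat_lit 16) (nat_lit 0xf1a000004c0000000004) (Net.cons (nat_lit 32) (nat_lit 0x40000000031a04e10) (Net.cons (nat_lit 64) (nat_lit 0xabda84e1c) (Net.cons (nat_lit 32) (nat_lit 0x40000000079e46750) (Net.cons (nat_lit 16) (nat_lit 0xf9ed0000567100001a7f) (Net.cons (nat_lit 8) (nat_lit 0x3a00b40086007c0047008a) (Net.cons (nat_lit 4) (nat_lit 0xd0c070700070b0706020402) (Net.cons (nat_lit 2) (nat_lit 0x330113211303231230201120) (Net.cons (nat_lit 1) (nat_lit 0x4000000514000114444050040) Net.nil)))))))))))))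
noncomputable def X1_6 : Net := (Net.cons (nat_lit 1) (nat_lit 0x4145514545515511115055410) (Net.cons (nat_lit 2) (nat_lit 0x1011203322232230330201200) (Net.cons (nat_lit 4) (nat_lit 0x208020d060c09010b0c0508) (Net.cons (nat_lit 8) (nat_lit 0x3b0012003a005000540000) (Net.cons (nat_lit 16) (nat_lit 0x72ec0000900500000001) (Net.cons (nat_lit 32) (nat_lit 0x9000000000585f000) (Net.cons (nat_lit 64) (nat_lit 0x2bdaff66b) (Net.cons (nat_lit 32) (nat_lit 0x6000000004038f65f) (Net.cons (nat_lit 16) (nat_lit 0x20120000d30d0000e394) (Net.cons (nat_lit 8) (nat_lit 0x4e008a0005000a00cf002a) (Net.cons (nat_lit 4) (nat_lit 0xa0d0a0a000e020e0f0e0d01) (Net.cons (nat_lit 2) (nat_lit 0x2210010233303213133033112) (Net.cons (nat_lit 1) (nat_lit 0x1540504041541110541551114) Net.nil)))))))))))))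
noncomputable def X1_7 : Net := (Net.cons (nat_lit 1) (nat_lit 0x4500445515544451414400110) (Net.cons (nat_lit 2) (nat_lit 0x3200033211202023030220000) (Net.cons (nat_lit 4) (nat_lit 0xd0f000f0c05010608030b05) (Net.cons (nat_lit 8) (nat_lit 0x4e00b500e500b000220004) (Net.cons (nat_lit 16) (nat_lit 0x410a00001b030000000d) (Net.cons (nat_lit 32) (nat_lit 2483030016) (Net.cons (nat_lit 64) (nat_lit 0xff5dabe2f) (Net.cons (nat_lit 32) (nat_lit 0xf00000000027151ff) (Net.cons (nat_lit 16) (nat_lit 0xc3f90000b5970000b86b) (Net.cons (nat_lit 8) (nat_lit 0x2100a7005400c300f400c1) (Net.cons (nat_lit 4) (nat_lit 0xa01050d06060f0d0e080103) (Net.cons (nat_lit 2) (nat_lit 0x233223212331131132321131) (Net.cons (nat_lit 1) (nat_lit 0x1415510140511514040150451) Net.nil)))))))))))))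
noncomputable def X1_8 : Net := (Net.cons (nat_lit 1) (nat_lit 0x5510441101454411415510104) (Net.cons (nat_lit 2) (nat_lit 0x1210133212321121013001000) (Net.cons (nat_lit 4) (nat_lit 0x1080d0f070102030e080a) (Net.cons (nat_lit 8) (nat_lit 0xe00088000500d400000009) (Net.cons (nat_lit 16) (nat_lit 0xa9410000f9d600000002) (Net.cons (nat_lit 32) (nat_lit 67911808) (Net.cons (nat_lit 64) (nat_lit 0xbceef63b0) (Net.cons (nat_lit 32) (nat_lit 0xb00000000d0596ba0) (Net.cons (nat_lit 16) (nat_lit 0x727200002b1c000042ba) (Net.cons (nat_lit 8) (nat_lit 0x9c00f300ce00310045002c) (Net.cons (nat_lit 4) (nat_lit 0xe0d030605030e0d0c0b0a03) (Net.cons (nat_lit 2) (nat_lit 0x3120111000001321031020220) (Net.cons (nat_lit 1) (nat_lit 0x1001515151454411415540004) Net.nil)))))))))))))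
noncomputable def X1_9 : Net := (Net.cons (nat_lit 1) (nat_lit 0x1544500451500041401401000) (Net.cons (nat_lit 2) (nat_lit 0x3000210210221220110131300) (Net.cons (nat_lit 4) (nat_lit 0x70c090f050c070508000400) (Net.cons (nat_lit 8) (nat_lit 0x7000d0004500f200090000) (Net.cons (nat_lit 16) (nat_lit 0x97430000904100000009) (Net.cons (nat_lit 32) (nat_lit 0x800000000113600c0) (Net.cons (nat_lit 64) (nat_lit 0x19b3605c9) (Net.cons (nat_lit 32) (nat_lit 0xe00000000157f9af0) (Net.cons (nat_lit 16) (nat_lit 0xc7530000c0510000600d) (Net.cons (nat_lit 8) (nat_lit 0xe000c0005500e200090010) (Net.cons (nat_lit 4) (nat_lit 0x70c090f070c070508010400) (Net.cons (nat_lit 2) (nat_lit 0x3000230210221222110131300) (Net.cons (nat_lit 1) (nat_lit 0x1544500551500041401401000) Net.nil)))))))))))))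
noncomputable def X1_10 : Net := (Net.cons (nat_lit 1) (nat_lit 0x5115450400044150004041040) (Net.cons (nat_lit 2) (nat_lit 0x2231231303033113203211300) (Net.cons (nat_lit 4) (nat_lit 0x10304040e04040409040307) (Net.cons (nat_lit 8) (nat_lit 0x58008100060054002d000a) (Net.cons (nat_lit 16) (nat_lit 0x802a00002c2600000001) (Net.cons (nat_lit 32) (nat_lit 0xb0000000046fe2800) (Net.cons (nat_lit 64) (nat_lit 4294847851) (Net.cons (nat_lit 32) (nat_lit 0xe000000007d351acc) (Net.cons (nat_lit 16) (nat_lit 0x802e000051ce00003935) (Net.cons (nat_lit 8) (nat_lit 0x3b008700470058003d007c) (Net.cons (nat_lit 4) (nat_lit 0x503000e060f0004090e010f) (Net.cons (nat_lit 2) (nat_lit 0x3201020013021131303200133) (Net.cons (nat_lit 1) (nat_lit 0x1151115541550044001101005) Net.nil)))))))))))))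
noncomputable def X1_11 : Net := (Net.cons (nat_lit 1) (nat_lit 0x5011154401541140440010140) (Net.cons (nat_lit 2) (nat_lit 0x2323332211030330002102000) (Net.cons (nat_lit 4) (nat_lit 0x6090c040905090e0c050c) (Net.cons (nat_lit 8) (nat_lit 0xe20040002b007d00410001) (Net.cons (nat_lit 16) (nat_lit 0x4ae6000000f100000006) (Net.cons (nat_lit 32) (nat_lit 0xa0000000011109d20) (Net.cons (nat_lit 64) (nat_lit 0x9f1dadf36) (Net.cons (nat_lit 32) (nat_lit 0x6000000009fad7c64) (Net.cons (nat_lit 16) (nat_lit 0x3e71000038ff0000da80) (Net.cons (nat_lit 8) (nat_lit 0x680047004500d500e40040) (Net.cons (nat_lit 4) (nat_lit 0xa070f00010f0c0c00010309) (Net.cons (nat_lit 2) (nat_lit 0x3120130303130133231330303) (Net.cons (nat_lit 1) (nat_lit 0x5454055411041055555140144) Net.nil)))))))))))))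
noncomputable def X1_12 : Net := (Net.cons (nat_lit 1) (nat_lit 0x1544150045444010000500) (Net.cons (nat_lit 2) (nat_lit 0x32321221112230021202000) (Net.cons (nat_lit 4) (nat_lit 0x901040a020802030a030000) (Net.cons (nat_lit 8) (nat_lit 0xd1001300170068005c0000) (Net.cons (nat_lit 16) (nat_lit 0x6171000004de0000000c) (Net.cons (nat_lit 32) (nat_lit 1108050112) (Net.cons (nat_lit 64) (nat_lit 0xdf22b85d8) (Net.cons (nat_lit 32) (nat_lit 0x20000000046cec0f2) (Net.cons (nat_lit 16) (nat_lit 0x696000002cde0000111d) (Net.cons (nat_lit 8) (nat_lit 0xd5001300170078004f0088) (Net.cons (nat_lit 4) (nat_lit 0x800050a030802030b020101) (Net.cons (nat_lit 2) (nat_lit 0x32321231112230021202000) (Net.cons (nat_lit 1) (nat_lit 0x1544150045444010000500) Net.nil)))))))))))))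
noncomputable def X1_13 : Net := (Net.cons (nat_lit 1) (nat_lit 0x1441555441100010044000500) (Net.cons (nat_lit 2) (nat_lit 0x3302311030131120103110100) (Net.cons (nat_lit 4) (nat_lit 0x309090d0704030403050206) (Net.cons (nat_lit 8) (nat_lit 0x8200a50067002800120001) (Net.cons (nat_lit 16) (nat_lit 0x14c20000352100000002) (Net.cons (nat_lit 32) (nat_lit 0x20000000010e34900) (Net.cons (nat_lit 64) (nat_lit 0x917e37b93) (Net.cons (nat_lit 32) (nat_lit 0x60000000028775cb0) (Net.cons (nat_lit 16) (nat_lit 0x9742000075e1000053d2) (Net.cons (nat_lit 8) (nat_lit 0x9c00f50037007a00020008) (Net.cons (nat_lit 4) (nat_lit 0x209080d0705030403050307) (Net.cons (nat_lit 2) (nat_lit 0x3302311030131120103110100) (Net.cons (nat_lit 1) (nat_lit 0x1041155441100010044001500) Net.nil)))))))))))))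
noncomputable def X1_14 : Net := (Net.cons (nat_lit 1) (nat_lit 0x1455105551051045101141110) (Net.cons (nat_lit 2) (nat_lit 0x1221233213311020201031000) (Net.cons (nat_lit 4) (nat_lit 0x5040d0d01070804010f0402) (Net.cons (nat_lit 8) (nat_lit 0xfc00990037002800050001) (Net.cons (nat_lit 16) (nat_lit 0xc0dd0000b04c00000009) (Net.cons (nat_lit 32) (nat_lit 0x100000000ccc155b0) (Net.cons (nat_lit 64) (nat_lit 0xedde1d7b9) (Net.cons (nat_lit 32) (nat_lit 0xd000000002a69d6ee) (Net.cons (nat_lit 16) (nat_lit 0xc1b1000042e30000ee08) (Net.cons (nat_lit 8) (nat_lit 0xb000b6000e0009004a0032) (Net.cons (nat_lit 4) (nat_lit 0x706030f0f06040607020609) (Net.cons (nat_lit 2) (nat_lit 0x310202031223021312121222) (Net.cons (nat_lit 1) (nat_lit 0x5514044455141401410004005) Net.nil)))))))))))))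
noncomputable def X1_15 : Net := (Net.cons (nat_lit 1) (nat_lit 0x545550551045011451101004) (Net.cons (nat_lit 2) (nat_lit 0x1203120212003023000200030) (Net.cons (nat_lit 4) (nat_lit 0x80807040c000a0600000a02) (Net.cons (nat_lit 8) (nat_lit 0x73005200ba00c2000c0008) (Net.cons (nat_lit 16) (nat_lit 0xcb29000018700000000e) (Net.cons (nat_lit 32) (nat_lit 2703431744) (Net.cons (nat_lit 64) (nat_lit 0xab5e77eda) (Net.cons (nat_lit 32) (nat_lit 0xc000000004b7f096f) (Net.cons (nat_lit 16) (nat_lit 0x7da00000be5c0000938e) (Net.cons (nat_lit 8) (nat_lit 0xa3003f007d0039003a00cd) (Net.cons (nat_lit 4) (nat_lit 0xf03060a0405000d0a0c0d00) (Net.cons (nat_lit 2) (nat_lit 0x1030021002300111132102200) (Net.cons (nat_lit 1) (nat_lit 0x40404001450555011445144) Net.nil)))))))))))))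
noncomputable def X1_16 : Net := (Net.cons (nat_lit 1) (nat_lit 0x144445415541151540145400) (Net.cons (nat_lit 2) (nat_lit 0x2113333000123332001030020) (Net.cons (nat_lit 4) (nat_lit 0x40f0b03030c00040e090900) (Net.cons (nat_lit 8) (nat_lit 0xe600720078002200d10008) (Net.cons (nat_lit 16) (nat_lit 0xfd8700009c2300000004) (Net.cons (nat_lit 32) (nat_lit 0x10000000099100020) (Net.cons (nat_lit 64) (nat_lit 4260956847) (Net.cons (nat_lit 32) (nat_lit 0xc0000000035647adb) (Net.cons (nat_lit 16) (nat_lit 0xc5af00007d0d0000696b) (Net.cons (nat_lit 8) (nat_lit 0xc20093005c0006001d0088) (Net.cons (nat_lit 4) (nat_lit 0xa0a010a0f0703010e070900) (Net.cons (nat_lit 2) (nat_lit 0x3232311000020210000131002) (Net.cons (nat_lit 1) (nat_lit 0x444045015414141101455401) Net.nil)))))))))))))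
noncomputable def X1_17 : Net := (Net.cons (nat_lit 1) (nat_lit 0x4105514555554001051014404) (Net.cons (nat_lit 2) (nat_lit 0x2013113012001303002130110) (Net.cons (nat_lit 4) (nat_lit 0x4000109020a000d03010001) (Net.cons (nat_lit 8) (nat_lit 0x44001b0029001800080006) (Net.cons (nat_lit 16) (nat_lit 0x190000000a0000000000) (Net.cons (nat_lit 32) (nat_lit 0xa0000000008800000) (Net.cons (nat_lit 64) (nat_lit 0x53ce81f3a) (Net.cons (nat_lit 32) (nat_lit 0xb0000000007bd9897) (Net.cons (nat_lit 16) (nat_lit 0x3d400000543e00001ced) (Net.cons (nat_lit 8) (nat_lit 0x7400c90004009b00f000c3) (Net.cons (nat_lit 4) (nat_lit 0x50801000d00050503070808) (Net.cons (nat_lit 2) (nat_lit 0x1003123313301303232121230) (Net.cons (nat_lit 1) (nat_lit 0x5105505510455515001400410) Net.nil)))))))))))))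
noncomputable def X1_18 : Net := (Net.cons (nat_lit 1) (nat_lit 0x5411411415050505100415540) (Net.cons (nat_lit 2) (nat_lit 0x3233220303332130231030100) (Net.cons (nat_lit 4) (nat_lit 0xe0a05050d0e020202050a00) (Net.cons (nat_lit 8) (nat_lit 0x3400d300b7005e0002000a) (Net.cons (nat_lit 16) (nat_lit 0xd54a0000c8a200000009) (Net.cons (nat_lit 32) (nat_lit 110229600) (Net.cons (nat_lit 64) (nat_lit 0xf0eb9f9fb) (Net.cons (nat_lit 32) (nat_lit 0x900000000ab40b6ed) (Net.cons (nat_lit 16) (nat_lit 0x92c30000686f0000888b) (Net.cons (nat_lit 8) (nat_lit 0x6600e8004500c000bf008e) (Net.cons (nat_lit 4) (nat_lit 0xd0706050c0c060008020201) (Net.cons (nat_lit 2) (nat_lit 0x20130331131111330220001) (Net.cons (nat_lit 1) (nat_lit 0x5504450005011111401505145) Net.nil)))))))))))))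
noncomputable def X1_19 : Net := (Net.cons (nat_lit 1) (nat_lit 0x1001144110141014114051540) (Net.cons (nat_lit 2) (nat_lit 0x2333122322001312002310200) (Net.cons (nat_lit 4) (nat_lit 0xe02070e050b050400030c0e) (Net.cons (nat_lit 8) (nat_lit 0x5700c0003000d900910002) (Net.cons (nat_lit 16) (nat_lit 0x290a00001bc100000004) (Net.cons (nat_lit 32) (nat_lit 1343530128) (Net.cons (nat_lit 64) (nat_lit 0xa59bee6ba) (Net.cons (nat_lit 32) (nat_lit 0xf000000005761fc1a) (Net.cons (nat_lit 16) (nat_lit 0xd8fa0000419500005bf0) (Net.cons (nat_lit 8) (nat_lit 0x80060009100230031005d) (Net.cons (nat_lit 4) (nat_lit 0xb0c0c0e050f0501000c030b) (Net.cons (nat_lit 2) (nat_lit 0x201100222120330023133) (Net.cons (nat_lit 1) (nat_lit 0x1001144110141014114051540) Net.nil)))))))))))))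
noncomputable def X1_20 : Net := (Net.cons (nat_lit 1) (nat_lit 0x5041004505040104101451150) (Net.cons (nat_lit 2) (nat_lit 0x2133202001000001131320000) (Net.cons (nat_lit 4) (nat_lit 0x20a090f01070208040f0403) (Net.cons (nat_lit 8) (nat_lit 0xd500980046007e00000004) (Net.cons (nat_lit 16) (nat_lit 0xe0350000859600000008) (Net.cons (nat_lit 32) (nat_lit 0x200000000194f4490) (Net.cons (nat_lit 64) (nat_lit 0xafd5f47bd) (Net.cons (nat_lit 32) (nat_lit 0x500000000f041357e) (Net.cons (nat_lit 16) (nat_lit 0xd19500008e800000d361) (Net.cons (nat_lit 8) (nat_lit 0x19005c000f008a00bc00ca) (Net.cons (nat_lit 4) (nat_lit 0xa0a07070e0a04010e0e0e0c) (Net.cons (nat_lit 2) (nat_lit 0x30123320230112001323112) (Net.cons (nat_lit 1) (nat_lit 0x4504015405101150115454414) Net.nil)))))))))))))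
noncomputable def X1_21 : Net := (Net.cons (nat_lit 1) (nat_lit 0x1111445004111051415101410) (Net.cons (nat_lit 2) (nat_lit 0x2203133321220210133211110) (Net.cons (nat_lit 4) (nat_lit 0x50b050807020c0c02020300) (Net.cons (nat_lit 8) (nat_lit 0x5300f4009500a100020004) (Net.cons (nat_lit 16) (nat_lit 0x8af4000022060000000c) (Net.cons (nat_lit 32) (nat_lit 0x60000000000a85010) (Net.cons (nat_lit 64) (nat_lit 0x3d5aa5b5d) (Net.cons (nat_lit 32) (nat_lit 0x9000000001d4c2bda) (Net.cons (nat_lit 16) (nat_lit 0x8aa8000050160000bb60) (Net.cons (nat_lit 8) (nat_lit 0xc100e300bc003700430061) (Net.cons (nat_lit 4) (nat_lit 0x6020c070f0e0a07090c030c) (Net.cons (nat_lit 2) (nat_lit 0x3211300223013100330303201) (Net.cons (nat_lit 1) (nat_lit 0x1055040505111054050554054) Net.nil)))))))))))))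
noncomputable def X1_22 : Net := (Net.cons (nat_lit 1) (nat_lit 0x545450451515504000010014) (Net.cons (nat_lit 2) (nat_lit 0x1000230331233021201000000) (Net.cons (nat_lit 4) (nat_lit 0x6090006020c0f0300000100) (Net.cons (nat_lit 8) (nat_lit 0x6c00200089000400000000) (Net.cons (nat_lit 16) (nat_lit 0x20600000704d00000000) (Net.cons (nat_lit 32) (nat_lit 730010464) (Net.cons (nat_lit 64) (nat_lit 0xc7ba33360) (Net.cons (nat_lit 32) (nat_lit 0x300000000eb831320) (Net.cons (nat_lit 16) (nat_lit 0xa37c0000371d00004753) (Net.cons (nat_lit 8) (nat_lit 0x2c00e400c9004c0041005c) (Net.cons (nat_lit 4) (nat_lit 0x6090402060c0f0700010001) (Net.cons (nat_lit 2) (nat_lit 0x1000230331233021200101121) (Net.cons (nat_lit 1) (nat_lit 0x145440551515504000050014) Net.nil)))))))))))))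
noncomputable def X1_23 : Net := (Net.cons (nat_lit 1) (nat_lit 0x104504104404011504040014) (Net.cons (nat_lit 2) (nat_lit 0x202300313102023020323310) (Net.cons (nat_lit 4) (nat_lit 0xc050e0c03010b0f0d000009) (Net.cons (nat_lit 8) (nat_lit 0xae009400d40006005a0005) (Net.cons (nat_lit 16) (nat_lit 0x890b00004b4f00000006) (Net.cons (nat_lit 32) (nat_lit 0x90000000052381040) (Net.cons (nat_lit 64) (nat_lit 0xe723bf9c3) (Net.cons (nat_lit 32) (nat_lit 0x700000000c7fe7ae9) (Net.cons (nat_lit 16) (nat_lit 0x259b000048760000a850) (Net.cons (nat_lit 8) (nat_lit 0xe800ae00a700d50026007c) (Net.cons (nat_lit 4) (nat_lit 0xd0a0d060c000304040e060d) (Net.cons (nat_lit 2) (nat_lit 0x2032233000320022111130022) (Net.cons (nat_lit 1) (nat_lit 0x4111005114104410440150504) Net.nil)))))))))))))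
noncomputable def X1_24 : Net := (Net.cons (nat_lit 1) (nat_lit 0x4151545054450105404151440) (Net.cons (nat_lit 2) (nat_lit 0x3012201033032120030202100) (Net.cons (nat_lit 4) (nat_lit 0xe000d0e030d0a0609080002) (Net.cons (nat_lit 8) (nat_lit 0x4700e800c6003d00190000) (Net.cons (nat_lit 16) (nat_lit 0x5cd2000010dc00000007) (Net.cons (nat_lit 32) (nat_lit 0x100000000e0025c00) (Net.cons (nat_lit 64) (nat_lit 0xef0c6fe13) (Net.cons (nat_lit 32) (nat_lit 0xc00000000fca60f54) (Net.cons (nat_lit 16) (nat_lit 0xf4eb00009aeb00006483) (Net.cons (nat_lit 8) (nat_lit 0x69001000d90067000300f5) (Net.cons (nat_lit 4) (nat_lit 0xb07020d00020a0f090a0102) (Net.cons (nat_lit 2) (nat_lit 0x311332012300101331100002) (Net.cons (nat_lit 1) (nat_lit 0x4055140041101455504010441) Net.nil)))))))))))))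
noncomputable def X1 : List Net := [X1_0, X1_1, X1_2, X1_3, X1_4, X1_5, X1_6, X1_7, X1_8, X1_9, X1_10, X1_11, X1_12, X1_13, X1_14, X1_15, X1_16, X1_17, X1_18, X1_19, X1_20, X1_21, X1_22, X1_23, X1_24]
noncomputable def ws : List (List Nat) := [[15, 5, 10, 14, 12, 15], [7, 16, 5, 7, 3, 7, 15, 14, 12, 16, 17]]
noncomputable def W : List (List Nat) := [[3, 1, 4, 1, 4, 4], [2, 4, 2, 3, 3, 2], [8, 5, 8, 5, 8, 8, 8, 6, 7], [8, 6, 7, 5, 5, 7], [12, 12, 9, 11, 10], [10, 10, 11, 11, 9, 11], [2, 5, 4, 7, 7, 10, 7, 12, 12, 15, 11, 15, 13, 15], [6, 3, 3, 9, 12, 8, 12, 12], [10, 5, 4, 6, 7, 6, 7, 11, 13, 15], [5, 3, 1, 15, 12, 8, 15, 10, 11, 13, 15, 13, 15], [11, 2, 7, 5, 7, 15, 10], [10, 2, 7, 5, 7, 9, 11, 15, 13, 15], [4, 4, 2, 8, 8, 5, 8, 12, 12, 13, 15, 13], [1, 5, 4, 5, 9, 7, 10, 15, 11, 13, 15], [12, 3, 2, 6, 8, 11, 10, 13, 15, 13], [7, 4, 1, 12, 8, 12, 12, 13, 15, 13], [1, 8, 13, 10, 8, 9, 11, 15, 13], [11, 3, 8, 13], [11,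 4, 10, 8, 15, 10, 11, 13, 15, 13], [12, 15, 4, 15, 8, 6, 8, 12, 15, 11, 15], [12, 3, 9, 7, 15, 10], [15, 5, 4, 12, 12, 8, 10, 10, 13, 15], [2, 7, 5, 7, 12, 10, 13, 15, 13, 15], [2, 7, 13, 7, 9, 11, 9, 15, 13], [11, 7, 11, 13, 15]]
noncomputable def c : List Lvl := [⟨(nat_lit 17), [[(nat_lit 1)],
  [(nat_lit 3)]], (nat_lit 8)⟩,
  ⟨(nat_lit 72), [[(nat_lit 5)],
  [(nat_lit 7)]], (nat_lit 8)⟩,
  ⟨(nat_lit 96), [[(nat_lit 9)],
  [(nat_lit 11)]], (nat_lit 4)⟩,
  ⟨(nat_lit 40), [[(nat_lit 13)],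
  [(nat_lit 15)]], (nat_lit 2)⟩,
  ⟨(nat_lit 8), [[(nat_lit 15)]], (nat_lit 1)⟩]
noncomputable def v : List Nat := []
noncomputable def Ss : List Nat := [79228162514264337593544081664, 79228167236630820463189164032, 1099511628032]
noncomputable def R : Nat := 1606938044258990275541962092342430253122431223184289538506753
noncomputable def V : Nat := 1766847065189860902547351508880389562450555218086928971729960884922089728
noncomputable def e : Fisch.Sm := eqM (lapp X X1) R V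
noncomputable def gs : List (List Nat) := [[17], [19], [21], [23], [25], [27], [29], [31]]
noncomputable def T_0 : List PcS := [⟨2, [3, 7, 9, 11, 13], []⟩, ⟨2, [], [[1, 5, 11]]⟩, ⟨2, [7, 9], [[5, 9], [7, 9]]⟩, ⟨2, [], [[1], [1, 3], [3, 5]]⟩]
noncomputable def T_1 : List PcS := [⟨2, [5], [[1, 3, 5], [3, 5], [3], [5]]⟩, ⟨2, [3], [[1, 3], [1], [], [], [3]]⟩, ⟨2, [], [[1], [], [], [1], [], []]⟩, ⟨2, [], [[], [], [], [], [], [], []]⟩]
noncomputable def T : List PcS := lapp T_0 (T_1)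
noncomputable def cS : List Lvl := [⟨0, [[27], [17], [19], [21], [23]], 2⟩, ⟨1, [[23, 25, 31], [17, 19, 21, 27, 31]], 1⟩]
noncomputable def uS : List (List Nat) := [[11], [1], [3], [5], [7], [7, 9, 15], [1, 3, 5, 11, 15]]
noncomputable def Y0 : List (List Nat) := [[]]
noncomputable def E0 : List Fisch.Ent := [.split [⟨[], 0, []⟩, ⟨[], 1, []⟩]]
noncomputable def Y1 : List (List Nat) := [[], [1]]
noncomputable def E1 : List Fisch.Ent := [.split [⟨[], 0, []⟩, ⟨[], 1, []⟩], .split [⟨[], 2, []⟩, ⟨[], 3, []⟩]]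
noncomputable def Y2 : List (List Nat) := [[], [3], [1], [1, 3]]
noncomputable def E2 : List Fisch.Ent := [.split [⟨[], 0, []⟩, ⟨[], 1, []⟩], .merge [1] 1 [3, 9] ⟨[], 2, []⟩, .dead 1 [3, 5, 7, 9], .merge [1] 1 [3, 9] ⟨[], 3, []⟩]
noncomputable def Y3 : List (List Nat) := [[], [5], [3], [1, 3]]
noncomputable def E3 : List Fisch.Ent := [.split [⟨[], 0, []⟩, ⟨[], 1, []⟩], .split [⟨[], 2, []⟩, ⟨[], 3, []⟩], .split [⟨[], 4, []⟩, ⟨[], 5, []⟩], .split [⟨[], 6, []⟩, ⟨[], 7, []⟩]]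
noncomputable def Y4 : List (List Nat) := [[], [7], [5], [5, 7], [3], [3, 7], [1, 3], [1, 3, 7]]
noncomputable def E4 : List Fisch.Ent := [.split [⟨[], 0, []⟩, ⟨[], 1, []⟩], .merge [1] 1 [] ⟨[], 2, []⟩, .split [⟨[], 3, []⟩, ⟨[], 4, []⟩], .merge [1] 1 [1] ⟨[], 5, []⟩, .merge [7] 1 [1, 5] ⟨[], 6, []⟩, .dead 1 [1, 5], .split [⟨[], 7, []⟩, ⟨[], 8, []⟩], .split [⟨[], 9, []⟩, ⟨[], 10, []⟩]]
noncomputable def Y5 : List (List Nat) := [[], [9], [7], [5], [5, 9], [5, 7], [3], [1, 3], [1, 3, 9], [1, 3, 7], [1, 3, 7, 9]]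
noncomputable def E5 : List Fisch.Ent := [.split [⟨[], 0, []⟩, ⟨[], 1, []⟩], .merge [1] 1 [1, 3] ⟨[], 2, []⟩, .merge [5] 1 [1] ⟨[], 3, []⟩, .merge [1] 1 [3] ⟨[], 4, []⟩, .merge [7] 1 [1] ⟨[], 5, []⟩, .dead 1 [3], .split [⟨[], 6, []⟩, ⟨[], 7, []⟩], .dead 1 [], .merge [5] 1 [] ⟨[], 8, []⟩, .dead 1 [], .merge [9] 1 [3] ⟨[], 9, []⟩]
noncomputable def Y6 : List (List Nat) := [[], [11], [9], [7], [5], [5, 9], [3], [3, 11], [1, 3, 9], [1, 3, 7, 9]]
noncomputable def E6 : List Fisch.Ent := [.split [⟨[], 0, []⟩, ⟨[], 1, []⟩], .merge [3] 1 [] ⟨[], 2, []⟩, .merge [5] 1 [] ⟨[], 3, []⟩, .split [⟨[], 4, []⟩, ⟨[], 5, []⟩], .dead 1 [1], .merge [1] 1 [] ⟨[], 6, []⟩, .merge [11] 1 [] ⟨[], 7, []⟩, .dead 1 [1], .split [⟨[], 8, []⟩, ⟨[], 9, []⟩], .merge [5] 1 [1] ⟨[], 10, []⟩]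
noncomputable def Y7 : List (List Nat) := [[], [13], [11], [9], [7], [7, 13], [5, 9], [3], [1, 3, 9], [1, 3, 9, 13], [1, 3, 7, 9]]
noncomputable def E7 : List Fisch.Ent := [.split [⟨[], 0, []⟩, ⟨[], 1, []⟩], .merge [1] 1 [] ⟨[], 2, []⟩, .dead 1 [], .dead 1 [], .merge [9] 1 [] ⟨[], 3, []⟩, .dead 1 [], .merge [11] 1 [] ⟨[], 4, []⟩, .merge [5, 11] 1 [] ⟨[], 5, []⟩, .dead 1 [], .merge [11] 1 [] ⟨[], 6, []⟩, .merge [7] 1 [] ⟨[], 7, []⟩]
noncomputable def Y8 : List (List Nat) := [[], [15], [13], [7], [5, 9], [3], [1, 3, 9, 13], [1, 3, 7, 9]]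
noncomputable def a0 : List Nat := [31]
noncomputable def a0T : Tr := (.sym [[1], [3]] (.cons [] 6 48 (.op 4 0 (.focus 0 (.cons [] 0 48 (.base (nat_lit 0x960002209201008861405390a) (.focus 0 (.sym [[5], [7]] (.cons [] 5 2 (.op 4 0 (.focus 0 (.cons [] 0 2 .triv .nil))) .nil)))) .nil))) (.cons [2] 4 0 (.op 5 0 (.and 1 0 (.dead0 0))) .nil)))
noncomputable def a0TK : List (List Nat) := [[33], [35], [10, 11, 15], [13, 11, 11, 13, 15]]
noncomputable def a0TF : List (List Nat) := [[], [1]]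
noncomputable def a0c : List Lvl := [⟨0, [[33], [35]], 6⟩, ⟨1, [[15, 10, 15, 13, 15], [13, 1, 3, 7, 12, 12, 8, 10, 11, 13, 15]], 5⟩, ⟨2, [[2, 11, 4, 9, 7, 9]], 1⟩]
noncomputable def a0q : List (List Nat) := [[23], [25], [27], [29], [31]]
noncomputable def a0u : List (List Nat) := [[7], [9], [11], [13], [15]]
noncomputable def a0v_0 : List (List (List Nat)) := [[[3, 1], [6, 7, 3], [7, 5], [7], [9]], [[1], [7, 1], [6, 1], [5, 3, 1], [9]], [[7], [4, 7, 1], [3], [6, 3, 1], [9]], [[5, 3, 1], [6], [4, 7, 1], [6, 7, 1], [9]]]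
noncomputable def a0v_1 : List (List (List Nat)) := [[[1], [3], [4, 7, 1], [6, 3, 1], [9]]]
noncomputable def a0v : List (List (List Nat)) := lapp a0v_0 (a0v_1)
noncomputable def a0U : Tr := (.op 2 0 (.op 5 0 (.xor 1 0 (.focus 0 (.op 8 0 (.xor 3 0 (.focus 0 (.op 26 0 (.xor 5 0 (.focus 0 (.op 29 0 (.xor 7 0 (.focus 0 (.sym [[1]] (.cons [] 1 1 (.op 28 0 (.focus 0 (.cons [] 0 1 (.focus 9 (.focus 7 (.focus 5 (.focus 3 (.base (nat_lit 0x960002209201008861405390a) (.focus 0 (.op 13 0 (.focus 0 (.op 19 1 (.focus 0 (.op 22 2 (.xor 15 0 (.focus 0 (.cons [] 0 1 (.focus 2 (.op 28 0 (.focus 0 (.cons [] 0 1 (.focus 16 (.focus 7 (.focus 5 (.cons [] 0 1 .triv .nil)))) .nil)))) .nil)))))))))))))) .nil))) (.cons [4] 1 0 (.op 32 0 (.and 1 0 (.dead0 0))) (.cons [1] 1 0 (.op 35 0 (.base (nat_lit 0x97751b7cff8574c87d77d79db) (.and 1 0 (.op 4 1 (.and 1 0 (.op 10 3 (.and 1 0 (.dead 0)))))))) (.cons [3] 1 0 (.op 35 0 (.and 1 0 (.dead0 0)))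 (.cons [15, 4] 1 0 (.op 35 0 (.and 1 0 (.dead0 0))) (.cons [3, 1] 1 0 (.op 35 0 (.and 1 0 (.dead0 0))) (.cons [2, 4] 1 0 (.op 4 0 (.op 16 0 (.op 22 2 (.and 1 0 (.dead0 0))))) (.cons [4, 1] 1 0 (.op 32 0 (.and 1 0 (.dead0 0))) (.cons [3, 2] 1 0 (.op 35 0 (.and 1 0 (.dead0 0))) (.cons [7, 1] 1 0 (.op 32 0 (.and 1 0 (.dead0 0))) (.cons [4, 4] 1 0 (.op 4 0 (.op 10 0 (.op 16 2 (.and 1 0 (.dead0 0))))) (.cons [11, 2] 1 0 (.base (nat_lit 0x97751b7cff8574c87d77d79db) (.and 7 0 (.op 4 1 (.and 1 0 (.op 13 3 (.and 1 0 (.dead 0))))))) (.cons [11, 4] 1 0 (.op 4 0 (.op 10 0 (.op 16 2 (.and 1 0 (.dead0 0))))) (.cons [12, 2] 1 0 (.base (nat_lit 0x97751b7cff8574c87d77d79db) (.and 7 0 (.op 4 1 (.and 1 0 (.op 10 3 (.and 1 0 (.dead 0))))))) (.cons [15, 3, 1] 1 0 (.op 32 0 (.and 1 0 (.dead0 0))) (.cons [12, 15, 4] 1 0 (.op 4 0 (.op 10 0 (.op 19 2 (.and 1 0 (.dead0 0))))) (.cons [6, 1, 3] 1 0 (.op 4 0 (.op 10 0 (.op 16 2 (.and 1 0 (.dead0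 0))))) (.cons [6, 15, 4] 1 0 (.op 4 0 (.op 10 0 (.op 19 2 (.and 1 0 (.dead0 0))))) (.cons [4, 15, 4] 1 0 (.op 4 0 (.op 10 0 (.op 19 2 (.and 1 0 (.dead0 0))))) (.cons [10, 3, 1] 1 0 (.op 4 0 (.op 16 0 (.op 22 2 (.and 1 0 (.dead0 0))))) (.cons [8, 3, 1] 1 0 (.op 4 0 (.op 16 0 (.op 22 2 (.and 1 0 (.dead0 0))))) (.cons [12, 2, 3] 1 0 (.op 4 0 (.op 10 0 (.op 19 2 (.and 1 0 (.dead0 0))))) (.cons [13, 5, 4] 1 0 (.op 4 0 (.op 10 0 (.op 16 2 (.and 1 0 (.dead0 0))))) (.cons [5, 3, 1] 1 0 (.op 4 0 (.op 16 0 (.op 22 2 (.and 1 0 (.dead0 0))))) .nil))))))))))))))))))))))))))))))))))))))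
noncomputable def a0UK : List (List Nat) := [[1, 5, 4, 5, 9, 7, 10, 15, 11, 13, 15]]
noncomputable def a0UF : List (List Nat) := [[], [1], [7], [9], [3], [5], [4], [6], [3, 1], [9, 1], [4, 1], [9, 7], [5, 1], [7, 1], [6, 1], [5, 3], [7, 3], [6, 3], [7, 5], [1, 7], [4, 7]]
noncomputable def a0z : List Lvl := [⟨40, [[31]], 1⟩]
noncomputable def a0w : List (List Nat) := [[9]]
noncomputable def xs : List (List Nat) := [[37], [39], [41]]
noncomputable def w : List Nat := [31]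
noncomputable def xT : Tr := (.op 2 0 (.op 5 0 (.xor 1 0 (.focus 0 (.op 8 0 (.xor 3 0 (.focus 0 (.op 11 0 (.xor 5 0 (.focus 0 (.op 23 0 (.xor 7 0 (.focus 0 (.op 29 0 (.xor 9 0 (.focus 0 (.op 50 0 (.xor 11 0 (.focus 0 (.sym [[1]] (.cons [] 1 1 (.focus 11 (.focus 9 (.focus 7 (.focus 1 (.focus 5 (.focus 3 (.base (nat_lit 0x688ae483007a8b37828808624) (.op 4 0 (.focus 0 (.op 7 1 (.focus 0 (.op 13 2 (.xor 17 0 (.focus 0 (.cons [] 0 1 (.focus 3 (.focus 2 (.xor 19 4 (.focus 0 (.op 19 6 (.focus 0 (.op 10 7 (.focus 0 (.cons [] 0 1 (.focus 9 (.focus 8 (.focus 5 (.xor 23 1 (.focus 0 (.base (nat_lit 0x800000100010000000004) (.focus 0 (.cons [] 0 1 (.focus 21 (.base (nat_lit 4352) (.focus 0 (.cons [] 0 1 .triv .nil)))) .nil)))))))) .nil))))))))) (.cons [3, 3, 1, 4] 0 0 (.op 7 0 (.op 59 0 (.and 1 0 (.dead0 0)))) .nil)))))))))))))))) (.cons [4] 1 0 (.op 7 0 (.op 59 0 (.and 1 0 (.dead0 0)))) (.cons [1] 1 0 (.op 4 0 (.op 59 0 (.and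 1 0 (.dead0 0)))) (.cons [3] 1 0 (.op 47 0 (.and 1 0 (.dead0 0))) (.cons [1, 3] 1 0 (.op 47 0 (.and 1 0 (.dead0 0))) (.cons [5, 4] 1 0 (.op 7 0 (.op 59 0 (.and 1 0 (.dead0 0)))) (.cons [3, 3] 1 0 (.op 4 0 (.op 62 0 (.and 1 0 (.dead0 0)))) (.cons [15, 2] 0 0 (.op 62 0 (.and 1 0 (.dead0 0))) (.cons [3, 1] 1 0 (.op 7 0 (.op 59 0 (.and 1 0 (.dead0 0)))) (.cons [2, 4] 1 0 (.op 59 0 (.and 1 0 (.dead0 0))) (.cons [4, 1] 1 0 (.op 4 0 (.op 62 0 (.and 1 0 (.dead0 0)))) (.cons [4, 4] 1 0 (.op 4 0 (.op 47 0 (.and 1 0 (.dead0 0)))) (.cons [11, 2] 1 0 (.op 59 0 (.and 1 0 (.dead0 0))) (.cons [11, 4] 1 0 (.op 7 0 (.op 59 0 (.and 1 0 (.dead0 0)))) (.cons [10, 3] 1 0 (.op 7 0 (.op 59 0 (.and 1 0 (.dead0 0)))) (.cons [2, 3] 0 0 (.op 4 0 (.and 0 7 (.dead0 0))) (.cons [1, 4] 1 0 (.op 62 0 (.and 1 0 (.dead0 0))) (.cons [7, 3, 3] 1 0 (.op 7 0 (.op 59 0 (.and 1 0 (.dead0 0)))) (.cons [15, 3, 1] 1 0 (.op 62 0 (.and 1 0 (.dead0 0))) (.cons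 [6, 1, 3] 1 0 (.op 4 0 (.and 0 3 (.dead0 0))) (.cons [6, 15, 4] 1 0 (.op 4 0 (.and 0 3 (.dead0 0))) (.cons [4, 15, 4] 1 0 (.op 7 0 (.op 59 0 (.and 1 0 (.dead0 0)))) (.cons [13, 4, 2] 1 0 (.op 4 0 (.and 0 7 (.dead0 0))) (.cons [10, 3, 1] 1 0 (.op 4 0 (.op 59 0 (.and 1 0 (.dead0 0)))) (.cons [9, 15, 4] 1 0 (.op 7 0 (.op 59 0 (.and 1 0 (.dead0 0)))) (.cons [2, 9, 3] 0 0 (.op 62 0 (.and 1 0 (.dead0 0))) (.cons [3, 11, 2] 0 0 (.op 4 0 (.and 0 7 (.dead0 0))) (.cons [5, 3, 1] 1 0 (.op 13 0 (.and 0 3 (.dead0 0))) .nil))))))))))))))))))))))))))))))))))))))))))))))))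
noncomputable def xTK : List (List Nat) := [[31]]
noncomputable def xTF : List (List Nat) := [[], [1], [3], [5], [2], [4], [6], [6, 3], [4, 5], [5, 4], [3, 6], [5, 3], [3, 5], [6, 4], [4, 6], [2, 3, 1], [2, 5, 1], [2, 4, 1], [2, 6, 1], [4, 1, 3], [4, 5, 3]]
noncomputable def cE : List Lvl := [⟨14, [[37], [39], [41]], 4⟩, ⟨58, [[37, 39, 38], [41, 37, 42]], 4⟩]
noncomputable def uE : List (List Nat) := [[1], [3], [5], [1, 3, 2], [5, 1, 6]]
noncomputable def a1 : List Nat := [43]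
noncomputable def a1T : Tr := (.sym [[1], [3]] (.cons [] 4 12 (.base (nat_lit 0x97751b7cff8574c87d77d79db) (.focus 0 (.op 4 0 (.focus 0 (.sym [[5], [7]] (.cons [] 3 1 (.base (nat_lit 0x960002209201008861405390a) (.focus 0 (.base (nat_lit 0x680ac08300320333020800604) (.op 4 0 (.focus 0 (.cons [] 0 1 (.focus 2 (.base (nat_lit 0x808008020) (.op 4 0 (.focus 0 (.cons [] 0 1 (.focus 6 (.base (nat_lit 4352) (.focus 0 (.cons [] 0 1 .triv (.cons [1] 0 0 (.base (nat_lit 32) (.op 4 3 (.and 1 0 (.dead0 0)))) .nil))))) (.cons [1] 0 0 (.base (nat_lit 4352) (.op 4 0 (.and 0 1 (.dead0 0)))) .nil)))))) (.cons [2] 0 0 (.base (nat_lit 0x800000100010000000004) (.op 4 0 (.and 0 4 (.dead0 0)))) (.cons [7, 2] 0 0 (.base (nat_lit 0x2000000000000002000800200) (.op 4 8 (.and 1 0 (.dead0 0)))) (.cons [4, 2] 0 0 (.base (nat_lit 0x800000100010000000004) (.op 4 1 (.and 1 0 (.dead0 0)))) (.cons [2, 2] 0 0 (.base (nat_lit 0x2000000000000002000800200)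 (.op 4 1 (.and 1 0 (.dead0 0)))) .nil)))))))))) (.cons [3] 3 0 (.base (nat_lit 0x960002209201008861405390a) (.op 4 1 (.and 1 0 (.dead0 0)))) (.cons [2, 4] 2 0 (.base (nat_lit 0x20000008000040040200040) (.op 4 1 (.and 1 0 (.dead0 0)))) (.cons [8, 4] 1 0 (.base (nat_lit 0x20000008000040040200040) (.op 4 1 (.and 1 0 (.dead0 0)))) (.cons [11, 4] 2 0 (.base (nat_lit 0x960002209201008861405390a) (.op 4 1 (.and 1 0 (.dead0 0)))) (.cons [8, 2, 3] 3 0 (.base (nat_lit 0x960002209201008861405390a) (.op 4 1 (.and 1 0 (.dead0 0)))) .nil))))))))))) (.cons [2] 5 0 (.base (nat_lit 0x97751b7cff8574c87d77d79db) (.op 4 1 (.and 1 0 (.dead0 0)))) .nil)))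
noncomputable def a1TK : List (List Nat) := [[45], [47], [13, 7, 9, 11, 13, 15], [8, 5, 8, 11, 11]]
noncomputable def a1TF : List (List Nat) := [[], [1]]
noncomputable def a1c : List Lvl := [⟨0, [[45], [47]], 5⟩, ⟨1, [[8, 9, 7, 9, 11, 9], [9, 4, 2, 10, 8, 11]], 2⟩]
noncomputable def a2 : List Nat := [49]
noncomputable def a2T : Tr := (.sym [[1], [3]] (.cons [] 1 336 (.base (nat_lit 0x688ae483007a8b37828808624) (.op 4 0 (.focus 0 (.base (nat_lit 0x97751b7cff8574c87d77d79db) (.focus 0 (.sym [[3], [5]] (.cons [] 6 16 (.focus 2 (.base (nat_lit 0x960002209201008861405390a) (.focus 0 (.sym [[7], [9]] (.cons [] 3 2 (.focus 5 (.focus 4 (.base (nat_lit 0x800000100010000000004) (.focus 0 (.sym [[11]] (.cons [] 1 1 (.focus 3 (.base (nat_lit 4352) (.focus 0 (.op 4 4 (.focus 0 (.cons [] 0 1 .triv .nil)))))) .nil)))))) .nil))))) .nil))))))) (.cons [4] 5 0 (.base (nat_lit 0x97751b7cff8574c87d77d79db) (.op 5 0 (.and 1 0 (.dead0 0))))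 (.cons [1] 4 0 (.op 5 0 (.and 1 0 (.dead0 0))) (.cons [1, 3] 5 0 (.base (nat_lit 0x97751b7cff8574c87d77d79db) (.op 4 1 (.and 1 0 (.dead0 0)))) .nil)))))
noncomputable def a2TK : List (List Nat) := [[51], [53], [5, 10, 8, 11, 10, 13], [15, 10, 11, 15], [12, 13, 15], [13, 15, 13, 15]]
noncomputable def a2TF : List (List Nat) := [[], [1]]
noncomputable def a2c : List Lvl := [⟨0, [[51], [53]], 5⟩, ⟨1, [[10, 7, 10, 15, 11, 13, 15, 13, 15], [2, 7, 7, 10, 7, 15, 11, 13, 15, 13]], 2⟩, ⟨2, [[2, 7, 13, 7, 10, 10, 13, 15, 13, 15]], 1⟩]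
noncomputable def rx : List Nat := [7, 3, 3, 6, 8, 12, 8, 10, 12, 15, 13, 15]
noncomputable def ry : List Nat := [5, 2, 4, 7, 5, 8, 10, 15]
noncomputable def Ts : List To := [⟨[], 0, []⟩, ⟨[], 1, []⟩, ⟨[13, 1, 3, 7, 9, 15, 11, 15], 1, []⟩, ⟨[11, 4, 15, 8, 10, 11, 15, 13, 15], 1, []⟩, ⟨[1, 3, 9, 13], 2, []⟩, ⟨[7, 1, 3, 5, 7, 13, 15], 2, []⟩, ⟨[9, 3, 6, 15, 8, 10, 12], 3, []⟩, ⟨[4, 15, 4, 9, 7, 11, 15, 13], 3, []⟩]

end CF.Q16.J2
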