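import Cfsg.Agent.Fisch.St.Defs
import Cfsg.Agent.Bt.Res

set_option autoImplicit false
set_option maxRecDepth 1000000

namespace CF.Q16.M12

open CF.Comp CF.Fisch CF.Bt

noncomputable def X_0 : Net := (Net.cons (nat_lit 1) (nat_lit 5588288) (Net.cons (nat_lit 2) (nat_lit 131584) (Net.cons (nat_lit 4) (nat_lit 590080) (Net.cons (nat_lit 8) (nat_lit 32) (Net.cons (nat_lit 16) (nat_lit 47) (Net.cons (nat_lit 8) (nat_lit 186) (Net.cons (nat_lit 4) (nat_lit 983052) (Net.cons (nat_lit 2) (nat_lit 1250048) (Net.cons (nat_lit 1) (nat_lit 1049617) Net.nil)))))))))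
noncomputable def X_1 : Net := (Net.cons (nat_lit 1) (nat_lit 5324884) (Net.cons (nat_lit 2) (nat_lit 2171664) (Net.cons (nat_lit 4) (nat_lit 65792) (Net.cons (nat_lit 8) (nat_lit 76) (Net.cons (nat_lit 16) (nat_lit 109) (Net.cons (nat_lit 8) (nat_lit 176) (Net.cons (nat_lit 4) (nat_lit 853510) (Net.cons (nat_lit 2) (nat_lit 1114416) (Net.cons (nat_lit 1) (nat_lit 4460800) Net.nil)))))))))
noncomputable def X : List Net := [X_0, X_1]
noncomputable def X1_0 : Net := (Net.cons (nat_lit 1) (nat_lit 266304) (Net.cons (nat_lit 2) (nat_lit 1187856) (Net.cons (nat_lit 4) (nat_lit 919552) (Net.cons (nat_lit 8) (nat_lit 129) (Net.cons (nat_lit 16) (nat_lit 165) (Net.cons (nat_lit 8) (nat_lit 142) (Net.cons (nat_lit 4) (nat_lit 658702) (Net.cons (nat_lit 2) (nat_lit 3350577) (Net.cons (nat_lit 1) (nat_lit 21589) Net.nil)))))))))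
noncomputable def X1_1 : Net := (Net.cons (nat_lit 1) (nat_lit 5330000) (Net.cons (nat_lit 2) (nat_lit 131856) (Net.cons (nat_lit 4) (nat_lit 918528) (Net.cons (nat_lit 8) (nat_lit 33) (Net.cons (nat_lit 16) (nat_lit 225) (Net.cons (nat_lit 8) (nat_lit 233) (Net.cons (nat_lit 4) (nat_lit 723972) (Net.cons (nat_lit 2) (nat_lit 1254192) (Net.cons (nat_lit 1) (nat_lit 344132) Net.nil)))))))))
noncomputable def X1_2 : Net := (Net.cons (nat_lit 1) (nat_lit 1135700) (Net.cons (nat_lit 2) (nat_lit 2162688) (Net.cons (nat_lit 4) (nat_lit 131328) (Net.cons (nat_lit 8) (nat_lit 96) (Net.cons (nat_lit 16) (nat_lit 112) (Net.cons (nat_lit 8) (nat_lit 67) (Net.cons (nat_lit 4) (nat_lit 920074) (Net.cons (nat_lit 2) (nat_lit 2228257) (Net.cons (nat_lit 1) (nat_lit 4478032) Net.nil)))))))))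
noncomputable def X1_3 : Net := (Net.cons (nat_lit 1) (nat_lit 5570628) (Net.cons (nat_lit 2) (nat_lit 1118736) (Net.cons (nat_lit 4) (nat_lit 68608) (Net.cons (nat_lit 8) (nat_lit 88) (Net.cons (nat_lit 16) (nat_lit 94) (Net.cons (nat_lit 8) (nat_lit 188) (Net.cons (nat_lit 4) (nat_lit 3330) (Net.cons (nat_lit 2) (nat_lit 2106131) (Net.cons (nat_lit 1) (nat_lit 5312852) Net.nil)))))))))
noncomputable def X1_4 : Net := (Net.cons (nat_lit 1) (nat_lit 4352) (Net.cons (nat_lit 2) (nat_lit 205312) (Net.cons (nat_lit 4) (nat_lit 199680) (Net.cons (nat_lit 8) (nat_lit 96) (Net.cons (nat_lit 16) (nat_lit 116) (Net.cons (nat_lit 8) (nat_lit 120) (Net.cons (nat_lit 4) (nat_lit 590848) (Net.cons (nat_lit 2) (nat_lit 205328) (Net.cons (nat_lit 1) (nat_lit 4214785) Net.nil)))))))))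
noncomputable def X1_5 : Net := (Net.cons (nat_lit 1) (nat_lit 5587200) (Net.cons (nat_lit 2) (nat_lit 1184000) (Net.cons (nat_lit 4) (nat_lit 524800) (Net.cons (nat_lit 8) (nat_lit 130) (Net.cons (nat_lit 16) (nat_lit 134) (Net.cons (nat_lit 8) (nat_lit 231) (Net.cons (nat_lit 4) (nat_lit 589825) (Net.cons (nat_lit 2) (nat_lit 12291) (Net.cons (nat_lit 1) (nat_lit 1130517) Net.nil)))))))))
noncomputable def X1_6 : Net := (Net.cons (nat_lit 1) (nat_lit 5570628) (Net.cons (nat_lit 2) (nat_lit 2175232) (Net.cons (nat_lit 4) (nat_lit 68352) (Net.cons (nat_lit 8) (nat_lit 18) (Net.cons (nat_lit 16) (nat_lit 59) (Net.cons (nat_lit 8) (nat_lit 58) (Net.cons (nat_lit 4) (nat_lit 134411) (Net.cons (nat_lit 2) (nat_lit 2306306) (Net.cons (nat_lit 1) (nat_lit 1130577) Net.nil)))))))))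
noncomputable def X1_7 : Net := (Net.cons (nat_lit 1) (nat_lit 70928) (Net.cons (nat_lit 2) (nat_lit 12544) (Net.cons (nat_lit 4) (nat_lit 262912) (Net.cons (nat_lit 8) (nat_lit 180) (Net.cons (nat_lit 16) (nat_lit 183) (Net.cons (nat_lit 8) (nat_lit 147) (Net.cons (nat_lit 4) (nat_lit 461834) (Net.cons (nat_lit 2) (nat_lit 2105873) (Net.cons (nat_lit 1) (nat_lit 5505041) Net.nil)))))))))
noncomputable def X1_8 : Net := (Net.cons (nat_lit 1) (nat_lit 69888) (Net.cons (nat_lit 2) (nat_lit 1257472) (Net.cons (nat_lit 4) (nat_lit 256) (Net.cons (nat_lit 8) (nat_lit 130) (Net.cons (nat_lit 16) (nat_lit 206) (Net.cons (nat_lit 8) (nat_lit 237) (Net.cons (nat_lit 4) (nat_lit 985098) (Net.cons (nat_lit 2) (nat_lit 135987) (Net.cons (nat_lit 1) (nat_lit 5505104) Net.nil)))))))))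
noncomputable def X1_9 : Net := (Net.cons (nat_lit 1) (nat_lit 5243152) (Net.cons (nat_lit 2) (nat_lit 2294032) (Net.cons (nat_lit 4) (nat_lit 590080) (Net.cons (nat_lit 8) (nat_lit 72) (Net.cons (nat_lit 16) (nat_lit 220) (Net.cons (nat_lit 8) (nat_lit 111) (Net.cons (nat_lit 4) (nat_lit 65794) (Net.cons (nat_lit 2) (nat_lit 2294032) (Net.cons (nat_lit 1) (nat_lit 1069333) Net.nil)))))))))
noncomputable def X1_10 : Net := (Net.cons (nat_lit 1) (nat_lit 5587024) (Net.cons (nat_lit 2) (nat_lit 131360) (Net.cons (nat_lit 4) (nat_lit 788480) (Net.cons (nat_lit 8) (nat_lit 9) (Net.cons (nat_lit 16) (nat_lit 217) (Net.cons (nat_lit 8) (nat_lit 77) (Net.cons (nat_lit 4) (nat_lit 525576) (Net.cons (nat_lit 2) (nat_lit 2297890) (Net.cons (nat_lit 1) (nat_lit 1376592) Net.nil)))))))))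
noncomputable def X1_11 : Net := (Net.cons (nat_lit 1) (nat_lit 4265216) (Net.cons (nat_lit 2) (nat_lit 1257472) (Net.cons (nat_lit 4) (nat_lit 133632) (Net.cons (nat_lit 8) (nat_lit 130) (Net.cons (nat_lit 16) (nat_lit 171) (Net.cons (nat_lit 8) (nat_lit 194) (Net.cons (nat_lit 4) (nat_lit 393216) (Net.cons (nat_lit 2) (nat_lit 3346944) (Net.cons (nat_lit 1) (nat_lit 4265216) Net.nil)))))))))
noncomputable def X1_12 : Net := (Net.cons (nat_lit 1) (nat_lit 5570576) (Net.cons (nat_lit 2) (nat_lit 1179664) (Net.cons (nat_lit 4) (nat_lit 655360) (Net.cons (nat_lit 8) (nat_lit 164) (Net.cons (nat_lit 16) (nat_lit 236) (Net.cons (nat_lit 8) (nat_lit 44) (Net.cons (nat_lit 4) (nat_lit 133131) (Net.cons (nat_lit 2) (nat_lit 1179664) (Net.cons (nat_lit 1) (nat_lit 5570576) Net.nil)))))))))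
noncomputable def X1_13 : Net := (Net.cons (nat_lit 1) (nat_lit 69904) (Net.cons (nat_lit 2) (nat_lit 131328) (Net.cons (nat_lit 4) (nat_lit 524288) (Net.cons (nat_lit 8) (nat_lit 192) (Net.cons (nat_lit 16) (nat_lit 200) (Net.cons (nat_lit 8) (nat_lit 76) (Net.cons (nat_lit 4) (nat_lit 68106) (Net.cons (nat_lit 2) (nat_lit 131328) (Net.cons (nat_lit 1) (nat_lit 4280592) Net.nil)))))))))
noncomputable def X1_14 : Net := (Net.cons (nat_lit 1) (nat_lit 5184) (Net.cons (nat_lit 2) (nat_lit 2105904) (Net.cons (nat_lit 4) (nat_lit 132096) (Net.cons (nat_lit 8) (nat_lit 159) (Net.cons (nat_lit 16) (nat_lit 255) (Net.cons (nat_lit 8) (nat_lit 48) (Net.cons (nat_lit 4) (nat_lit 591365) (Net.cons (nat_lit 2) (nat_lit 205075) (Net.cons (nat_lit 1) (nat_lit 4473169) Net.nil)))))))))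
noncomputable def X1_15 : Net := (Net.cons (nat_lit 1) (nat_lit 4211712) (Net.cons (nat_lit 2) (nat_lit 512) (Net.cons (nat_lit 4) (nat_lit 459008) (Net.cons (nat_lit 8) (nat_lit 128) (Net.cons (nat_lit 16) (nat_lit 175) (Net.cons (nat_lit 8) (nat_lit 146) (Net.cons (nat_lit 4) (nat_lit 985608) (Net.cons (nat_lit 2) (nat_lit 2233104) (Net.cons (nat_lit 1) (nat_lit 1377621) Net.nil)))))))))
noncomputable def X1_16 : Net := (Net.cons (nat_lit 1) (nat_lit 344064) (Net.cons (nat_lit 2) (nat_lit 2105888) (Net.cons (nat_lit 4) (nat_lit 787968) (Net.cons (nat_lit 8) (nat_lit 36) (Net.cons (nat_lit 16) (nat_lit 230) (Net.cons (nat_lit 8) (nat_lit 12) (Net.cons (nat_lit 4) (nat_lit 263177) (Net.cons (nat_lit 2) (nat_lit 2105907) (Net.cons (nat_lit 1) (nat_lit 4259861) Net.nil)))))))))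
noncomputable def X1_17 : Net := (Net.cons (nat_lit 1) (nat_lit 5525840) (Net.cons (nat_lit 2) (nat_lit 8960) (Net.cons (nat_lit 4) (nat_lit 786944) (Net.cons (nat_lit 8) (nat_lit 97) (Net.cons (nat_lit 16) (nat_lit 227) (Net.cons (nat_lit 8) (nat_lit 185) (Net.cons (nat_lit 4) (nat_lit 787210) (Net.cons (nat_lit 2) (nat_lit 2171698) (Net.cons (nat_lit 1) (nat_lit 5587216) Net.nil)))))))))
noncomputable def X1_18 : Net := (Net.cons (nat_lit 1) (nat_lit 87376) (Net.cons (nat_lit 2) (nat_lit 2105376) (Net.cons (nat_lit 4) (nat_lit 590080) (Net.cons (nat_lit 8) (nat_lit 14) (Net.cons (nat_lit 16) (nat_lit 79) (Net.cons (nat_lit 8) (nat_lit 205) (Net.cons (nat_lit 4) (nat_lit 1288) (Net.cons (nat_lit 2) (nat_lit 3223584) (Net.cons (nat_lit 1) (nat_lit 87376) Net.nil)))))))))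
noncomputable def X1_19 : Net := (Net.cons (nat_lit 1) (nat_lit 1311760) (Net.cons (nat_lit 2) (nat_lit 2101280) (Net.cons (nat_lit 4) (nat_lit 198144) (Net.cons (nat_lit 8) (nat_lit 232) (Net.cons (nat_lit 16) (nat_lit 252) (Net.cons (nat_lit 8) (nat_lit 212) (Net.cons (nat_lit 4) (nat_lit 198912) (Net.cons (nat_lit 2) (nat_lit 1056784) (Net.cons (nat_lit 1) (nat_lit 4280645) Net.nil)))))))))
noncomputable def X1_20 : Net := (Net.cons (nat_lit 1) (nat_lit 5308740) (Net.cons (nat_lit 2) (nat_lit 8960) (Net.cons (nat_lit 4) (nat_lit 131584) (Net.cons (nat_lit 8) (nat_lit 145) (Net.cons (nat_lit 16) (nat_lit 223) (Net.cons (nat_lit 8) (nat_lit 18) (Net.cons (nat_lit 4) (nat_lit 263174) (Net.cons (nat_lit 2) (nat_lit 3342640) (Net.cons (nat_lit 1) (nat_lit 5259605) Net.nil)))))))))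
noncomputable def X1_21 : Net := (Net.cons (nat_lit 1) (nat_lit 1311748) (Net.cons (nat_lit 2) (nat_lit 2306608) (Net.cons (nat_lit 4) (nat_lit 527104) (Net.cons (nat_lit 8) (nat_lit 112) (Net.cons (nat_lit 16) (nat_lit 121) (Net.cons (nat_lit 8) (nat_lit 182) (Net.cons (nat_lit 4) (nat_lit 657666) (Net.cons (nat_lit 2) (nat_lit 3342899) (Net.cons (nat_lit 1) (nat_lit 328769) Net.nil)))))))))
noncomputable def X1_22 : Net := (Net.cons (nat_lit 1) (nat_lit 4264260) (Net.cons (nat_lit 2) (nat_lit 2105392) (Net.cons (nat_lit 4) (nat_lit 396288) (Net.cons (nat_lit 8) (nat_lit 151) (Net.cons (nat_lit 16) (nat_lit 255) (Net.cons (nat_lit 8) (nat_lit 233) (Net.cons (nat_lit 4) (nat_lit 525327) (Net.cons (nat_lit 2) (nat_lit 2171395) (Net.cons (nat_lit 1) (nat_lit 1328145) Net.nil)))))))))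
noncomputable def X1_23 : Net := (Net.cons (nat_lit 1) (nat_lit 5574932) (Net.cons (nat_lit 2) (nat_lit 2097664) (Net.cons (nat_lit 4) (nat_lit 786432) (Net.cons (nat_lit 8) (nat_lit 64) (Net.cons (nat_lit 16) (nat_lit 198) (Net.cons (nat_lit 8) (nat_lit 105) (Net.cons (nat_lit 4) (nat_lit 65804) (Net.cons (nat_lit 2) (nat_lit 1245715) (Net.cons (nat_lit 1) (nat_lit 4474196) Net.nil)))))))))
noncomputable def X1_24 : Net := (Net.cons (nat_lit 1) (nat_lit 4521988) (Net.cons (nat_lit 2) (nat_lit 2171168) (Net.cons (nat_lit 4) (nat_lit 131840) (Net.cons (nat_lit 8) (nat_lit 133) (Net.cons (nat_lit 16) (nat_lit 135) (Net.cons (nat_lit 8) (nat_lit 206) (Net.cons (nat_lit 4) (nat_lit 855820) (Net.cons (nat_lit 2) (nat_lit 1184272) (Net.cons (nat_lit 1) (nat_lit 1070417) Net.nil)))))))))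
noncomputable def X1 : List Net := [X1_0, X1_1, X1_2, X1_3, X1_4, X1_5, X1_6, X1_7, X1_8, X1_9, X1_10, X1_11, X1_12, X1_13, X1_14, X1_15, X1_16, X1_17, X1_18, X1_19, X1_20, X1_21, X1_22, X1_23, X1_24]
noncomputable def ws : List (List Nat) := [[5, 22, 8, 11, 20, 17, 22, 19, 23], [1, 16, 13, 16, 19, 19, 23]]
noncomputable def W : List (List Nat) := [[4, 4, 2, 4, 1, 1], [1, 4, 4, 4, 1, 3], [6, 6, 8], [8, 5, 7], [9, 9, 9, 11, 11, 10], [9, 9, 9, 12, 12, 9, 9], [16, 16, 13], [18, 1, 7, 16, 10, 13, 15, 17, 17], [4, 17, 8, 15, 10, 16], [1, 4, 5, 9, 14, 15, 13, 16], [4, 2, 5, 9, 9, 13, 13, 16], [9, 17, 15], [3, 1, 17, 8, 11, 17, 15], [3, 1, 17, 8, 11, 10, 17, 17], [1, 7, 11, 10, 15, 17, 17], [1, 7, 17, 13, 15, 14], [11, 3, 3, 7, 15, 10, 13, 16], [11, 3, 3, 7, 11, 14, 15, 15, 14], [1, 4, 5, 15, 18], [4, 4, 12, 8, 9, 13, 15, 17, 17], [10, 4, 10, 17, 13, 13, 16], [18, 1, 5, 8,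 11, 18, 15, 15, 14], [9, 4, 8], [4, 2, 6, 6, 9, 13, 15, 13, 16], [6, 4, 15, 10, 18]]
noncomputable def c : List Lvl := [⟨(nat_lit 7), [[(nat_lit 1)],
  [(nat_lit 3)]], (nat_lit 4)⟩,
  ⟨(nat_lit 11), [[(nat_lit 5)],
  [(nat_lit 7)]], (nat_lit 4)⟩,
  ⟨(nat_lit 20), [[(nat_lit 9)],
  [(nat_lit 11)]], (nat_lit 3)⟩,
  ⟨(nat_lit 17), [[(nat_lit 13)],
  [(nat_lit 15)]], (nat_lit 3)⟩,
  ⟨(nat_lit 9), [[(nat_lit 17)],
  [(nat_lit 15), (nat_lit 14)]], (nat_lit 2)⟩]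
noncomputable def v : List Nat := [19, 8, 12, 22, 19]
noncomputable def Ss : List Nat := [1049216, 1050624, 131584]
noncomputable def R : Nat := 281474993487873
noncomputable def V : Nat := 37037620962041791104
noncomputable def e : Fisch.Sm := eqM (lapp X X1) R V
noncomputable def gs : List (List Nat) := [[19], [21], [23], [25], [27], [29], [31]]
noncomputable def T_0 : List PcS := [⟨2, [], []⟩, ⟨2, [9], [[7, 9]]⟩, ⟨2, [7], [[1, 3, 5], [3, 5]]⟩, ⟨2, [5], [[3], [3], []]⟩]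
noncomputable def T_1 : List PcS := [⟨2, [], [[1], [], [3], [3]]⟩, ⟨2, [], [[], [], [1], [], []]⟩, ⟨2, [], [[], [], [], [], [], []]⟩]
noncomputable def T : List PcS := lapp T_0 (T_1)
noncomputable def cS : List Lvl := [⟨0, [[29], [19], [21], [23]], 1⟩, ⟨1, [[19, 21, 25, 27], [19, 21, 23, 29, 31]], 3⟩, ⟨2, [[19, 21, 25, 27]], 1⟩]
noncomputable def uS : List (List Nat) := [[11], [1], [3], [5], [1, 3, 7, 9], [1, 3, 5, 11, 13], [1, 3, 7, 9]]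
noncomputable def Y0 : List (List Nat) := [[]]
noncomputable def E0 : List Fisch.Ent := [.split [⟨[], 0, []⟩, ⟨[], 1, []⟩]]
noncomputable def Y1 : List (List Nat) := [[], [1]]
noncomputable def E1 : List Fisch.Ent := [.split [⟨[], 0, []⟩, ⟨[], 1, []⟩], .split [⟨[], 2, []⟩, ⟨[], 3, []⟩]]
noncomputable def Y2 : List (List Nat) := [[], [3], [1], [1, 3]]
noncomputable def E2 : List Fisch.Ent := [.split [⟨[], 0, []⟩, ⟨[], 1, []⟩], .split [⟨[], 2, []⟩, ⟨[], 3, []⟩], .split [⟨[], 4, []⟩, ⟨[], 5, []⟩], .split [⟨[], 6, []⟩, ⟨[], 7, []⟩]]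
noncomputable def Y3 : List (List Nat) := [[], [5], [3], [3, 5], [1], [1, 5], [1, 3], [1, 3, 5]]
noncomputable def E3 : List Fisch.Ent := [.split [⟨[], 0, []⟩, ⟨[], 1, []⟩], .merge [1] 1 [1, 3] ⟨[], 2, []⟩, .split [⟨[], 3, []⟩, ⟨[], 4, []⟩], .merge [1] 1 [1] ⟨[], 5, []⟩, .merge [5] 1 [1, 3] ⟨[], 6, []⟩, .dead 1 [1, 3, 5], .merge [5] 1 [3] ⟨[], 7, []⟩, .dead 1 [5]]
noncomputable def Y4 : List (List Nat) := [[], [7], [5], [3], [3, 7], [3, 5], [1], [1, 3]]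
noncomputable def E4 : List Fisch.Ent := [.split [⟨[], 0, []⟩, ⟨[], 1, []⟩], .split [⟨[], 2, []⟩, ⟨[], 3, []⟩], .merge [3] 1 [1] ⟨[], 4, []⟩, .merge [5] 1 [1] ⟨[], 5, []⟩, .merge [5] 1 [1, 3] ⟨[], 6, []⟩, .dead 1 [1], .split [⟨[], 7, []⟩, ⟨[], 8, []⟩], .split [⟨[], 9, []⟩, ⟨[], 10, []⟩]]
noncomputable def Y5 : List (List Nat) := [[], [9], [7], [7, 9], [5], [3], [3, 7], [1], [1, 9], [1, 3], [1, 3, 9]]
noncomputable def E5 : List Fisch.Ent := [.split [⟨[], 0, []⟩, ⟨[], 1, []⟩], .merge [1] 1 [] ⟨[], 2, []⟩, .merge [1] 1 [] ⟨[], 3, []⟩, .merge [3] 1 [] ⟨[], 4, []⟩, .split [⟨[], 5, []⟩, ⟨[], 6, []⟩], .merge [7] 1 [] ⟨[], 7, []⟩, .dead 1 [], .merge [7] 1 [] ⟨[], 8, []⟩, .dead 1 [], .dead 1 [], .merge [9] 1 [] ⟨[], 9, []⟩]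
noncomputable def Y6 : List (List Nat) := [[], [11], [9], [7], [7, 9], [5], [5, 11], [3], [1], [1, 3, 9]]
noncomputable def E6 : List Fisch.Ent := [.split [⟨[], 0, []⟩, ⟨[], 1, []⟩], .merge [5] 1 [] ⟨[], 2, []⟩, .merge [5] 1 [] ⟨[], 3, []⟩, .dead 1 [], .merge [5] 1 [] ⟨[], 4, []⟩, .dead 1 [], .merge [5] 1 [] ⟨[], 5, []⟩, .dead 1 [], .merge [3, 9] 1 [] ⟨[], 6, []⟩, .merge [1] 1 [] ⟨[], 7, []⟩]
noncomputable def Y7 : List (List Nat) := [[], [13], [11], [9], [7, 9], [5, 11], [1], [1, 3, 9]]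
noncomputable def a0 : List Nat := [31]
noncomputable def a0T : Tr := (.sym [[1], [3]] (.cons [] 3 24 (.op 4 0 (.focus 0 (.cons [] 0 24 (.base (nat_lit 16434208) (.focus 0 (.sym [[5], [7]] (.cons [] 3 4 (.focus 1 (.op 4 0 (.focus 0 (.cons [] 0 4 (.base (nat_lit 336461) (.focus 0 (.sym [[9], [11]] (.cons [] 1 1 .triv (.cons [3] 1 0 (.op 5 0 (.and 1 0 (.dead0 0))) .nil))))) .nil)))) (.cons [2] 2 0 (.op 5 0 (.and 1 0 (.dead0 0))) .nil))))) .nil))) (.cons [3] 2 0 (.op 5 0 (.and 1 0 (.dead0 0))) .nil)))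
noncomputable def a0TK : List (List Nat) := [[33], [35], [11, 17, 15, 17, 17], [9, 9, 17, 13, 17], [17, 17], [18]]
noncomputable def a0TF : List (List Nat) := [[], [1]]
noncomputable def a0c : List Lvl := [⟨0, [[33], [35]], 2⟩, ⟨1, [[4, 6, 4, 11, 8, 16, 10, 13, 15, 17, 15, 14], [11, 17, 15]], 2⟩, ⟨2, [[11, 10, 17], [3, 1, 17, 8, 11, 17, 15, 18]], 2⟩]
noncomputable def a0q : List (List Nat) := [[21], [23], [25], [27], [29], [31]]
noncomputable def a0u : List (List Nat) := [[3], [5], [7], [9], [11], [13]]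
noncomputable def a0v_0 : List (List (List Nat)) := [[[2, 7], [5], [6, 9, 3], [9, 7], [11, 7], [11]], [[7, 1], [6, 1, 3, 1], [6, 9], [9, 7], [11, 9], [11]], [[3, 1, 3], [9, 5, 3], [5], [11, 9, 7], [11, 9], [11]], [[2], [6, 9], [1, 3, 1], [7], [9, 7], [11]]]
noncomputable def a0v_1 : List (List (List Nat)) := [[[1], [9, 5], [5, 1, 3, 1], [11, 9, 7], [11, 7], [11]], [[2], [4], [6, 1, 3, 1], [11, 9], [11, 7], [11]]]
noncomputable def a0v : List (List (List Nat)) := lapp a0v_0 (a0v_1)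
noncomputable def a0U : Tr := (.op 5 0 (.focus 0 (.sym [[1]] (.cons [] 1 1 (.focus 1 (.op 28 0 (.focus 0 (.cons [] 0 1 (.op 10 2 (.focus 0 (.cons [] 0 1 (.op 10 2 (.focus 0 (.cons [] 0 1 (.focus 7 (.op 4 2 (.op 16 0 (.focus 0 (.cons [] 0 1 .triv .nil))))) .nil))) .nil))) .nil)))) (.cons [4] 1 0 (.base (nat_lit 16436256) (.op 14 0 (.and 1 0 (.dead0 0)))) (.cons [1] 1 0 (.op 8 0 (.and 1 0 (.dead0 0))) (.cons [4, 4] 1 0 (.op 8 0 (.and 1 0 (.dead0 0))) .nil)))))))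
noncomputable def a0UK : List (List Nat) := [[3, 1, 17, 8, 11, 10, 17, 17]]
noncomputable def a0UF : List (List Nat) := [[], [7], [9], [11], [3], [5], [4], [6], [9, 7], [11, 7], [11, 9], [9, 5], [6, 9], [11, 9, 7], [1, 3, 1], [2, 3, 1], [9, 5, 3], [6, 9, 3], [5, 1, 3, 1], [6, 1, 3, 1]]
noncomputable def a0z : List Lvl := [⟨2, [[31]], 1⟩]
noncomputable def a0w : List (List Nat) := [[11]]
noncomputable def xs : List (List Nat) := [[37], [39], [41]]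
noncomputable def w : List Nat := [31]
noncomputable def xT : Tr := (.op 29 0 (.focus 0 (.sym [[1]] (.cons [] 1 1 (.focus 1 (.op 13 0 (.op 19 0 (.focus 0 (.cons [] 0 1 (.op 13 0 (.focus 0 (.cons [] 0 1 (.focus 4 (.cons [] 0 1 (.base (nat_lit 336461) (.focus 0 (.base (nat_lit 4370) (.op 7 0 (.focus 0 (.cons [] 0 1 .triv (.cons [1, 1] 0 0 (.base (nat_lit 1) (.op 5 0 (.and 1 0 (.dead0 0)))) .nil))))))) .nil)) .nil))) .nil))))) (.cons [4] 1 0 (.op 5 0 (.op 38 0 (.and 1 0 (.base (nat_lit 16436256) (.and 1 0 (.dead0 0)))))) (.cons [15, 1] 0 0 (.op 23 0 (.and 1 0 (.dead0 0))) (.cons [2, 4] 0 0 (.op 8 0 (.and 1 0 (.dead0 0))) .nil)))))))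
noncomputable def xTK : List (List Nat) := [[31]]
noncomputable def xTF : List (List Nat) := [[], [1], [3], [5], [2], [4], [6], [5, 3], [3, 5], [5, 1], [4, 1], [2, 3], [6, 3], [1, 5], [4, 5], [3, 2], [6, 2], [1, 4], [5, 4], [3, 6], [2, 6]]
noncomputable def cE : List Lvl := [⟨15, [[37], [39], [41]], 2⟩, ⟨14, [[37, 41], [39, 41]], 3⟩, ⟨18, [[39, 41]], 1⟩]
noncomputable def uE : List (List Nat) := [[1], [3], [5], [1, 5], [3, 5], [3, 5]]
noncomputable def a1 : List Nat := [43]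
noncomputable def a1T : Tr := (.sym [[1], [3]] (.cons [] 4 20 (.base (nat_lit 16436256) (.focus 0 (.op 4 0 (.focus 0 (.sym [[5], [7]] (.cons [] 2 4 (.focus 2 (.op 4 0 (.focus 0 (.cons [] 0 4 (.focus 4 (.focus 3 (.base (nat_lit 15385632) (.focus 0 (.sym [[9]] (.cons [] 3 1 (.base (nat_lit 336461) (.focus 0 (.op 4 0 (.focus 0 (.cons [] 0 1 .triv (.cons [2] 0 0 (.base (nat_lit 8) (.op 4 1 (.and 1 0 (.dead0 0)))) (.cons [1, 1] 0 0 (.base (nat_lit 32) (.op 4 4 (.and 1 0 (.dead0 0)))) (.cons [1, 3] 0 0 (.base (nat_lit 32) (.op 4 4 (.and 1 0 (.dead0 0)))) .nil)))))))) (.cons [3] 3 0 (.base (nat_lit 336461) (.op 4 0 (.and 0 1 (.dead 0)))) .nil))))))) .nil)))) (.cons [3] 3 0 (.focus 2 (.op 4 0 (.focus 0 (.cons [3, 2] 0 0 (.focus 4 (.focus 3 (.base (nat_lit 15385632) (.focus 0 (.sym [[7], [11]] (.cons [] 1 0 (.base (nat_lit 336461) (.focus 0 (.op 4 0 (.focus 0 (.cons [] 0 0 (.base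 (nat_lit 32) (.op 4 4 (.and 1 0 (.dead0 0)))) (.cons [1] 0 0 (.base (nat_lit 32) (.op 4 4 (.and 1 0 (.dead0 0)))) (.cons [4] 0 0 (.base (nat_lit 32) (.op 4 4 (.and 1 0 (.dead0 0)))) (.cons [2] 0 0 (.base (nat_lit 8) (.op 4 1 (.and 1 0 (.dead0 0)))) .nil)))))))) (.cons [2] 1 0 (.base (nat_lit 336461) (.op 4 0 (.and 0 1 (.dead 0)))) .nil))))))) .nil)))) .nil))))))) .nil))
noncomputable def a1TK : List (List Nat) := [[45], [47], [5, 16, 10, 17, 15, 15, 14], [11, 8, 10, 18, 15, 17], [14, 15, 17], [5, 16, 10, 14, 15, 13, 16]]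
noncomputable def a1TF : List (List Nat) := [[], [1]]
noncomputable def a1c : List Lvl := [⟨0, [[45], [47]], 4⟩, ⟨2, [[2, 4, 5, 8, 15, 10, 16], [2, 4, 17, 8, 14, 17, 17]], 2⟩, ⟨3, [[11, 8, 10, 18, 15, 17], [4, 4, 6, 15, 10, 15, 14]], 1⟩]
noncomputable def a2 : List Nat := [49]
noncomputable def a2T_1 : Tr := (.focus 1 (.op 2 0 (.xor 0 1 (.focus 0 (.sym [[9]] (.cons [] 1 0 (.focus 4 (.focus 1 (.xor 2 0 (.focus 0 (.cons [] 0 0 (.base (nat_lit 336461) (.op 4 1 (.and 1 0 (.dead0 0)))) (.cons [1] 0 0 (.base (nat_lit 336461) (.op 4 1 (.and 1 0 (.dead0 0)))) (.cons [3] 0 0 (.base (nat_lit 336461) (.op 4 8 (.and 1 0 (.dead0 0)))) (.cons [2] 0 0 (.base (nat_lit 336461) (.op 4 3 (.and 1 0 (.dead0 0)))) (.cons [5, 3] 0 0 (.base (nat_lit 336461) (.op 4 1 (.and 1 0 (.dead0 0)))) (.cons [2, 3] 0 0 (.base (nat_lit 336461) (.op 4 8 (.and 1 0 (.dead0 0)))) (.cons [6, 3] 0 0 (.base (nat_lit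 336461) (.op 4 6 (.and 1 0 (.dead0 0)))) (.cons [5, 1] 0 0 (.xor 4 6 (.focus 0 (.xor 5 8 (.focus 0 (.base (nat_lit 336461) (.focus 0 (.base (nat_lit 15385632) (.op 4 0 (.focus 0 (.cons [] 0 0 (.base (nat_lit 2) (.op 4 14 (.and 1 0 (.dead0 0)))) (.cons [3] 0 0 (.base (nat_lit 8) (.op 4 12 (.and 1 0 (.dead0 0)))) (.cons [2] 0 0 (.base (nat_lit 1) (.op 4 12 (.and 1 0 (.dead0 0)))) (.cons [1] 0 0 (.base (nat_lit 4) (.op 4 9 (.and 1 0 (.dead0 0)))) (.cons [1, 3] 0 0 (.base (nat_lit 2) (.op 4 7 (.and 1 0 (.dead0 0)))) (.cons [1, 1] 0 0 (.base (nat_lit 1) (.op 4 9 (.and 1 0 (.dead0 0)))) .nil))))))))))))))) (.cons [1, 3] 0 0 (.base (nat_lit 336461) (.op 4 1 (.and 1 0 (.dead0 0)))) .nil))))))))))))) (.cons [3] 0 0 (.focus 4 (.focus 1 (.xor 2 0 (.focus 0 (.sym [[9]] (.cons [] 1 0 (.base (nat_lit 336461) (.op 4 1 (.and 1 0 (.dead0 0)))) (.cons [1] 1 0 (.xor 4 6 (.focus 0 (.xor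 5 8 (.focus 0 (.base (nat_lit 336461) (.focus 0 (.base (nat_lit 15385632) (.op 4 0 (.focus 0 (.cons [] 0 0 (.base (nat_lit 4) (.op 4 9 (.and 1 0 (.dead0 0)))) (.cons [1] 0 0 (.base (nat_lit 4) (.op 4 9 (.and 1 0 (.dead0 0)))) (.cons [3] 0 0 (.base (nat_lit 2) (.op 4 7 (.and 1 0 (.dead0 0)))) (.cons [1, 1] 0 0 (.base (nat_lit 1) (.op 4 9 (.and 1 0 (.dead0 0)))) (.cons [1, 3] 0 0 (.base (nat_lit 1) (.op 4 12 (.and 1 0 (.dead0 0)))) (.cons [2, 3] 0 0 (.base (nat_lit 2) (.op 4 14 (.and 1 0 (.dead0 0)))) .nil))))))))))))))) (.cons [3] 0 0 (.base (nat_lit 336461) (.op 4 3 (.and 1 0 (.dead0 0)))) (.cons [2] 1 0 (.base (nat_lit 336461) (.op 4 1 (.and 1 0 (.dead0 0)))) (.cons [5, 3] 1 0 (.base (nat_lit 336461) (.op 4 1 (.and 1 0 (.dead0 0)))) .nil)))))))))) (.cons [2] 0 0 (.focus 4 (.focus 1 (.xor 2 0 (.focus 0 (.sym [[9]] (.cons [] 1 0 (.base (nat_lit 336461) (.op 4 6 (.and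 1 0 (.dead0 0)))) (.cons [3] 1 0 (.base (nat_lit 336461) (.op 4 1 (.and 1 0 (.dead0 0)))) (.cons [2, 3] 0 0 (.base (nat_lit 336461) (.op 4 3 (.and 1 0 (.dead0 0)))) (.cons [1, 3] 1 0 (.base (nat_lit 336461) (.op 4 1 (.and 1 0 (.dead0 0)))) (.cons [5, 1] 1 0 (.base (nat_lit 336461) (.op 4 1 (.and 1 0 (.dead0 0)))) .nil)))))))))) (.cons [1] 1 0 (.focus 4 (.focus 1 (.xor 2 0 (.focus 0 (.cons [] 0 0 (.base (nat_lit 336461) (.op 4 1 (.and 1 0 (.dead0 0)))) (.cons [2] 0 0 (.base (nat_lit 336461) (.op 4 8 (.and 1 0 (.dead0 0)))) (.cons [3] 0 0 (.base (nat_lit 336461) (.op 4 8 (.and 1 0 (.dead0 0)))) (.cons [1] 0 0 (.base (nat_lit 336461) (.op 4 1 (.and 1 0 (.dead0 0)))) (.cons [5, 3] 0 0 (.base (nat_lit 336461) (.op 4 1 (.and 1 0 (.dead0 0)))) (.cons [5, 1] 0 0 (.base (nat_lit 336461) (.op 4 1 (.and 1 0 (.dead0 0)))) (.cons [6, 3] 0 0 (.base (nat_lit 336461) (.op 4 8 (.and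 1 0 (.dead0 0)))) (.cons [1, 3] 0 0 (.base (nat_lit 336461) (.op 4 1 (.and 1 0 (.dead0 0)))) (.cons [2, 3] 0 0 (.base (nat_lit 336461) (.op 4 1 (.and 1 0 (.dead0 0)))) .nil))))))))))))) (.cons [3, 2] 1 0 (.focus 4 (.focus 1 (.xor 2 0 (.focus 0 (.cons [] 0 0 (.base (nat_lit 336461) (.op 4 1 (.and 1 0 (.dead0 0)))) (.cons [3] 0 0 (.base (nat_lit 336461) (.op 4 1 (.and 1 0 (.dead0 0)))) (.cons [2] 0 0 (.base (nat_lit 336461) (.op 4 1 (.and 1 0 (.dead0 0)))) (.cons [1] 0 0 (.xor 4 6 (.focus 0 (.xor 5 8 (.focus 0 (.base (nat_lit 336461) (.focus 0 (.op 4 5 (.xor 8 0 (.focus 0 (.op 4 10 (.xor 10 0 (.focus 0 (.cons [] 0 0 (.base (nat_lit 2) (.op 4 16 (.and 1 0 (.dead0 0)))) (.cons [3] 0 0 (.base (nat_lit 2) (.op 4 9 (.and 1 0 (.dead0 0)))) (.cons [4] 0 0 (.base (nat_lit 2) (.op 4 9 (.and 1 0 (.dead0 0)))) (.cons [2] 0 0 (.base (nat_lit 1) (.and 0 3 (.dead0 0))) (.cons [1] 0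 0 (.base (nat_lit 1) (.and 0 5 (.dead0 0))) (.cons [1, 1] 0 0 (.base (nat_lit 2) (.op 4 16 (.and 1 0 (.dead0 0)))) .nil)))))))))))))))))) (.cons [2, 3] 0 0 (.base (nat_lit 336461) (.op 4 1 (.and 1 0 (.dead0 0)))) (.cons [5, 3] 0 0 (.base (nat_lit 336461) (.op 4 1 (.and 1 0 (.dead0 0)))) (.cons [6, 3] 0 0 (.base (nat_lit 336461) (.op 4 3 (.and 1 0 (.dead0 0)))) (.cons [1, 3] 0 0 (.base (nat_lit 336461) (.op 4 6 (.and 1 0 (.dead0 0)))) (.cons [5, 1] 0 0 (.base (nat_lit 336461) (.op 4 1 (.and 1 0 (.dead0 0)))) .nil))))))))))))) (.cons [8, 2] 1 0 (.focus 4 (.focus 1 (.xor 2 0 (.focus 0 (.cons [] 0 0 (.base (nat_lit 336461) (.op 4 1 (.and 1 0 (.dead0 0)))) (.cons [1] 0 0 (.base (nat_lit 336461) (.op 4 1 (.and 1 0 (.dead0 0)))) (.cons [3] 0 0 (.base (nat_lit 336461) (.op 4 1 (.and 1 0 (.dead0 0)))) (.cons [2] 0 0 (.base (nat_lit 336461) (.op 4 1 (.and 1 0 (.dead0 0)))) (.cons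 [6, 3] 0 0 (.base (nat_lit 336461) (.op 4 1 (.and 1 0 (.dead0 0)))) (.cons [1, 3] 0 0 (.base (nat_lit 336461) (.op 4 1 (.and 1 0 (.dead0 0)))) (.cons [2, 3] 0 0 (.base (nat_lit 336461) (.op 4 1 (.and 1 0 (.dead0 0)))) (.cons [5, 1] 0 0 (.base (nat_lit 336461) (.op 4 1 (.and 1 0 (.dead0 0)))) (.cons [5, 3] 0 0 (.base (nat_lit 336461) (.op 4 8 (.and 1 0 (.dead0 0)))) .nil))))))))))))) .nil)))))))))))
noncomputable def a2T_2 : Tr := (.focus 1 (.op 2 0 (.xor 0 1 (.focus 0 (.sym [[9]] (.cons [] 1 1 (.focus 4 (.focus 1 (.xor 2 0 (.focus 0 (.cons [] 0 1 (.xor 4 6 (.focus 0 (.base (nat_lit 336461) (.focus 0 (.base (nat_lit 15385632) (.op 4 0 (.focus 0 (.cons [] 0 1 .triv (.cons [3] 0 0 (.base (nat_lit 1) (.op 4 8 (.and 1 0 (.dead0 0)))) (.cons [1] 0 0 (.base (nat_lit 1) (.op 4 11 (.and 1 0 (.dead0 0)))) (.cons [4] 0 0 (.base (nat_lit 2) (.op 4 6 (.and 1 0 (.dead0 0)))) (.cons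 [2] 0 0 (.base (nat_lit 4) (.op 4 8 (.and 1 0 (.dead0 0)))) (.cons [2, 3] 0 0 (.base (nat_lit 2) (.op 4 13 (.and 1 0 (.dead0 0)))) .nil))))))))))))) (.cons [3] 0 0 (.base (nat_lit 336461) (.op 4 1 (.and 1 0 (.dead0 0)))) (.cons [1] 0 0 (.base (nat_lit 336461) (.op 4 1 (.and 1 0 (.dead0 0)))) (.cons [2] 0 0 (.base (nat_lit 336461) (.op 4 8 (.and 1 0 (.dead0 0)))) (.cons [5, 3] 0 0 (.base (nat_lit 336461) (.op 4 3 (.and 1 0 (.dead0 0)))) (.cons [6, 3] 0 0 (.base (nat_lit 336461) (.op 4 8 (.and 1 0 (.dead0 0)))) (.cons [5, 1] 0 0 (.base (nat_lit 336461) (.op 4 1 (.and 1 0 (.dead0 0)))) (.cons [2, 3] 0 0 (.base (nat_lit 336461) (.op 4 1 (.and 1 0 (.dead0 0)))) (.cons [1, 3] 0 0 (.base (nat_lit 336461) (.op 4 6 (.and 1 0 (.dead0 0)))) .nil))))))))))))) (.cons [2] 1 0 (.focus 4 (.focus 1 (.xor 2 0 (.focus 0 (.cons [] 0 0 (.base (nat_lit 336461) (.op 4 3 (.and 1 0 (.dead0 0))))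 (.cons [2] 0 0 (.base (nat_lit 336461) (.op 4 1 (.and 1 0 (.dead0 0)))) (.cons [3] 0 0 (.base (nat_lit 336461) (.op 4 8 (.and 1 0 (.dead0 0)))) (.cons [1] 0 0 (.xor 4 6 (.focus 0 (.xor 5 8 (.focus 0 (.base (nat_lit 336461) (.focus 0 (.base (nat_lit 15385632) (.op 4 0 (.focus 0 (.cons [1] 0 0 (.base (nat_lit 2) (.op 4 14 (.and 1 0 (.dead0 0)))) (.cons [4] 0 0 (.base (nat_lit 1) (.op 4 9 (.and 1 0 (.dead0 0)))) (.cons [2] 0 0 (.base (nat_lit 2) (.op 4 14 (.and 1 0 (.dead0 0)))) (.cons [3] 0 0 (.base (nat_lit 1) (.op 4 12 (.and 1 0 (.dead0 0)))) (.cons [2, 3] 0 0 (.base (nat_lit 2) (.op 4 7 (.and 1 0 (.dead0 0)))) (.cons [1, 3] 0 0 (.base (nat_lit 2) (.op 4 7 (.and 1 0 (.dead0 0)))) .nil))))))))))))))) (.cons [5, 1] 0 0 (.base (nat_lit 336461) (.op 4 1 (.and 1 0 (.dead0 0)))) (.cons [6, 3] 0 0 (.base (nat_lit 336461) (.op 4 8 (.and 1 0 (.dead0 0)))) (.cons [1, 3] 0 0 (.base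 (nat_lit 336461) (.op 4 1 (.and 1 0 (.dead0 0)))) (.cons [5, 3] 0 0 (.base (nat_lit 336461) (.op 4 6 (.and 1 0 (.dead0 0)))) (.cons [2, 3] 0 0 (.base (nat_lit 336461) (.op 4 1 (.and 1 0 (.dead0 0)))) .nil))))))))))))) (.cons [1] 1 0 (.focus 4 (.focus 1 (.xor 2 0 (.focus 0 (.cons [] 0 0 (.base (nat_lit 336461) (.op 4 1 (.and 1 0 (.dead0 0)))) (.cons [3] 0 0 (.base (nat_lit 336461) (.op 4 8 (.and 1 0 (.dead0 0)))) (.cons [1] 0 0 (.base (nat_lit 336461) (.op 4 1 (.and 1 0 (.dead0 0)))) (.cons [2] 0 0 (.base (nat_lit 336461) (.op 4 1 (.and 1 0 (.dead0 0)))) (.cons [5, 1] 0 0 (.base (nat_lit 336461) (.op 4 1 (.and 1 0 (.dead0 0)))) (.cons [6, 3] 0 0 (.base (nat_lit 336461) (.op 4 1 (.and 1 0 (.dead0 0)))) (.cons [2, 3] 0 0 (.base (nat_lit 336461) (.op 4 1 (.and 1 0 (.dead0 0)))) (.cons [5, 3] 0 0 (.base (nat_lit 336461) (.op 4 1 (.and 1 0 (.dead0 0)))) (.cons [1, 3] 0 0 (.base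 (nat_lit 336461) (.op 4 1 (.and 1 0 (.dead0 0)))) .nil))))))))))))) (.cons [8, 2] 0 0 (.focus 4 (.focus 1 (.xor 2 0 (.focus 0 (.sym [[9]] (.cons [] 1 0 (.base (nat_lit 336461) (.op 4 1 (.and 1 0 (.dead0 0)))) (.cons [3] 0 0 (.base (nat_lit 336461) (.op 4 3 (.and 1 0 (.dead0 0)))) (.cons [1] 1 0 (.xor 4 6 (.focus 0 (.xor 5 8 (.focus 0 (.base (nat_lit 336461) (.focus 0 (.base (nat_lit 15385632) (.op 4 0 (.focus 0 (.cons [] 0 0 (.base (nat_lit 2) (.op 4 7 (.and 1 0 (.dead0 0)))) (.cons [1] 0 0 (.base (nat_lit 4) (.op 4 9 (.and 1 0 (.dead0 0)))) (.cons [3] 0 0 (.base (nat_lit 4) (.op 4 9 (.and 1 0 (.dead0 0)))) (.cons [2] 0 0 (.base (nat_lit 1) (.op 4 9 (.and 1 0 (.dead0 0)))) (.cons [1, 3] 0 0 (.base (nat_lit 2) (.op 4 14 (.and 1 0 (.dead0 0)))) (.cons [1, 1] 0 0 (.base (nat_lit 1) (.op 4 12 (.and 1 0 (.dead0 0)))) .nil))))))))))))))) (.cons [2] 1 0 (.base (nat_lit 336461)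 (.op 4 1 (.and 1 0 (.dead0 0)))) (.cons [5, 3] 1 0 (.base (nat_lit 336461) (.op 4 1 (.and 1 0 (.dead0 0)))) .nil)))))))))) (.cons [7, 2] 0 0 (.focus 4 (.focus 1 (.xor 2 0 (.focus 0 (.sym [[9]] (.cons [] 1 0 (.base (nat_lit 336461) (.op 4 6 (.and 1 0 (.dead0 0)))) (.cons [3] 0 0 (.base (nat_lit 336461) (.op 4 3 (.and 1 0 (.dead0 0)))) (.cons [1] 1 0 (.base (nat_lit 336461) (.op 4 1 (.and 1 0 (.dead0 0)))) (.cons [2] 1 0 (.base (nat_lit 336461) (.op 4 1 (.and 1 0 (.dead0 0)))) (.cons [5, 1] 1 0 (.base (nat_lit 336461) (.op 4 1 (.and 1 0 (.dead0 0)))) .nil)))))))))) (.cons [2, 2] 1 0 (.focus 4 (.focus 1 (.xor 2 0 (.focus 0 (.cons [] 0 0 (.base (nat_lit 336461) (.op 4 1 (.and 1 0 (.dead0 0)))) (.cons [3] 0 0 (.base (nat_lit 336461) (.op 4 1 (.and 1 0 (.dead0 0)))) (.cons [1] 0 0 (.base (nat_lit 336461) (.op 4 1 (.and 1 0 (.dead0 0)))) (.cons [2] 0 0 (.base (nat_lit 336461)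 (.op 4 8 (.and 1 0 (.dead0 0)))) (.cons [6, 3] 0 0 (.base (nat_lit 336461) (.op 4 1 (.and 1 0 (.dead0 0)))) (.cons [5, 1] 0 0 (.base (nat_lit 336461) (.op 4 1 (.and 1 0 (.dead0 0)))) (.cons [5, 3] 0 0 (.base (nat_lit 336461) (.op 4 1 (.and 1 0 (.dead0 0)))) (.cons [1, 3] 0 0 (.base (nat_lit 336461) (.op 4 1 (.and 1 0 (.dead0 0)))) (.cons [2, 3] 0 0 (.base (nat_lit 336461) (.op 4 1 (.and 1 0 (.dead0 0)))) .nil))))))))))))) .nil)))))))))))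
noncomputable def a2T : Tr := (.sym [[1], [3]] (.cons [] 5 10 (.base (nat_lit 16436256) (.focus 0 (.sym [[5], [7]] (.cons [] 3 2 a2T_2 (.cons [4] 3 0 a2T_1 (.cons [2] 0 0 (.focus 1 (.op 2 0 (.xor 0 1 (.focus 0 (.sym [[11], [13]] (.cons [] 2 0 (.focus 4 (.focus 1 (.xor 2 0 (.focus 0 (.sym [[5]] (.cons [] 1 0 (.base (nat_lit 336461) (.op 4 1 (.and 1 0 (.dead0 0)))) (.cons [2] 1 0 (.base (nat_lit 336461) (.op 4 3 (.and 1 0 (.dead0 0)))) (.cons [1] 1 0 (.base (nat_lit 336461) (.op 4 1 (.and 1 0 (.dead0 0)))) (.cons [3] 0 0 (.base (nat_lit 336461) (.op 4 3 (.and 1 0 (.dead0 0)))) (.cons [5, 3] 1 0 (.base (nat_lit 336461) (.op 4 1 (.and 1 0 (.dead0 0)))) .nil)))))))))) (.cons [2] 2 0 (.focus 4 (.focus 1 (.xor 2 0 (.focus 0 (.sym [[9]] (.cons [] 1 0 (.base (nat_lit 336461) (.op 4 1 (.and 1 0 (.dead0 0)))) (.cons [3] 1 0 (.base (nat_lit 336461) (.op 4 3 (.and 1 0 (.dead0 0))))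 (.cons [2] 0 0 (.base (nat_lit 336461) (.op 4 3 (.and 1 0 (.dead0 0)))) (.cons [1] 1 0 (.base (nat_lit 336461) (.op 4 1 (.and 1 0 (.dead0 0)))) (.cons [6, 3] 1 0 (.base (nat_lit 336461) (.op 4 1 (.and 1 0 (.dead0 0)))) .nil)))))))))) .nil))))))) .nil)))))) .nil))
noncomputable def a2TK : List (List Nat) := [[51], [53], [5, 8, 9, 18], [5, 8, 16, 10, 18, 15, 14], [11, 10, 13, 15, 18, 15, 14], [5, 13], [5, 10, 10, 17, 13, 18]]
noncomputable def a2TF : List (List Nat) := [[], [1]]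
noncomputable def a2c : List Lvl := [⟨0, [[51], [53]], 5⟩, ⟨1, [[2, 4, 7, 11, 14, 15, 17], [5, 10, 10, 17, 13, 18]], 2⟩, ⟨2, [[4, 1, 6, 6, 17, 10, 15, 18]], 1⟩]
noncomputable def rx : List Nat := [6, 9, 9, 13, 15, 13, 16]
noncomputable def ry : List Nat := [3, 3, 8, 15, 10, 14, 15, 13, 16]
noncomputable def Ts : List To := [⟨[], 0, []⟩, ⟨[], 1, []⟩, ⟨[2, 11, 14, 15, 15, 14], 1, []⟩, ⟨[6, 1, 8, 18, 15, 13, 16], 1, []⟩, ⟨[1, 4, 7, 10, 10], 2, []⟩, ⟨[4, 2, 7, 14, 17], 2, []⟩, ⟨[1, 3, 5, 8, 11, 10, 16], 3, []⟩, ⟨[6, 11, 18], 1, []⟩]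

end CF.Q16.M12
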