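import Cfsg.Agent.Fisch.St.Defs
import Cfsg.Agent.Bt.Res

set_option autoImplicit false
set_option maxRecDepth 1000000

namespace CF.Q16.M22

open CF.Comp CF.Fisch CF.Bt

noncomputable def X_0 : Net := (Net.cons (nat_lit 1) (nat_lit 80) (Net.cons (nat_lit 2) (nat_lit 140032) (Net.cons (nat_lit 4) (nat_lit 67840) (Net.cons (nat_lit 8) (nat_lit 3) (Net.cons (nat_lit 16) (nat_lit 119) (Net.cons (nat_lit 8) (nat_lit 13) (Net.cons (nat_lit 4) (nat_lit 132872) (Net.cons (nat_lit 2) (nat_lit 65538) (Net.cons (nat_lit 1) (nat_lit 263252) Net.nil)))))))))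
noncomputable def X_1 : Net := (Net.cons (nat_lit 1) (nat_lit 4460548) (Net.cons (nat_lit 2) (nat_lit 1052704) (Net.cons (nat_lit 4) (nat_lit 459264) (Net.cons (nat_lit 8) (nat_lit 176) (Net.cons (nat_lit 16) (nat_lit 182) (Net.cons (nat_lit 8) (nat_lit 236) (Net.cons (nat_lit 4) (nat_lit 593160) (Net.cons (nat_lit 2) (nat_lit 1254146) (Net.cons (nat_lit 1) (nat_lit 4259908) Net.nil)))))))))
noncomputable def X : List Net := [X_0, X_1]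
noncomputable def X1_0 : Net := (Net.cons (nat_lit 1) (nat_lit 5522448) (Net.cons (nat_lit 2) (nat_lit 70432) (Net.cons (nat_lit 4) (nat_lit 196608) (Net.cons (nat_lit 8) (nat_lit 146) (Net.cons (nat_lit 16) (nat_lit 186) (Net.cons (nat_lit 8) (nat_lit 116) (Net.cons (nat_lit 4) (nat_lit 197894) (Net.cons (nat_lit 2) (nat_lit 2294272) (Net.cons (nat_lit 1) (nat_lit 5263444) Net.nil)))))))))
noncomputable def X1_1 : Net := (Net.cons (nat_lit 1) (nat_lit 5264400) (Net.cons (nat_lit 2) (nat_lit 2229008) (Net.cons (nat_lit 4) (nat_lit 853504) (Net.cons (nat_lit 8) (nat_lit 75) (Net.cons (nat_lit 16) (nat_lit 107) (Net.cons (nat_lit 8) (nat_lit 35) (Net.cons (nat_lit 4) (nat_lit 855566) (Net.cons (nat_lit 2) (nat_lit 8706) (Net.cons (nat_lit 1) (nat_lit 4194384) Net.nil)))))))))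
noncomputable def X1_2 : Net := (Net.cons (nat_lit 1) (nat_lit 1396800) (Net.cons (nat_lit 2) (nat_lit 204800) (Net.cons (nat_lit 4) (nat_lit 197632) (Net.cons (nat_lit 8) (nat_lit 65) (Net.cons (nat_lit 16) (nat_lit 71) (Net.cons (nat_lit 8) (nat_lit 55) (Net.cons (nat_lit 4) (nat_lit 65800) (Net.cons (nat_lit 2) (nat_lit 139826) (Net.cons (nat_lit 1) (nat_lit 349188) Net.nil)))))))))
noncomputable def X1_3 : Net := (Net.cons (nat_lit 1) (nat_lit 5588224) (Net.cons (nat_lit 2) (nat_lit 816) (Net.cons (nat_lit 4) (nat_lit 68352) (Net.cons (nat_lit 8) (nat_lit 8) (Net.cons (nat_lit 16) (nat_lit 156) (Net.cons (nat_lit 8) (nat_lit 48) (Net.cons (nat_lit 4) (nat_lit 69378) (Net.cons (nat_lit 2) (nat_lit 2163490) (Net.cons (nat_lit 1) (nat_lit 5324868) Net.nil)))))))))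
noncomputable def X1_4 : Net := (Net.cons (nat_lit 1) (nat_lit 65812) (Net.cons (nat_lit 2) (nat_lit 1119008) (Net.cons (nat_lit 4) (nat_lit 721664) (Net.cons (nat_lit 8) (nat_lit 1) (Net.cons (nat_lit 16) (nat_lit 195) (Net.cons (nat_lit 8) (nat_lit 49) (Net.cons (nat_lit 4) (nat_lit 658182) (Net.cons (nat_lit 2) (nat_lit 1053440) (Net.cons (nat_lit 1) (nat_lit 66816) Net.nil)))))))))
noncomputable def X1_5 : Net := (Net.cons (nat_lit 1) (nat_lit 1311824) (Net.cons (nat_lit 2) (nat_lit 3146528) (Net.cons (nat_lit 4) (nat_lit 525056) (Net.cons (nat_lit 16) (nat_lit 72) (Net.cons (nat_lit 8) (nat_lit 48) (Net.cons (nat_lit 4) (nat_lit 525068) (Net.cons (nat_lit 2) (nat_lit 3277584) (Net.cons (nat_lit 1) (nat_lit 262404) Net.nil))))))))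
noncomputable def X1_6 : Net := (Net.cons (nat_lit 1) (nat_lit 17748) (Net.cons (nat_lit 2) (nat_lit 8448) (Net.cons (nat_lit 4) (nat_lit 2304) (Net.cons (nat_lit 8) (nat_lit 16) (Net.cons (nat_lit 16) (nat_lit 116) (Net.cons (nat_lit 8) (nat_lit 160) (Net.cons (nat_lit 4) (nat_lit 396554) (Net.cons (nat_lit 2) (nat_lit 1057026) (Net.cons (nat_lit 1) (nat_lit 1064960) Net.nil)))))))))
noncomputable def X1_7 : Net := (Net.cons (nat_lit 1) (nat_lit 4476944) (Net.cons (nat_lit 2) (nat_lit 74240) (Net.cons (nat_lit 4) (nat_lit 264448) (Net.cons (nat_lit 8) (nat_lit 1) (Net.cons (nat_lit 16) (nat_lit 65) (Net.cons (nat_lit 8) (nat_lit 25) (Net.cons (nat_lit 4) (nat_lit 264960) (Net.cons (nat_lit 2) (nat_lit 2302496) (Net.cons (nat_lit 1) (nat_lit 4476944) Net.nil)))))))))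
noncomputable def X1_8 : Net := (Net.cons (nat_lit 1) (nat_lit 5506112) (Net.cons (nat_lit 2) (nat_lit 2097456) (Net.cons (nat_lit 4) (nat_lit 524544) (Net.cons (nat_lit 8) (nat_lit 44) (Net.cons (nat_lit 16) (nat_lit 60) (Net.cons (nat_lit 8) (nat_lit 148) (Net.cons (nat_lit 4) (nat_lit 525070) (Net.cons (nat_lit 2) (nat_lit 204832) (Net.cons (nat_lit 1) (nat_lit 4478032) Net.nil)))))))))
noncomputable def X1_9 : Net := (Net.cons (nat_lit 1) (nat_lit 4472852) (Net.cons (nat_lit 2) (nat_lit 3150096) (Net.cons (nat_lit 4) (nat_lit 786688) (Net.cons (nat_lit 8) (nat_lit 33) (Net.cons (nat_lit 16) (nat_lit 109) (Net.cons (nat_lit 8) (nat_lit 115) (Net.cons (nat_lit 4) (nat_lit 526848) (Net.cons (nat_lit 2) (nat_lit 3277330) (Net.cons (nat_lit 1) (nat_lit 5510160) Net.nil)))))))))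
noncomputable def X1_10 : Net := (Net.cons (nat_lit 1) (nat_lit 278784) (Net.cons (nat_lit 2) (nat_lit 4352) (Net.cons (nat_lit 4) (nat_lit 262656) (Net.cons (nat_lit 8) (nat_lit 65) (Net.cons (nat_lit 16) (nat_lit 81) (Net.cons (nat_lit 8) (nat_lit 67) (Net.cons (nat_lit 4) (nat_lit 1294) (Net.cons (nat_lit 2) (nat_lit 78096) (Net.cons (nat_lit 1) (nat_lit 266308) Net.nil)))))))))
noncomputable def X1_11 : Net := (Net.cons (nat_lit 1) (nat_lit 64) (Net.cons (nat_lit 2) (nat_lit 3153920) (Net.cons (nat_lit 4) (nat_lit 788992) (Net.cons (nat_lit 8) (nat_lit 8) (Net.cons (nat_lit 16) (nat_lit 140) (Net.cons (nat_lit 8) (nat_lit 130) (Net.cons (nat_lit 4) (nat_lit 328200) (Net.cons (nat_lit 2) (nat_lit 3158032) (Net.cons (nat_lit 1) (nat_lit 64) Net.nil)))))))))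
noncomputable def X1_12 : Net := (Net.cons (nat_lit 1) (nat_lit 4276288) (Net.cons (nat_lit 2) (nat_lit 1048576) (Net.cons (nat_lit 4) (nat_lit 786432) (Net.cons (nat_lit 8) (nat_lit 8) (Net.cons (nat_lit 16) (nat_lit 172) (Net.cons (nat_lit 8) (nat_lit 162) (Net.cons (nat_lit 4) (nat_lit 396544) (Net.cons (nat_lit 2) (nat_lit 1180432) (Net.cons (nat_lit 1) (nat_lit 4281664) Net.nil)))))))))
noncomputable def X1_13 : Net := (Net.cons (nat_lit 1) (nat_lit 1048576) (Net.cons (nat_lit 2) (nat_lit 1245184) (Net.cons (nat_lit 4) (nat_lit 1536) (Net.cons (nat_lit 8) (nat_lit 20) (Net.cons (nat_lit 16) (nat_lit 86) (Net.cons (nat_lit 8) (nat_lit 60) (Net.cons (nat_lit 4) (nat_lit 1536) (Net.cons (nat_lit 2) (nat_lit 1253632) (Net.cons (nat_lit 1) (nat_lit 1048576) Net.nil)))))))))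
noncomputable def X1_14 : Net := (Net.cons (nat_lit 1) (nat_lit 320) (Net.cons (nat_lit 2) (nat_lit 2105344) (Net.cons (nat_lit 4) (nat_lit 65536) (Net.cons (nat_lit 8) (nat_lit 216) (Net.cons (nat_lit 16) (nat_lit 216) (Net.cons (nat_lit 8) (nat_lit 250) (Net.cons (nat_lit 4) (nat_lit 592394) (Net.cons (nat_lit 2) (nat_lit 2105600) (Net.cons (nat_lit 1) (nat_lit 320) Net.nil)))))))))
noncomputable def X1_15 : Net := (Net.cons (nat_lit 1) (nat_lit 4461892) (Net.cons (nat_lit 2) (nat_lit 1056800) (Net.cons (nat_lit 4) (nat_lit 590592) (Net.cons (nat_lit 8) (nat_lit 160) (Net.cons (nat_lit 16) (nat_lit 250) (Net.cons (nat_lit 8) (nat_lit 24) (Net.cons (nat_lit 4) (nat_lit 853510) (Net.cons (nat_lit 2) (nat_lit 3211536) (Net.cons (nat_lit 1) (nat_lit 5330192) Net.nil)))))))))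
noncomputable def X1_16 : Net := (Net.cons (nat_lit 1) (nat_lit 4277312) (Net.cons (nat_lit 2) (nat_lit 74240) (Net.cons (nat_lit 4) (nat_lit 395264) (Net.cons (nat_lit 8) (nat_lit 8) (Net.cons (nat_lit 16) (nat_lit 122) (Net.cons (nat_lit 8) (nat_lit 138) (Net.cons (nat_lit 4) (nat_lit 983300) (Net.cons (nat_lit 2) (nat_lit 2097170) (Net.cons (nat_lit 1) (nat_lit 4259904) Net.nil)))))))))
noncomputable def X1_17 : Net := (Net.cons (nat_lit 1) (nat_lit 4261136) (Net.cons (nat_lit 2) (nat_lit 256) (Net.cons (nat_lit 4) (nat_lit 656896) (Net.cons (nat_lit 8) (nat_lit 32) (Net.cons (nat_lit 16) (nat_lit 42) (Net.cons (nat_lit 8) (nat_lit 120) (Net.cons (nat_lit 4) (nat_lit 768) (Net.cons (nat_lit 2) (nat_lit 12576) (Net.cons (nat_lit 1) (nat_lit 4281616) Net.nil)))))))))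
noncomputable def X1_18 : Net := (Net.cons (nat_lit 1) (nat_lit 262208) (Net.cons (nat_lit 2) (nat_lit 3215360) (Net.cons (nat_lit 4) (nat_lit 786432) (Net.cons (nat_lit 8) (nat_lit 88) (Net.cons (nat_lit 16) (nat_lit 92) (Net.cons (nat_lit 8) (nat_lit 88) (Net.cons (nat_lit 4) (nat_lit 786440) (Net.cons (nat_lit 2) (nat_lit 3346448) (Net.cons (nat_lit 1) (nat_lit 262208) Net.nil)))))))))
noncomputable def X1_19 : Net := (Net.cons (nat_lit 1) (nat_lit 1315844) (Net.cons (nat_lit 2) (nat_lit 3154208) (Net.cons (nat_lit 4) (nat_lit 131584) (Net.cons (nat_lit 8) (nat_lit 197) (Net.cons (nat_lit 16) (nat_lit 253) (Net.cons (nat_lit 8) (nat_lit 87) (Net.cons (nat_lit 4) (nat_lit 721676) (Net.cons (nat_lit 2) (nat_lit 3285760) (Net.cons (nat_lit 1) (nat_lit 1377300) Net.nil)))))))))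
noncomputable def X1_20 : Net := (Net.cons (nat_lit 1) (nat_lit 1048592) (Net.cons (nat_lit 2) (nat_lit 1122816) (Net.cons (nat_lit 4) (nat_lit 395264) (Net.cons (nat_lit 8) (nat_lit 2) (Net.cons (nat_lit 16) (nat_lit 98) (Net.cons (nat_lit 8) (nat_lit 56) (Net.cons (nat_lit 4) (nat_lit 3338) (Net.cons (nat_lit 2) (nat_lit 4640) (Net.cons (nat_lit 1) (nat_lit 1070404) Net.nil)))))))))
noncomputable def X1_21 : Net := (Net.cons (nat_lit 1) (nat_lit 4164) (Net.cons (nat_lit 2) (nat_lit 8192) (Net.cons (nat_lit 4) (nat_lit 262656) (Net.cons (nat_lit 8) (nat_lit 2) (Net.cons (nat_lit 16) (nat_lit 122) (Net.cons (nat_lit 8) (nat_lit 140) (Net.cons (nat_lit 4) (nat_lit 68104) (Net.cons (nat_lit 2) (nat_lit 1249298) (Net.cons (nat_lit 1) (nat_lit 4420) Net.nil)))))))))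
noncomputable def X1_22 : Net := (Net.cons (nat_lit 1) (nat_lit 328788) (Net.cons (nat_lit 2) (nat_lit 1187872) (Net.cons (nat_lit 4) (nat_lit 592896) (Net.cons (nat_lit 8) (nat_lit 128) (Net.cons (nat_lit 16) (nat_lit 210) (Net.cons (nat_lit 8) (nat_lit 54) (Net.cons (nat_lit 4) (nat_lit 656898) (Net.cons (nat_lit 2) (nat_lit 1114402) (Net.cons (nat_lit 1) (nat_lit 83284) Net.nil)))))))))
noncomputable def X1_23 : Net := (Net.cons (nat_lit 1) (nat_lit 4211776) (Net.cons (nat_lit 2) (nat_lit 208912) (Net.cons (nat_lit 4) (nat_lit 131072) (Net.cons (nat_lit 16) (nat_lit 172) (Net.cons (nat_lit 8) (nat_lit 38) (Net.cons (nat_lit 4) (nat_lit 134156) (Net.cons (nat_lit 2) (nat_lit 2101554) (Net.cons (nat_lit 1) (nat_lit 4260176) Net.nil))))))))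
noncomputable def X1 : List Net := [X1_0, X1_1, X1_2, X1_3, X1_4, X1_5, X1_6, X1_7, X1_8, X1_9, X1_10, X1_11, X1_12, X1_13, X1_14, X1_15, X1_16, X1_17, X1_18, X1_19, X1_20, X1_21, X1_22, X1_23]
noncomputable def ws : List (List Nat) := [[14, 5, 9, 9, 15, 13, 12, 14, 18], [3, 1, 10, 15, 12, 17, 15, 18, 19]]
noncomputable def W : List (List Nat) := [[3, 1, 1, 4], [1, 1, 4, 1, 1], [6, 8, 8], [8, 6, 9, 5, 7, 10, 10], [10, 5, 7, 9, 9, 5, 7, 10, 8, 6], [14, 14, 11, 13, 12], [13, 12, 13], [8, 1, 5, 8, 18, 9, 13, 16, 18], [2, 2, 5, 8, 13, 11], [9, 3, 8, 5, 10, 13, 11, 17, 16, 18], [5, 3, 18, 6, 14, 14, 9, 13, 11, 16, 18], [10, 3, 8, 18, 14, 16, 18], [4, 2, 5, 8, 13, 9, 17, 14, 18], [5, 3, 18, 6, 13, 9, 14, 12, 15], [6, 13, 2, 9, 5, 9, 9, 12, 15], [3, 2, 8, 10, 14, 9, 18, 14, 18], [1, 8, 5, 17, 10, 18, 14], [9, 3, 8, 5, 15, 11, 18], [6, 13, 2, 9, 5, 10, 14, 9, 14, 14,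 16, 18], [6, 13, 2, 9, 5, 18, 9, 9, 12], [7, 2, 8, 11, 15, 9, 11], [10, 3, 11, 5, 15, 9, 17, 13, 17], [3, 8, 5, 8, 10, 13, 9, 12], [6, 13, 2, 10, 5, 12, 14, 15]]
noncomputable def c : List Lvl := [⟨(nat_lit 16), [[(nat_lit 1)],
  [(nat_lit 3)]], (nat_lit 3)⟩,
  ⟨(nat_lit 12), [[(nat_lit 5)],
  [(nat_lit 7)]], (nat_lit 6)⟩,
  ⟨(nat_lit 13), [[(nat_lit 9)],
  [(nat_lit 8), (nat_lit 6)]], (nat_lit 4)⟩,
  ⟨(nat_lit 19), [[(nat_lit 11)],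
  [(nat_lit 13)]], (nat_lit 3)⟩,
  ⟨(nat_lit 9), [[(nat_lit 15)],
  [(nat_lit 17)]], (nat_lit 1)⟩,
  ⟨(nat_lit 14), [[(nat_lit 16), (nat_lit 18)]], (nat_lit 1)⟩]
noncomputable def v : List Nat := [10]
noncomputable def Ss : List Nat := [74240, 28672, 541184]
noncomputable def R : Nat := 281474993487873
noncomputable def V : Nat := 152329754277216068096
noncomputable def e : Fisch.Sm := eqM (lapp X X1) R V
noncomputable def gs : List (List Nat) := [[19], [21], [23], [25], [27], [29], [31], [33]]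
noncomputable def T_0 : List PcS := [⟨2, [], []⟩, ⟨2, [7, 11], [[7, 9]]⟩, ⟨2, [3, 5, 7, 9], [[3, 5, 9], [3, 7]]⟩, ⟨2, [1, 5], [[1, 7], [1, 3], [3, 5, 7]]⟩]
noncomputable def T_1 : List PcS := [⟨2, [], [[], [3, 5], [3], [5]]⟩, ⟨2, [3], [[], [], [1, 3], [1], [3]]⟩, ⟨2, [], [[1], [1], [1], [1], [], []]⟩, ⟨2, [], [[], [], [], [], [], [], []]⟩]
noncomputable def T : List PcS := lapp T_0 (T_1)
noncomputable def cS : List Lvl := [⟨3, [[29], [19], [21], [23], [25]], 1⟩, ⟨1, [[21, 23, 31], [21, 23, 25, 27], [19, 25, 27, 29, 31, 33]], 2⟩, ⟨2, [[19, 25, 27, 29, 31, 33]], 1⟩]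
noncomputable def uS : List (List Nat) := [[11], [1], [3], [5], [7], [3, 5, 13], [3, 5, 7, 9], [1, 7, 9, 11, 13, 15], [1, 7, 9, 11, 13, 15]]
noncomputable def Y0 : List (List Nat) := [[]]
noncomputable def E0 : List Fisch.Ent := [.split [⟨[], 0, []⟩, ⟨[], 1, []⟩]]
noncomputable def Y1 : List (List Nat) := [[], [1]]
noncomputable def E1 : List Fisch.Ent := [.split [⟨[], 0, []⟩, ⟨[], 1, []⟩], .split [⟨[], 2, []⟩, ⟨[], 3, []⟩]]
noncomputable def Y2 : List (List Nat) := [[], [3], [1], [1, 3]]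
noncomputable def E2 : List Fisch.Ent := [.split [⟨[], 0, []⟩, ⟨[], 1, []⟩], .split [⟨[], 2, []⟩, ⟨[], 3, []⟩], .split [⟨[], 4, []⟩, ⟨[], 5, []⟩], .split [⟨[], 6, []⟩, ⟨[], 7, []⟩]]
noncomputable def Y3 : List (List Nat) := [[], [5], [3], [3, 5], [1], [1, 5], [1, 3], [1, 3, 5]]
noncomputable def E3 : List Fisch.Ent := [.split [⟨[], 0, []⟩, ⟨[], 1, []⟩], .split [⟨[], 2, []⟩, ⟨[], 3, []⟩], .split [⟨[], 4, []⟩, ⟨[], 5, []⟩], .split [⟨[], 6, []⟩, ⟨[], 7, []⟩], .split [⟨[], 8, []⟩, ⟨[], 9, []⟩], .split [⟨[], 10, []⟩, ⟨[], 11, []⟩], .split [⟨[], 12, []⟩, ⟨[], 13, []⟩], .split [⟨[], 14, []⟩, ⟨[], 15, []⟩]]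
noncomputable def Y4 : List (List Nat) := [[], [7], [5], [5, 7], [3], [3, 7], [3, 5], [3, 5, 7], [1], [1, 7], [1, 5], [1, 5, 7], [1, 3], [1, 3, 7], [1, 3, 5], [1, 3, 5, 7]]
noncomputable def E4 : List Fisch.Ent := [.split [⟨[], 0, []⟩, ⟨[], 1, []⟩], .dead 1 [3], .dead 1 [1, 3, 5], .split [⟨[], 2, []⟩, ⟨[], 3, []⟩], .merge [7] 1 [1] ⟨[], 4, []⟩, .merge [1] 1 [1] ⟨[], 5, []⟩, .merge [1] 1 [] ⟨[], 6, []⟩, .merge [7] 1 [3, 5] ⟨[], 7, []⟩, .merge [7] 1 [] ⟨[], 8, []⟩, .merge [5] 1 [] ⟨[], 9, []⟩, .merge [7] 1 [1] ⟨[], 10, []⟩, .merge [5] 1 [5] ⟨[], 11, []⟩, .split [⟨[], 12, []⟩, ⟨[], 13, []⟩], .dead 1 [1, 3], .dead 1 [], .split [⟨[], 14, []⟩, ⟨[], 15, []⟩]]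
noncomputable def Y5 : List (List Nat) := [[], [9], [5, 7], [5, 7, 9], [3], [3, 7], [3, 5], [3, 5, 7], [1], [1, 7], [1, 5], [1, 5, 7], [1, 3], [1, 3, 9], [1, 3, 5, 7], [1, 3, 5, 7, 9]]
noncomputable def E5 : List Fisch.Ent := [.split [⟨[], 0, []⟩, ⟨[], 1, []⟩], .split [⟨[], 2, []⟩, ⟨[], 3, []⟩], .merge [3] 1 [1] ⟨[], 4, []⟩, .merge [3] 1 [] ⟨[], 5, []⟩, .dead 1 [3], .split [⟨[], 6, []⟩, ⟨[], 7, []⟩], .split [⟨[], 8, []⟩, ⟨[], 9, []⟩], .merge [3] 1 [1] ⟨[], 10, []⟩, .merge [3] 1 [1, 3] ⟨[], 11, []⟩, .split [⟨[], 12, []⟩, ⟨[], 13, []⟩], .split [⟨[], 14, []⟩, ⟨[], 15, []⟩], .dead 1 [], .merge [5] 1 [] ⟨[], 16, []⟩, .merge [3] 1 [] ⟨[], 17, []⟩, .split [⟨[], 18, []⟩, ⟨[], 19, []⟩], .split [⟨[], 20, []⟩, ⟨[], 21, []⟩]]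
noncomputable def Y6 : List (List Nat) := [[], [11], [9], [9, 11], [5, 7], [5, 7, 9], [3, 7], [3, 7, 11], [3, 5], [3, 5, 11], [3, 5, 7], [1], [1, 7], [1, 7, 11], [1, 5], [1, 5, 11], [1, 3], [1, 3, 9], [1, 3, 5, 7], [1, 3, 5, 7, 11], [1, 3, 5, 7, 9], [1, 3, 5, 7, 9, 11]]
noncomputable def E6 : List Fisch.Ent := [.split [⟨[], 0, []⟩, ⟨[], 1, []⟩], .merge [7] 1 [] ⟨[], 2, []⟩, .merge [5] 1 [] ⟨[], 3, []⟩, .merge [3] 1 [1] ⟨[], 4, []⟩, .dead 1 [1], .merge [1, 7] 1 [] ⟨[], 5, []⟩, .dead 1 [1], .merge [5, 7] 1 [] ⟨[], 6, []⟩, .merge [11] 1 [] ⟨[], 7, []⟩, .dead 1 [1], .split [⟨[], 8, []⟩, ⟨[], 9, []⟩], .split [⟨[], 10, []⟩, ⟨[], 11, []⟩], .dead 1 [], .merge [11] 1 [1] ⟨[], 12, []⟩, .dead 1 [1], .merge [9] 1 [] ⟨[], 13, []⟩, .dead 1 [1], .merge [9] 1 [] ⟨[], 14, []⟩, .merge [5] 1 [] ⟨[], 15, []⟩, .split [⟨[], 16, []⟩, ⟨[], 17, []⟩], .merge [3] 1 [] ⟨[], 18, []⟩, .merge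 [3] 1 [] ⟨[], 19, []⟩]
noncomputable def Y7 : List (List Nat) := [[], [13], [11], [9], [9, 11], [5, 7, 9], [3, 7, 11], [3, 5], [3, 5, 7], [3, 5, 7, 13], [1], [1, 13], [1, 7, 11], [1, 5, 11], [1, 3, 9], [1, 3, 5, 7], [1, 3, 5, 7, 11], [1, 3, 5, 7, 11, 13], [1, 3, 5, 7, 9], [1, 3, 5, 7, 9, 11]]
noncomputable def E7 : List Fisch.Ent := [.split [⟨[], 0, []⟩, ⟨[], 1, []⟩], .merge [1] 1 [] ⟨[], 2, []⟩, .dead 1 [], .merge [7] 1 [] ⟨[], 3, []⟩, .merge [5] 1 [] ⟨[], 4, []⟩, .merge [11] 1 [] ⟨[], 5, []⟩, .dead 1 [], .merge [5, 7] 1 [] ⟨[], 6, []⟩, .dead 1 [], .merge [1] 1 [] ⟨[], 7, []⟩, .merge [13] 1 [] ⟨[], 8, []⟩, .dead 1 [], .split [⟨[], 9, []⟩, ⟨[], 10, []⟩], .merge [3, 7, 11] 1 [] ⟨[], 11, []⟩, .dead 1 [], .dead 1 [], .merge [3] 1 [] ⟨[], 12, []⟩, .merge [1] 1 [] ⟨[], 13, []⟩, .merge [9] 1 [] ⟨[], 14, []⟩, .merge [7] 1 [] ⟨[], 15, []⟩]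
noncomputable def Y8 : List (List Nat) := [[], [15], [13], [9], [9, 11], [5, 7, 9], [3, 5], [3, 5, 7, 13], [1], [1, 7, 11], [1, 7, 11, 15], [1, 5, 11], [1, 3, 5, 7, 11], [1, 3, 5, 7, 11, 13], [1, 3, 5, 7, 9], [1, 3, 5, 7, 9, 11]]
noncomputable def a0 : List Nat := [33]
noncomputable def a0T : Tr := (.op 2 0 (.op 5 0 (.xor 1 0 (.focus 0 (.sym [[1], [3], [5]] (.cons [] 3 48 (.op 4 0 (.focus 0 (.cons [] 0 48 (.focus 3 (.xor 5 0 (.focus 0 (.xor 6 3 (.focus 0 (.sym [[7], [9], [11]] (.cons [] 2 6 (.op 4 0 (.focus 0 (.cons [] 0 6 .triv .nil))) (.cons [1] 2 0 (.base (nat_lit 8277246) (.and 0 8 (.dead 0))) .nil)))))))) .nil))) .nil))))))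
noncomputable def a0TK : List (List Nat) := [[35], [37], [8, 1, 5, 8, 10, 15, 9, 17, 14, 16, 18], [9, 9, 12, 16, 18], [8, 6, 9, 16, 18], [8, 6, 9, 17]]
noncomputable def a0TF : List (List Nat) := [[], [1]]
noncomputable def a0c : List Lvl := [⟨1, [[35], [37], [39]], 2⟩, ⟨2, [[10, 3, 8, 14, 14, 9, 14], [15]], 2⟩, ⟨3, [[13, 2, 8, 5, 10, 14, 12, 15], [4, 2, 5, 8, 12, 14, 9]], 2⟩]
noncomputable def a1 : List Nat := [41]
noncomputable def a1T : Tr := (.op 2 0 (.op 5 0 (.xor 1 0 (.focus 0 (.sym [[1], [3]] (.cons [] 4 192 (.op 4 0 (.focus 0 (.cons [] 0 192 (.focus 4 (.base (nat_lit 8318974) (.focus 0 (.sym [[5], [7], [9]] (.cons [] 2 24 (.focus 6 (.base (nat_lit 8277246) (.focus 0 (.sym [[11], [13]] (.cons [] 2 6 .triv .nil))))) .nil))))) .nil))) .nil))))))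
noncomputable def a1TK : List (List Nat) := [[43], [45], [8, 6, 9, 15, 14, 14, 16, 18], [15, 14, 14, 16, 18], [13, 10, 13, 11, 15], [15, 14, 14], [14, 14, 17]]
noncomputable def a1TF : List (List Nat) := [[], [1]]
noncomputable def a1c : List Lvl := [⟨1, [[43], [45]], 2⟩, ⟨2, [[7, 2, 8, 14, 14, 9, 17, 14, 18], [3, 8, 11, 15, 9, 15, 14, 14, 16, 18]], 3⟩, ⟨3, [[7, 2, 8, 14, 14, 9, 12, 15], [15, 14, 14, 17]], 3⟩, ⟨4, [[6, 13, 2, 9, 5, 8, 6, 9, 15, 14, 14, 17]], 1⟩]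
noncomputable def a1q : List (List Nat) := [[33], [27, 31], [19, 29, 31], [21, 23, 25, 27]]
noncomputable def a1u : List (List Nat) := [[15], [9, 13], [1, 11, 13], [3, 5, 7, 9]]
noncomputable def a1v_0 : List (List (List Nat)) := [[[1], [5, 1], [3, 1], [7]], [[5, 3, 1], [3, 1], [1], [7, 5]], [[5, 3], [3, 1], [1], [7, 5]], [[3], [3, 1], [5, 1], [7]]]
noncomputable def a1v_1 : List (List (List Nat)) := [[[5, 3, 1], [3, 1], [5, 1], [7]], [[5, 3], [3], [3, 1], [7, 5, 3, 1]], [[5, 3], [5, 1], [5], [7, 5, 3, 1]]]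
noncomputable def a1v : List (List (List Nat)) := lapp a1v_0 (a1v_1)
noncomputable def a1U : Tr := (.base (nat_lit 8388606) (.focus 0 (.sym [[1], [3], [5], [7]] (.cons [] 1 8 (.op 4 0 (.focus 0 (.cons [] 0 8 (.base (nat_lit 8318974) (.focus 0 (.sym [[5], [9], [11]] (.cons [] 1 1 (.op 4 0 (.focus 0 (.cons [] 0 1 (.op 16 2 (.focus 0 (.cons [] 0 1 (.base (nat_lit 16392) (.focus 0 (.base (nat_lit 4194368) (.op 10 0 (.focus 0 (.cons [] 0 1 .triv .nil)))))) .nil))) .nil))) (.cons [1] 1 0 (.op 5 0 (.and 1 0 (.dead0 0))) (.cons [2] 1 0 (.op 11 0 (.and 1 0 (.dead0 0))) (.cons [11, 2] 1 0 (.op 17 0 (.and 1 0 (.dead0 0))) (.cons [5, 1] 1 0 (.op 5 0 (.and 1 0 (.dead0 0))) (.cons [7, 1] 1 0 (.op 8 0 (.and 1 0 (.dead0 0))) (.cons [5, 9, 1] 1 0 (.op 5 0 (.and 1 0 (.dead0 0))) .nil)))))))))) .nil))) (.cons [2] 1 0 (.op 5 0 (.and 1 0 (.dead0 0))) (.cons [3] 1 0 (.op 8 0 (.and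 1 0 (.dead0 0))) (.cons [1] 1 0 (.op 5 0 (.and 1 0 (.dead0 0))) (.cons [15, 2] 1 0 (.op 11 0 (.and 1 0 (.dead0 0))) (.cons [14, 3] 1 0 (.op 5 0 (.and 1 0 (.dead0 0))) (.cons [5, 3] 1 0 (.op 5 0 (.and 1 0 (.dead0 0))) (.cons [13, 2] 1 0 (.op 8 0 (.and 1 0 (.dead0 0))) .nil)))))))))))
noncomputable def a1UK : List (List Nat) := [[6, 13, 2, 9, 5, 9, 9, 12, 15], [6, 13, 2, 9, 5, 12, 14, 9, 15, 11, 16, 18], [8, 6, 9, 17, 16, 18], [6, 13, 2, 9, 5, 10, 14, 9, 14, 14, 16, 18], [10, 14, 9, 14, 14, 16, 18], [13, 10, 11, 18]]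
noncomputable def a1UF : List (List Nat) := [[], [7], [1], [3], [5], [7, 1], [7, 3], [7, 5], [3, 1], [5, 1], [5, 3], [7, 3, 1], [7, 5, 1], [7, 5, 3], [5, 3, 1], [7, 5, 3, 1]]
noncomputable def a1z : List Lvl := [⟨8, [[33], [27, 31], [19, 29, 31], [21, 23, 25, 27]], 1⟩, ⟨20, [[21, 23, 25, 27, 19, 29, 31, 27, 31]], 1⟩]
noncomputable def a1w : List (List Nat) := [[1], [3], [5], [7], [7, 5, 3]]
noncomputable def a2 : List Nat := [47]
noncomputable def a2T : Tr := (.base (nat_lit 8388606) (.focus 0 (.sym [[1], [3]] (.cons [] 4 32 (.base (nat_lit 8323070) (.focus 0 (.op 4 0 (.focus 0 (.sym [[5], [7]] (.cons [] 5 2 (.base (nat_lit 8318974) (.focus 0 (.op 4 0 (.focus 0 (.sym [[7]] (.cons [] 0 2 (.base (nat_lit 33536) (.op 4 0 (.focus 0 (.op 2 0 (.xor 0 2 (.focus 0 (.cons [] 0 2 (.base (nat_lit 33536) (.focus 0 (.op 4 0 (.focus 0 (.sym [[7]] (.cons [] 1 1 (.op 4 8 (.focus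 0 (.cons [] 0 1 .triv .nil))) .nil)))))) .nil))))))) (.cons [1] 1 0 (.base (nat_lit 8277246) (.op 4 0 (.and 0 1 (.dead 0)))) (.cons [2] 1 0 (.base (nat_lit 8277246) (.op 4 0 (.and 0 1 (.dead 0)))) (.cons [7, 2] 1 0 (.base (nat_lit 8277246) (.op 4 4 (.and 1 0 (.dead0 0)))) (.cons [3, 1] 1 0 (.base (nat_lit 8277246) (.op 4 1 (.and 1 0 (.dead0 0)))) (.cons [11, 2] 0 0 (.base (nat_lit 8277246) (.op 4 7 (.and 1 0 (.dead0 0)))) (.cons [5, 1] 1 0 (.base (nat_lit 8277246) (.op 4 7 (.and 1 0 (.dead0 0)))) (.cons [7, 1] 1 0 (.base (nat_lit 8277246) (.op 4 0 (.and 0 1 (.dead 0)))) (.cons [8, 8, 1] 1 0 (.base (nat_lit 8277246) (.op 4 0 (.and 0 1 (.dead 0)))) (.cons [2, 8, 1] 0 0 (.base (nat_lit 33536) (.op 4 0 (.focus 0 (.op 2 0 (.xor 0 2 (.focus 0 (.cons [8, 4] 0 0 (.base (nat_lit 1058) (.op 4 9 (.and 1 0 (.dead0 0)))) .nil))))))) (.cons [6, 8, 1] 0 0 (.base (nat_lit 8277246)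 (.op 4 4 (.and 1 0 (.dead0 0)))) .nil)))))))))))))))) (.cons [6, 1] 1 0 (.base (nat_lit 8318974) (.focus 0 (.op 4 0 (.focus 0 (.sym [[7], [9], [11], [13]] (.cons [] 1 0 (.base (nat_lit 8277246) (.op 4 1 (.and 1 0 (.dead0 0)))) (.cons [2] 1 0 (.base (nat_lit 33536) (.op 4 0 (.focus 0 (.op 2 0 (.xor 0 2 (.focus 0 (.cons [7, 3] 0 0 (.base (nat_lit 1058) (.op 4 6 (.and 1 0 (.dead0 0)))) .nil))))))) (.cons [1] 1 0 (.base (nat_lit 8277246) (.op 4 1 (.and 1 0 (.dead0 0)))) .nil)))))))) (.cons [15, 2] 1 0 (.base (nat_lit 8318974) (.focus 0 (.op 4 0 (.focus 0 (.sym [[9], [15], [17]] (.cons [1] 3 0 (.base (nat_lit 8277246) (.op 4 0 (.and 0 1 (.dead 0)))) (.cons [3, 1] 1 0 (.base (nat_lit 8277246) (.op 4 1 (.and 1 0 (.dead0 0)))) .nil))))))) .nil)))))))) (.cons [7, 2] 1 0 (.base (nat_lit 8323070) (.focus 0 (.op 4 0 (.focus 0 (.sym [[3], [19]] (.cons [] 4 0 (.base (nat_lit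 8318974) (.focus 0 (.op 4 0 (.focus 0 (.sym [[21], [23]] (.cons [] 4 0 (.base (nat_lit 8277246) (.op 4 0 (.and 0 1 (.dead 0)))) (.cons [9, 1] 1 0 (.base (nat_lit 8277246) (.op 4 1 (.and 1 0 (.dead0 0)))) .nil))))))) .nil)))))) .nil)))))
noncomputable def a2TK : List (List Nat) := [[49], [51], [9, 18, 6, 9, 9, 12, 14, 16, 18], [15], [11, 5, 10, 14, 9, 13, 17], [14, 5, 18, 9, 9, 17, 14], [6, 17, 10, 11, 18], [9, 5, 17, 10, 11, 17, 16, 18], [9, 18, 6, 9, 9, 12, 14, 17], [4, 10, 13, 9, 13], [2, 2, 15, 5, 9, 9, 14, 12, 17], [1, 6, 17, 10, 16, 18]]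
noncomputable def a2TF : List (List Nat) := [[], [1]]
noncomputable def a2c : List Lvl := [⟨1, [[49], [51]], 4⟩, ⟨2, [[15], [6, 2, 8, 5, 14, 9, 14, 12, 17, 16, 18]], 4⟩, ⟨3, [[10, 3, 9, 18, 6, 11, 15, 9, 17, 13]], 1⟩]
noncomputable def Ts_0 : List To := [⟨[], 0, []⟩, ⟨[], 1, []⟩, ⟨[4, 17, 6, 11, 9, 13, 11], 1, []⟩, ⟨[1, 10, 5, 9, 12], 1, []⟩, ⟨[11, 5, 15, 11], 1, []⟩, ⟨[11, 2, 8, 6, 9, 15], 3, []⟩, ⟨[2, 6, 9, 9, 12, 17, 16, 18], 1, []⟩, ⟨[10, 13], 2, []⟩, ⟨[4, 2, 11, 5, 9, 18, 14, 18], 1, []⟩, ⟨[12, 3, 10, 5, 9, 13, 18], 2, []⟩]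
noncomputable def Ts_1 : List To := [⟨[2, 6, 10, 15, 11, 15], 3, []⟩, ⟨[10, 3, 13, 6, 10, 12], 1, []⟩, ⟨[4, 12], 2, []⟩, ⟨[9, 3, 14, 5, 9, 15, 11], 3, []⟩, ⟨[4, 10, 14, 5, 10, 14, 9, 16, 18], 3, []⟩, ⟨[5, 18, 9, 9, 14, 11], 2, []⟩]
noncomputable def Ts : List To := lapp Ts_0 (Ts_1)

end CF.Q16.M22
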