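/-
Quasithin groups of even type: the small components.
-/
import Cfsg.Agent.Known.Q16.Ex
import Cfsg.Agent.Recog.Stem
import Cfsg.Agent.Schur.Crit
import Cfsg.Agent.Ok.XG
import Cfsg.Agent.S0256
import Cfsg.Agent.S0494
import Cfsg.Agent.S0495
import Cfsg.Agent.S0497
import Cfsg.Agent.S2086
import Cfsg.Agent.S2112
import Cfsg.Agent.S2601
set_option autoImplicit false
set_option linter.unusedSectionVars false

namespace CF.Q16
open Subgroup Cfsg CF.BG CF.Sig CF.CT CF.CmpT CF.PG CF.Bender CF.SM CF.Classical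
open scoped commutatorElement MatrixGroups

theorem F4.cj {H : Type*} [Group H] {Y : Subgroup H} [n : Y.Normal] {τ a b l : H} (h : F4 Y τ a b l) (g : H) :
    F4 Y (g * τ * g⁻¹) (g * a * g⁻¹) (g * b * g⁻¹) (g * l * g⁻¹) :=
  have c : ∀ {x}, x ∈ 𝐂₁ τ → g * x * g⁻¹ ∈ 𝐂₁ (g * τ * g⁻¹) := fun m => cj_cent1 g τ ▸ conj_mem_cj.2 m
  ⟨n.conj_mem _ h.ha g, n.conj_mem _ h.hb g, n.conj_mem _ h.hl g, h.ia.conj g, h.ib.conj g, by simpa using h.ne,
    by rw [conj_mul, conj_mul, h.ab], c h.ta, c h.tb, by rw [conj_pow, h.l3]; simp,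
    by rw [← h.la]; group, by rw [conj_mul (a := a), ← h.lb]; group⟩

theorem ev_sw {n : ℕ} {a b c d : Fin n} (h : a ≠ b := by decide) (h' : c ≠ d := by decide) :
    Equiv.swap a b * Equiv.swap c d ∈ alternatingGroup (Fin n) := by
  simp [Equiv.Perm.mem_alternatingGroup, h, h']

theorem sm_pgl {F : Type*} [Field F] [Finite F] (h2 : (2 : F) ≠ 0) (h3 : ∀ d : F, ¬ IsSquare d → ∃ u, 3 * u ^ 2 = d)
    {τ : PGL(2, F)} (i : Iv τ) : (∃ x ∈ psl F, x ≠ 1 ∧ x ^ 3 = 1 ∧ x ∈ 𝐂₁ τ) ∨ ∃ a b l, F4 (psl F) τ a b l := by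
  by_cases m : τ ∈ psl F
  · obtain ⟨S, l, ⟨e⟩⟩ := exists_A4_le_psl (F := F) (.inl h2)
    let f := S.subtype.comp e.symm.toMonoidHom
    have j : Function.Injective f := S.subtype_injective.comp e.symm.injective
    have q : ∀ x, f x ∈ psl F := fun x => l (e.symm x).2
    obtain ⟨a, b, c, h⟩ : ∃ a b c : alternatingGroup (Fin 4), a ≠ 1 ∧ a * a = 1 ∧ b ≠ 1 ∧ b * b = 1 ∧ a ≠ b ∧
        a * b = b * a ∧ c ^ 3 = 1 ∧ c * a * c⁻¹ = b ∧ c * b * c⁻¹ = a * b :=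
      ⟨⟨.swap 0 1 * .swap 2 3, ev_sw⟩, ⟨.swap 1 2 * .swap 0 3, ev_sw⟩, ⟨.swap 0 1 * .swap 1 2, ev_sw⟩,
        by simp only [ne_eq, Subtype.ext_iff]; decide⟩
    obtain ⟨h1, h2, h3, h4, h5, h6, h7, h8, h9⟩ := h
    have k : F4 (psl F) (f a) (f a) (f b) (f c) := ⟨q a, q b, q c, ⟨(map_ne_one_iff f j).2 h1, by rw [← map_mul, h2, map_one]⟩,
      ⟨(map_ne_one_iff f j).2 h3, by rw [← map_mul, h4, map_one]⟩, j.ne h5, by rw [← map_mul, h6, map_mul],
      self_mem_cent1 _, mem_cent1.2 (by rw [← map_mul, ← h6, map_mul]), by rw [← map_pow, h7, map_one],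
      by rw [← h8]; simp, by rw [← map_mul f a, ← h9]; simp⟩
    obtain ⟨x, hx⟩ := exists_conj_invol_PGL m i.ne i.sq
    obtain ⟨y, hy⟩ := exists_conj_invol_PGL (q a) k.ia.ne k.ia.sq
    exact .inr ⟨_, _, _, (show x⁻¹ * y * f a * (x⁻¹ * y)⁻¹ = τ by
      rw [← mul_left_cancel_iff (a := x), ← mul_right_cancel_iff (a := x⁻¹), hx, ← hy]; group) ▸ k.cj (x⁻¹ * y)⟩
  obtain ⟨a, b, c, d, h, rfl⟩ := exists_pgl τ
  have t := (sq_eq_one_iff_tau.1 i.pow2).resolve_left i.ne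
  rw [tau_pgl, div_eq_zero_iff, or_iff_left h, pow_eq_zero_iff two_ne_zero] at t
  obtain ⟨e, he⟩ := exists_conj_companion i.ne
  obtain ⟨u, hu⟩ := h3 _ (mt pgl_mem_psl.2 m)
  have u0 : u ≠ 0 := fun q => h (by rw [← hu, q]; ring)
  have n : u * u - -(a * d - b * c) * 1 = (2 * u) ^ 2 := by linear_combination -hu
  have n0 : u * u - -(a * d - b * c) * 1 ≠ 0 := n ▸ pow_ne_zero 2 (mul_ne_zero h2 u0)
  refine .inl ⟨e⁻¹ * pgl _ _ _ _ n0 * e⁻¹⁻¹, Normal.conj_mem inferInstance _ (pgl_mem_psl.2 ⟨2 * u, by rw [n, sq]⟩) _,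
    by rw [ne_eq, conj_eq_one_iff, pgl_eq_one_iff]; simp, ?_, ?_⟩
  · rw [conj_pow, pow_three_eq_one_iff_tau.2 (.inr (by rw [tau_pgl, div_eq_one_iff_eq n0, n]; ring))]; simp
  · rw [show pgl a b c d h = e⁻¹ * (e * pgl a b c d h * e⁻¹) * e⁻¹⁻¹ by group, ← cj_cent1, conj_mem_cj, he, mem_cent1,
      pgl_mul, pgl_mul, pgl_eq_pgl_iff]
    rw [t]
    exact ⟨1, by ring, by ring, by ring, by ring⟩

universe u
variable {G : Type u} [Group G] [Finite G] {L M : Subgroup G} {X : Type*} [Group X] [Finite X] {p : ℕ} {F : Prop}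

theorem card_z (L : Subgroup G) : ♯(center L) = ♯(𝐙 L) := by
  rw [← card_map_of_injective L.subtype_injective]
  exact congrArg (fun A : Subgroup G => ♯A) (le_antisymm (map_le_iff_le_comap.2 fun y a => ⟨y.2, (mem_ctr y).1 a⟩)
    fun x a => ⟨⟨x, a.1⟩, (mem_ctr _).2 a.2, rfl⟩)

theorem card_nb (L : Subgroup G) : ♯L = ♯(𝐙 L) * nb L := by
  rw [← card_inf_mul_relIndex (𝐂 L) L, inf_comm]

theorem z_dvd (h : Comp L M) (e : L ⧸ center L ≃* X) {A : Type*} [CommGroup A] (s : HasSchurMultiplier X A) :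
    ♯(𝐙 L) ∣ Nat.card A := by
  obtain ⟨a, b⟩ := Recog.stem_center h.qs.1.commutator_eq_top (.refl (L ⧸ center L))
  obtain ⟨π, q⟩ := (Schur.HasSchur.congr_left s e.symm).2 L _ a
  rw [← card_z, ← b]
  exact card_dvd_of_surjective π q

theorem not_four {K : Type*} [Field K] (h2 : (2 : K) ≠ 0) (e : L ≃* SL(2, K)) : ¬ Four L :=
  fun ⟨a, ha, b, hb, ia, ib, n, _⟩ => by
    have k : ∀ {x} (m : x ∈ L), Iv x → e ⟨x, m⟩ = -1 := fun m i => ((SL2_mul_self_eq_one_iff h2).1 (by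
      rw [← map_mul, ← map_one e]; exact congrArg e (Subtype.ext i.sq))).resolve_left
        fun q => i.ne (congrArg Subtype.val ((map_eq_one_iff e e.injective).1 q))
    exact n (congrArg Subtype.val (e.injective ((k ha ia).trans (k hb ib).symm)))

theorem z_bot (h : Comp L M) (f : Four L) {K : Type*} [Field K] [Fintype K] (c : Fintype.card K = 5 ∨ Fintype.card K = 7)
    (e : L ⧸ center L ≃* PSL(2, K)) : 𝐙 L = ⊥ := by_contra fun n => by
  have h2 : (2 : K) ≠ 0 := GW.two_ne_zero_of_odd (by rcases c with c | c <;> rw [c] <;> decide)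
  have s := Cfsg.Agent.S2086.result (F := K) rfl 2 le_rfl (fun _ => by omega) (by rcases c with c | c <;> simp [c])
  rw [show Nat.gcd 2 _ = 2 by rcases c with c | c <;> simp [c]] at s
  have d := z_dvd h e s
  obtain ⟨a, b⟩ := Recog.stem_center h.qs.1.commutator_eq_top e
  have pf := commutator_SL2_eq_top (F := K) (by rw [Nat.card_eq_fintype_card]; omega)
  obtain ⟨a', b'⟩ := Recog.stem_center pf (.refl _)
  have i : (powMonoidHom 2 : Multiplicative (ZMod 2) →* _).range.index ≤ 2 :=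
    (Nat.le_of_dvd Nat.card_pos (index_dvd_card _)).trans_eq (by simp)
  rw [show Nat.card (Multiplicative _) = 2 by simp, ← card_z] at d
  obtain ⟨q, -⟩ := Recog.stem_unique s a a' h.qs.1.commutator_eq_top pf (n := 2)
    (fun x m => orderOf_dvd_iff_pow_eq_one.1 ((orderOf_dvd_card' (b ▸ m)).trans d))
    (fun x m => by rcases mem_center_SL2_iff.1 (b' ▸ m) with rfl | rfl <;> simp)
    (i.trans (by rw [b, card_z]; exact (one_lt_card_iff_ne_bot _).2 n)) (i.trans (by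
      rw [b']
      exact (one_lt_card_iff_ne_bot _).2 fun z => neg_one_ne_one_SL2 h2 (z.le (mem_center_SL2_iff.2 (.inr rfl)))))
  exact not_four h2 q f

variable (h : Comp L M) (k : PiGrp {2} (𝐙 L))
include h k

theorem sm_out (e : L ⧸ center L ≃* X) (hp : p.Prime) (o : ¬ p ∣ Nat.card (Out X)) (x : G) (n : x ∈ 𝐍 L)
    (q : x ^ p = 1) : x ∈ L ⊔ 𝐂 L := by
  obtain ⟨φ, a⟩ := exists_act' h.perfect k e
  obtain ⟨g, m, r⟩ := a.ex ((QuotientGroup.eq_one_iff (fa φ x)).1 (orderOf_eq_one_iff.1 (Nat.eq_one_of_dvd_coprimes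
    ((Nat.Prime.coprime_iff_not_dvd hp).2 o) (orderOf_dvd_of_pow_eq_one (by
      rw [← QuotientGroup.mk_pow, ← fa_pow n, q, fa_one, QuotientGroup.mk_one])) (orderOf_dvd_natCard _))))
  have := (a.one (mul_mem (inv_mem (Act.nk m)) n)).1 (by rw [fa_mul (inv_mem (Act.nk m)) n, fa_inv (Act.nk m), r, inv_mul_cancel])
  simpa using mul_mem (mem_sup_left m) (mem_sup_right (S := L) this)

theorem sm_rank (e : L ⧸ center L ≃* X) (r : ∃ x y : X, x ≠ 1 ∧ x ^ 3 = 1 ∧ y ^ 3 = 1 ∧ y * x = x * y ∧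
    y ≠ 1 ∧ y ≠ x ∧ y ≠ x * x) (z : center X = ⊥) : 2 ≤ pRank 3 L := by
  classical
  obtain ⟨φ, a⟩ := exists_act' h.perfect k e
  obtain ⟨x, y, h1, h2, h3, h4, h5, h6, h7⟩ := r
  have j := conj_inj' z
  rw [← a.rank (by decide)]
  refine (two_elem (H := Inn X) Nat.prime_three ⟨x, rfl⟩ ⟨y, rfl⟩ ((map_ne_one_iff _ j).2 h1) (by rw [← map_pow, h2, map_one])
    (by rw [← map_pow, h3, map_one]) (mem_cent1.2 (by rw [← map_mul, h4, map_mul])) fun m => ?_).le_pRank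
  rw [← MonoidHom.map_zpowers, mem_map_iff_mem j, mem_zpowers_iff_mem_range_orderOf,
    orderOf_eq_prime h2 h1] at m
  simp [Finset.range_add_one, eq_comm (b := y), sq, h5, h6, h7] at m

theorem sm_psl (f : Four L) {K : Type} [Field K] [Fintype K] (c : Fintype.card K = 5 ∨ Fintype.card K = 7)
    (h3 : ∀ d : K, ¬ IsSquare d → ∃ u, 3 * u ^ 2 = d) (e : L ⧸ center L ≃* PSL(2, K)) (n : 3 ∣ nb L ∧ ¬ 16 ∣ nb L) :
    Sm 3 F L := by
  have p : (Fintype.card K).Prime := by rcases c with c | c <;> norm_num [c]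
  have o := p.odd_of_ne_two (by omega)
  have h2 := GW.two_ne_zero_of_odd o
  have := Fact.mk p
  obtain ⟨φ, -, -, q⟩ := Cfsg.Agent.S2602.result (F := K) (p := Fintype.card K) le_rfl (pow_one _).symm
    (by rw [pow_one]; omega)
  rw [show φ.ker = ⊤ from eq_top_iff.2 fun _ _ => Subsingleton.elim _ _, card_top, pow_one,
    Nat.gcd_eq_left (Nat.Odd.sub_odd o odd_one).two_dvd] at q
  obtain ⟨ψ, a⟩ := exists_act (Y := psl K) (eq_bot_iff.2 fun g m => SemidirectProduct.inl_injective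
    ((GW.cent_Lg h2).le (mem_cent.2 (by
      rintro _ ⟨y, a, rfl⟩
      rw [← map_mul, mem_cent.1 m y a, map_mul])))) (by
      rw [← Bt.card_out_congr (pslEquiv K), q, ← (psl K).card_mul_index, index_psl_of_odd h2]) h.perfect k (e.trans (pslEquiv K))
  have z := z_bot h f c e
  have j : ∀ {x y}, x ∈ L → y ∈ L → fa ψ x = fa ψ y → x = y := fun {x y} m m' q => mul_inv_eq_one.1 (z.le <|
    mem_inf.2 ⟨mul_mem m (inv_mem m'), (a.one (Act.nk (mul_mem m (inv_mem m')))).1 (by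
      rw [fa_mul (Act.nk m) (Act.nk (inv_mem m')), fa_inv (Act.nk m'), q, mul_inv_cancel])⟩)
  refine ⟨sm_out h k e Nat.prime_three (by rw [q]; decide), n.1.trans (nb_dvd L), fun _ => .inl n.2,
    fun q => absurd q (by decide), .inr (.inl ⟨rfl, fun τ i m c => (sm_pgl h2 h3 (a.iv i m c)).imp ?_ ?_⟩)⟩
  · rintro ⟨x, h1, h2, h3, h4⟩
    obtain ⟨y, a, b, c⟩ := a.lift Nat.prime_three (by decide) m ⟨h1, h4⟩ h3
    exact ⟨y, a.1, fun q => h2 (by simpa [q, fa_one] using c), b, a.2⟩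
  · rintro ⟨x, y, l, r⟩
    obtain ⟨x, hx, rfl⟩ := a.ex r.ha
    obtain ⟨y, hy, rfl⟩ := a.ex r.hb
    obtain ⟨l, hl, rfl⟩ := a.ex r.hl
    have n := @Act.nk G _ L
    have v : ∀ {x}, x ∈ L → Iv (fa ψ x) → Iv x := fun m i => ⟨fun q => i.ne (q ▸ fa_one),
      j (mul_mem m m) (one_mem _) (by rw [fa_mul (n m) (n m), i.sq, fa_one])⟩
    have w : ∀ {x}, x ∈ L → fa ψ x ∈ 𝐂₁ (fa ψ τ) → x ∈ 𝐂₁ τ := fun {x} s q => mem_cent1.2 (by
      have := j (conj_mem_of_norm m s) s (by rw [fa_conj m (n s), ← mem_cent1.1 q, mul_inv_cancel_right])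
      conv_lhs => rw [← this]
      group)
    exact ⟨x, y, l, hx, hy, hl, v hx r.ia, v hy r.ib, fun q => r.ne (q ▸ rfl), j (mul_mem hx hy) (mul_mem hy hx)
      (by rw [fa_mul (n hx) (n hy), fa_mul (n hy) (n hx), r.ab]), w hx r.ta, w hy r.tb,
      j (pow_mem hl 3) (one_mem _) (by rw [fa_pow (n hl), r.l3, fa_one]),
      j (conj_mem_of_norm (n hl) hx) hy (by rw [fa_conj (n hl) (n hx), r.la]),
      j (conj_mem_of_norm (n hl) hy) (mul_mem hx hy) (by rw [fa_conj (n hl) (n hy), r.lb, fa_mul (n hx) (n hy)])⟩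

omit h k in
theorem out_of {A : Type*} [Group A] {φ : X →* A} (s : Function.Surjective φ) : Nat.card X = ♯φ.ker * Nat.card A := by
  rw [← φ.ker.card_mul_index, index_ker, MonoidHom.range_eq_top.2 s, card_top]

theorem sm_A6 (e : L ⧸ center L ≃* alternatingGroup (Fin 6)) (n : nb L = 360) : Sm 3 F L := by
  have := Fintype.ofFinite (GaloisField 3 2)
  have c := GaloisField.card 3 2 (by decide)
  obtain ⟨f⟩ := PSL2_nine_equiv c
  obtain ⟨φ, s, -, q⟩ := Cfsg.Agent.S2602.result (p := 3) (f := 2) (by decide) (Nat.card_eq_fintype_card.symm.trans c)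
    (by decide)
  exact ⟨sm_out h k e Nat.prime_three (by rw [← Bt.card_out_congr f, out_of s, q]; simp),
    .trans (by rw [n]; decide) (nb_dvd L), fun _ => .inl (by rw [n]; decide), fun q => absurd q (by decide),
    .inl (sm_rank h k e ⟨⟨.swap 0 1 * .swap 1 2, ev_sw⟩, ⟨.swap 3 4 * .swap 4 5, ev_sw⟩,
      by simp only [ne_eq, Subtype.ext_iff]; decide⟩ (alternatingGroup.center_eq_bot (by simp)))⟩

theorem sm_A8 (e : L ⧸ center L ≃* alternatingGroup (Fin 8)) (z : 𝐙 L = ⊥) (hF : F) : Sm 3 F L := by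
  obtain ⟨f⟩ := Cfsg.Agent.S0256.result (ZMod.card 2)
  obtain ⟨φ, s, -, q⟩ := Cfsg.Agent.S2601.result (p := 2) (f := 1) (n := 4) le_rfl (ZMod.card 2) (by decide)
  have n : ♯L = 20160 := by
    rw [card_nb, z, card_bot, nb_eq, Nat.card_congr e.toEquiv, nat_card_alternatingGroup, Nat.card_fin]; decide
  exact ⟨sm_out h k e Nat.prime_three (by rw [← Bt.card_out_congr f, out_of s, q]; simp),
    by rw [n]; decide, fun _ => .inr ⟨hF, by rw [n]; decide⟩, fun q => absurd q (by decide),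
    .inl (sm_rank h k e ⟨⟨.swap 0 1 * .swap 1 2, ev_sw⟩, ⟨.swap 3 4 * .swap 4 5, ev_sw⟩,
      by simp only [ne_eq, Subtype.ext_iff]; decide⟩ (alternatingGroup.center_eq_bot (by simp)))⟩

theorem sm_sz (n : nb L ∣ 116480) : Sm 5 F L := by
  have := h.qs.2
  have n3 : ¬ 3 ∣ nb L := fun d => absurd (d.trans n) (by decide)
  obtain ⟨K, _, _, m, hm, hK, ⟨e⟩⟩ := Fgs1.suz_of_three (Ab2.ns_top (comp_nc h)) (nb_eq L ▸ n3)
  let D := (BN.Suz.lieD K m hK).ofEquiv e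
  have c := D.card_G
  rw [← nb_eq, Nat.card_eq_fintype_card, hK] at c
  obtain rfl : m = 1 := by_contra fun q => absurd (((pow_dvd_pow 2 (by omega : 9 ≤ (2 * m + 1) * 2)).trans
    (by rw [c, pow_mul, mul_assoc]; exact dvd_mul_right _ _)).trans n) (by decide)
  have o : Nat.card (Out (L ⧸ center L)) = 3 := (Bt.card_out_congr e).trans (Cfsg.Agent.S2126.result hm hK)
  have z := Nat.le_of_dvd Nat.card_pos (z_dvd h e (Cfsg.Agent.S2112.result hK))
  refine ⟨sm_out h k (.refl _) Nat.prime_five (by rw [o]; decide), .trans (by rw [c]; decide) (nb_dvd L),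
    fun q => absurd q (by decide), fun _ d => n3 ?_, .inr (.inr ⟨rfl, fun τ i a b => ?_⟩)⟩
  · obtain ⟨j, hj⟩ := k.card_pow
    exact (Nat.Coprime.pow_right j (by decide)).dvd_of_dvd_mul_left (hj ▸ card_nb L ▸ d)
  obtain ⟨t, ht, w, hw, rfl⟩ := (mem_sup_norm' (cent_le_norm L)).1 (sm_out h k (.refl _) p2 (by rw [o]; decide) τ a i.pow2)
  have t2 : ((⟨t, ht⟩ : L) : L ⧸ center L) * (⟨t, ht⟩ : L) = 1 := (QuotientGroup.eq_one_iff _).2 ((mem_ctr _).2 (by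
    have := i.sq
    rw [mul_assoc, ← mul_assoc w, ← mem_cent.1 hw t ht, mul_assoc, ← mul_assoc, mul_eq_one_iff_eq_inv] at this
    show t * t ∈ _
    exact this ▸ inv_mem (mul_mem hw hw)))
  obtain ⟨g, hg⟩ := D.exists_conj_mem_Z t2
  set U := ((D.conj g).U.comap (QuotientGroup.mk' _)).map L.subtype
  have l : U ≤ L := map_subtype_le _
  have cU : ♯U = ♯(𝐙 L) * 2 ^ 6 := by
    rw [card_map_of_injective L.subtype_injective, Solv.card_comap_mk', card_z,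
      (D.conj g).card_U, Nat.card_eq_fintype_card (α := K), hK, mul_comm]; rfl
  have r := card_le_of_comm (T := U) (t := t * w) (Y := 𝐙 L) (by
    rintro _ ⟨u, hu, rfl⟩
    have := (mem_ctr _).1 ((QuotientGroup.eq_one_iff (u * ⟨t, ht⟩ * u⁻¹ * ⟨t, ht⟩⁻¹)).1 (by
      have := ((D.conj g).commute_of_mem_Z hg hu).eq
      simp only [QuotientGroup.mk_mul, QuotientGroup.mk_inv]
      rw [← show _ * (u : L ⧸ center L) = (u : L ⧸ center L) * _ from this]; group))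
    have e : L.subtype u * (t * w) * (L.subtype u)⁻¹ * (t * w)⁻¹ = u * t * u⁻¹ * t⁻¹ := by
      rw [coe_subtype, mul_assoc (u : G), mul_assoc t, ← mem_cent.1 hw _ (inv_mem u.2), coe_inv]; group
    exact e ▸ ⟨(u * ⟨t, ht⟩ * u⁻¹ * ⟨t, ht⟩⁻¹).2, this⟩)
  obtain ⟨j, hj⟩ := k.card_pow
  refine ⟨U ⊓ 𝐂₁ (t * w), inf_le_inf_right _ l, PiGrp.inf_left (show PiNat _ _ by
    rw [cU, hj, ← pow_add]; exact piNat_pow_self p2 _), ?_⟩
  have s := card_inf_mul_relIndex (𝐂 L) (U ⊓ 𝐂₁ (t * w))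
  have s' := card_le_of_le (show 𝐂 L ⊓ (U ⊓ 𝐂₁ (t * w)) ≤ 𝐙 L from fun _ m => ⟨l m.2.1, m.1⟩)
  have := card_pos' (𝐙 L)
  simp only [Nat.card_eq_fintype_card (α := Multiplicative _), Fintype.card_multiplicative, Fintype.card_prod, ZMod.card] at z
  by_contra q
  nlinarith [Nat.mul_le_mul s' (not_lt.1 q)]

omit h k in
theorem sq57 : (∀ d : ZMod 5, ¬ (∃ r, d = r * r) → ∃ u, 3 * u ^ 2 = d) ∧
    ∀ d : ZMod 7, ¬ (∃ r, d = r * r) → ∃ u, 3 * u ^ 2 = d := by decide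

theorem sm_of (f : Four L) (a8 : Nonempty (L ⧸ center L ≃* alternatingGroup (Fin 8)) → 𝐙 L = ⊥) (e : E3 p F L) :
    Sm p F L := by
  have := h.qs.2
  haveI : Fact (Nat.Prime 5) := ⟨Nat.prime_five⟩
  haveI : Fact (Nat.Prime 7) := ⟨Nat.prime_seven⟩
  rcases e with ⟨rfl, n | n | n | ⟨hF, ⟨e⟩⟩⟩ | ⟨rfl, n⟩
  · obtain ⟨e⟩ := Cfsg.Agent.S0494.result (nb_eq L ▸ n)
    obtain ⟨e'⟩ := PSL2_five_equiv (Nat.card_zmod 5)
    exact sm_psl h k f (.inl (ZMod.card 5)) sq57.1 (e.trans e'.symm) (by rw [n]; decide)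
  · obtain ⟨e⟩ := Cfsg.Agent.S0495.result (nb_eq L ▸ n) (ZMod.card 7)
    exact sm_psl h k f (.inr (ZMod.card 7)) sq57.2 e (by rw [n]; decide)
  · obtain ⟨e⟩ := Cfsg.Agent.S0497.result (nb_eq L ▸ n)
    exact sm_A6 h k e n
  · exact sm_A8 h k e (a8 ⟨e⟩) hF
  · exact sm_sz h k n

end CF.Q16
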